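import Cfsg.Prelude.Def_Blocks
import Mathlib.RingTheory.LocalRing.ResidueField.Basic
import Mathlib.RingTheory.Algebraic.Integral
import Mathlib.Algebra.CharP.Quotient
import Mathlib.RingTheory.IntegralClosure.IntegrallyClosed
import Mathlib.RingTheory.Polynomial.RationalRoot
import Mathlib.Algebra.CharP.Lemmas

/-!
# The local ring of the algebraic integers at a maximal ideal above p

`localRing M` is the subring of `ℂ` of the numbers satisfying `Cfsg.MemLocalRing M`; it is local,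
its maximal ideal consists of the numbers satisfying `Cfsg.MemLocalIdeal M`, and
`red M : localRing M →+* Res M` is the reduction to the residue field.
-/

set_option autoImplicit false
set_option linter.style.haveILetI false

namespace CfsgLib.Blocks

open Cfsg

theorem IsPModular.isMaximal {p : ℕ} {M : Ideal AlgInt} (hM : Cfsg.IsPModular p M) :
    M.IsMaximal := hM.2.1

theorem IsPModular.isPrime {p : ℕ} {M : Ideal AlgInt} (hM : Cfsg.IsPModular p M) :
    M.IsPrime := hM.2.1.isPrime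

theorem IsPModular.natCast_mem_iff {p : ℕ} {M : Ideal AlgInt} (hM : Cfsg.IsPModular p M)
    (n : ℕ) : (n : AlgInt) ∈ M ↔ p ∣ n := by
  obtain ⟨hp, hmax, hpM⟩ := hM
  constructor
  · intro hn
    by_contra hd
    have hc : Nat.Coprime p n := hp.coprime_iff_not_dvd.2 hd
    have hb : ((Int.gcd (p : ℤ) n : ℤ) : AlgInt) ∈ M := by
      rw [Int.gcd_eq_gcd_ab]
      push_cast
      exact M.add_mem (M.mul_mem_right _ hpM) (M.mul_mem_right _ hn)
    rw [Int.gcd_natCast_natCast, hc.gcd_eq_one] at hb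
    exact hmax.ne_top (M.eq_top_iff_one.2 (by simpa using hb))
  · rintro ⟨m, rfl⟩
    push_cast
    exact M.mul_mem_right _ hpM

variable (M : Ideal AlgInt)

section Prime

variable [M.IsPrime]

theorem coe_ne_zero {M : Ideal AlgInt} {b : AlgInt} (hb : b ∉ M) : (b : ℂ) ≠ 0 := by
  intro h
  exact hb (by rw [show b = 0 from Subtype.ext h]; exact M.zero_mem)

/-- The local ring at `M`, as a subring of `ℂ`. -/
def localRing : Subring ℂ where
  carrier := {z | Cfsg.MemLocalRing M z}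
  zero_mem' := ⟨0, 1, ‹M.IsPrime›.one_notMem, by simp⟩
  one_mem' := ⟨1, 1, ‹M.IsPrime›.one_notMem, by simp⟩
  add_mem' := by
    rintro _ _ ⟨a, b, hb, rfl⟩ ⟨c, d, hd, rfl⟩
    exact ⟨a * d + b * c, b * d, ‹M.IsPrime›.mul_notMem hb hd, by
      rw [div_add_div _ _ (coe_ne_zero hb) (coe_ne_zero hd)]; push_cast; rfl⟩
  mul_mem' := by
    rintro _ _ ⟨a, b, hb, rfl⟩ ⟨c, d, hd, rfl⟩
    exact ⟨a * c, b * d, ‹M.IsPrime›.mul_notMem hb hd, by
      rw [div_mul_div_comm]; push_cast; rfl⟩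
  neg_mem' := by
    rintro _ ⟨a, b, hb, rfl⟩
    exact ⟨-a, b, hb, by push_cast; rw [neg_div]⟩

variable {M}

theorem mem_localRing {z : ℂ} : z ∈ localRing M ↔ Cfsg.MemLocalRing M z := Iff.rfl

theorem memLocalRing_coe (a : AlgInt) : Cfsg.MemLocalRing M (a : ℂ) :=
  ⟨a, 1, ‹M.IsPrime›.one_notMem, by simp⟩

theorem memLocalRing_of_isIntegral {z : ℂ} (h : IsIntegral ℤ z) : Cfsg.MemLocalRing M z :=
  memLocalRing_coe (M := M) ⟨z, h⟩

/-- The inclusion of the algebraic integers into the local ring. -/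
def ofAlgInt (M : Ideal AlgInt) [M.IsPrime] : AlgInt →+* localRing M where
  toFun a := ⟨a, memLocalRing_coe a⟩
  map_one' := rfl
  map_mul' _ _ := rfl
  map_zero' := rfl
  map_add' _ _ := rfl

@[simp] theorem coe_ofAlgInt (a : AlgInt) : ((ofAlgInt M a : localRing M) : ℂ) = (a : ℂ) := rfl

theorem exists_mul_ofAlgInt (x : localRing M) :
    ∃ a b : AlgInt, b ∉ M ∧ x * ofAlgInt M b = ofAlgInt M a := by
  obtain ⟨a, b, hb, h⟩ := x.2
  exact ⟨a, b, hb, Subtype.ext (by
    simp only [Subring.coe_mul, coe_ofAlgInt, ← h]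
    exact div_mul_cancel₀ _ (coe_ne_zero hb))⟩

theorem isUnit_ofAlgInt {b : AlgInt} (hb : b ∉ M) : IsUnit (ofAlgInt M b) := by
  refine .of_mul_eq_one (⟨(1 : ℂ) / b, ⟨1, b, hb, by simp⟩⟩ : localRing M) ?_
  exact Subtype.ext (by simp [coe_ne_zero hb])

theorem ofAlgInt_mem_nonunits {a : AlgInt} (ha : a ∈ M) : ¬ IsUnit (ofAlgInt M a) := by
  intro h
  obtain ⟨x, hx⟩ := h.exists_right_inv
  obtain ⟨c, d, hd, hcd⟩ := exists_mul_ofAlgInt x
  have h1 : ofAlgInt M d = ofAlgInt M (a * c) := by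
    rw [map_mul, ← hcd, ← mul_assoc, hx, one_mul]
  have h2 : d = a * c := Subtype.ext (congrArg Subtype.val h1 : _)
  exact hd (h2 ▸ M.mul_mem_right _ ha)

theorem not_isUnit_iff (x : localRing M) :
    ¬ IsUnit x ↔ Cfsg.MemLocalIdeal M (x : ℂ) := by
  constructor
  · intro hx
    obtain ⟨a, b, hb, h⟩ := x.2
    refine ⟨a, b, ?_, hb, h⟩
    by_contra ha
    refine hx (.of_mul_eq_one ⟨(b : ℂ) / a, ⟨b, a, ha, rfl⟩⟩ ?_)
    exact Subtype.ext (by
      simp only [Subring.coe_mul, ← h, Subring.coe_one]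
      field_simp [coe_ne_zero hb, coe_ne_zero ha])
  · rintro ⟨a, b, ha, hb, h⟩ hu
    refine ofAlgInt_mem_nonunits ha ?_
    have : x * ofAlgInt M b = ofAlgInt M a := Subtype.ext (by
      simp only [Subring.coe_mul, coe_ofAlgInt, ← h]
      exact div_mul_cancel₀ _ (coe_ne_zero hb))
    exact this ▸ hu.mul (isUnit_ofAlgInt hb)

theorem memLocalIdeal_add {z w : ℂ} (hz : Cfsg.MemLocalIdeal M z)
    (hw : Cfsg.MemLocalIdeal M w) : Cfsg.MemLocalIdeal M (z + w) := by
  obtain ⟨a, b, ha, hb, rfl⟩ := hz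
  obtain ⟨c, d, hc, hd, rfl⟩ := hw
  exact ⟨a * d + b * c, b * d, M.add_mem (M.mul_mem_right _ ha) (M.mul_mem_left _ hc),
    ‹M.IsPrime›.mul_notMem hb hd,
    by rw [div_add_div _ _ (coe_ne_zero hb) (coe_ne_zero hd)]; push_cast; rfl⟩

instance localRing_isLocalRing : IsLocalRing (localRing M) :=
  .of_nonunits_add fun {x y} hx hy => by
    rw [mem_nonunits_iff, not_isUnit_iff] at *
    exact memLocalIdeal_add hx hy

theorem memLocalIdeal_iff_exists {z : ℂ} : Cfsg.MemLocalIdeal M z ↔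
    ∃ h : Cfsg.MemLocalRing M z,
      (⟨z, h⟩ : localRing M) ∈ IsLocalRing.maximalIdeal (localRing M) := by
  simp only [IsLocalRing.mem_maximalIdeal, mem_nonunits_iff, not_isUnit_iff]
  exact ⟨fun h => ⟨by obtain ⟨a, b, -, hb, e⟩ := h; exact ⟨a, b, hb, e⟩, h⟩, fun ⟨_, h⟩ => h⟩

theorem memLocalRing_of_memLocalIdeal {z : ℂ} (h : Cfsg.MemLocalIdeal M z) :
    Cfsg.MemLocalRing M z := (memLocalIdeal_iff_exists.1 h).1

variable (M)

/-- The residue field at `M`. -/
abbrev Res : Type := IsLocalRing.ResidueField (localRing M)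

/-- Reduction modulo the maximal ideal of the local ring. -/
noncomputable def red : localRing M →+* Res M := IsLocalRing.residue (localRing M)

variable {M}

theorem red_eq_zero_iff {x : localRing M} :
    red M x = 0 ↔ Cfsg.MemLocalIdeal M (x : ℂ) := by
  rw [red, IsLocalRing.residue_eq_zero_iff, IsLocalRing.mem_maximalIdeal, mem_nonunits_iff,
    not_isUnit_iff]

theorem red_ne_zero_iff {x : localRing M} : red M x ≠ 0 ↔ IsUnit x := by
  rw [ne_eq, red_eq_zero_iff, ← not_isUnit_iff, not_not]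

theorem red_eq_red_iff {x y : localRing M} :
    red M x = red M y ↔ Cfsg.MemLocalIdeal M ((x : ℂ) - y) := by
  rw [← sub_eq_zero, ← map_sub, red_eq_zero_iff]; rfl

theorem red_surjective : Function.Surjective (red M) := IsLocalRing.residue_surjective

theorem memLocalIdeal_zero : Cfsg.MemLocalIdeal M 0 :=
  ⟨0, 1, M.zero_mem, ‹M.IsPrime›.one_notMem, by simp⟩

theorem memLocalIdeal_mul_left {z w : ℂ} (hw : Cfsg.MemLocalRing M w)
    (hz : Cfsg.MemLocalIdeal M z) : Cfsg.MemLocalIdeal M (w * z) := by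
  obtain ⟨a, b, ha, hb, rfl⟩ := hz
  obtain ⟨c, d, hd, rfl⟩ := hw
  exact ⟨c * a, d * b, M.mul_mem_left _ ha, ‹M.IsPrime›.mul_notMem hd hb,
    by rw [div_mul_div_comm]; push_cast; rfl⟩

theorem memLocalIdeal_mul_right {z w : ℂ} (hz : Cfsg.MemLocalIdeal M z)
    (hw : Cfsg.MemLocalRing M w) : Cfsg.MemLocalIdeal M (z * w) := by
  rw [mul_comm]; exact memLocalIdeal_mul_left hw hz

omit [M.IsPrime] in
theorem memLocalIdeal_neg {z : ℂ} (hz : Cfsg.MemLocalIdeal M z) :
    Cfsg.MemLocalIdeal M (-z) := by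
  obtain ⟨a, b, ha, hb, rfl⟩ := hz
  exact ⟨-a, b, M.neg_mem ha, hb, by push_cast; rw [neg_div]⟩

theorem memLocalIdeal_sub {z w : ℂ} (hz : Cfsg.MemLocalIdeal M z)
    (hw : Cfsg.MemLocalIdeal M w) : Cfsg.MemLocalIdeal M (z - w) := by
  rw [sub_eq_add_neg]; exact memLocalIdeal_add hz (memLocalIdeal_neg hw)

theorem memLocalIdeal_sum {ι : Type*} (s : Finset ι) {f : ι → ℂ}
    (h : ∀ i ∈ s, Cfsg.MemLocalIdeal M (f i)) : Cfsg.MemLocalIdeal M (∑ i ∈ s, f i) :=
  Finset.sum_induction _ _ (fun _ _ => memLocalIdeal_add) memLocalIdeal_zero h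

theorem not_memLocalIdeal_one : ¬ Cfsg.MemLocalIdeal M 1 := fun h =>
  (not_isUnit_iff (1 : localRing M)).2 h isUnit_one

theorem memLocalIdeal_coe_iff (a : AlgInt) : Cfsg.MemLocalIdeal M (a : ℂ) ↔ a ∈ M := by
  refine ⟨fun h => ?_, fun h => ⟨a, 1, h, ‹M.IsPrime›.one_notMem, by simp⟩⟩
  by_contra ha
  exact (not_isUnit_iff (ofAlgInt M a)).2 h (isUnit_ofAlgInt ha)

theorem memLocalRing_natCast (n : ℕ) : Cfsg.MemLocalRing M (n : ℂ) := by
  simpa using memLocalRing_coe (M := M) (n : AlgInt)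

theorem red_ofAlgInt_eq_zero_iff (a : AlgInt) : red M (ofAlgInt M a) = 0 ↔ a ∈ M := by
  rw [red_eq_zero_iff, coe_ofAlgInt, memLocalIdeal_coe_iff]

end Prime

section PModular

variable {M} {p : ℕ}

theorem memLocalIdeal_natCast_iff [M.IsPrime] (hM : Cfsg.IsPModular p M) (n : ℕ) :
    Cfsg.MemLocalIdeal M (n : ℂ) ↔ p ∣ n := by
  rw [← IsPModular.natCast_mem_iff hM n, ← memLocalIdeal_coe_iff]; simp

theorem memLocalRing_natCast_inv [M.IsPrime] (hM : Cfsg.IsPModular p M) {n : ℕ} (hn : ¬ p ∣ n) :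
    Cfsg.MemLocalRing M ((n : ℂ)⁻¹) := by
  rw [← IsPModular.natCast_mem_iff hM n] at hn
  exact ⟨1, n, hn, by simp⟩

theorem isUnit_natCast [M.IsPrime] (hM : Cfsg.IsPModular p M) {n : ℕ} (hn : ¬ p ∣ n) :
    IsUnit (n : localRing M) := by
  rw [← IsPModular.natCast_mem_iff hM n] at hn
  simpa using isUnit_ofAlgInt hn

theorem charP_res [M.IsPrime] (hM : Cfsg.IsPModular p M) : CharP (Res M) p where
  cast_eq_zero_iff n := by
    rw [← map_natCast (red M), red_eq_zero_iff]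
    simpa using memLocalIdeal_natCast_iff hM n

theorem red_natCast_eq_zero_iff [M.IsPrime] (hM : Cfsg.IsPModular p M) (n : ℕ) :
    ((n : Res M) = 0) ↔ p ∣ n := by
  haveI := charP_res hM
  exact CharP.cast_eq_zero_iff (Res M) p n

/-- A root of unity of p-power order is congruent to one. -/
theorem red_eq_one_of_pow_eq_one [M.IsPrime] (hM : Cfsg.IsPModular p M) {z : localRing M}
    {k : ℕ} (hz : z ^ (p ^ k) = 1) : red M z = 1 := by
  haveI : Fact p.Prime := ⟨hM.1⟩
  haveI := charP_res hM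
  have h : red M z ^ (p ^ k) = 1 := by rw [← map_pow, hz, map_one]
  have h2 : (red M z - 1) ^ (p ^ k) = 0 := by rw [sub_pow_char_pow, h, one_pow, sub_self]
  exact sub_eq_zero.1 (eq_zero_of_pow_eq_zero h2)

/-- Maximal ideals of the algebraic integers above every prime exist. -/
theorem exists_isPModular (p : ℕ) (hp : p.Prime) : ∃ M : Ideal AlgInt, Cfsg.IsPModular p M := by
  have hne : Ideal.span {(p : AlgInt)} ≠ ⊤ := by
    intro h
    rw [Ideal.span_singleton_eq_top] at h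
    obtain ⟨x, hx⟩ := h.exists_right_inv
    have hi : IsIntegral ℤ ((p : ℂ)⁻¹) := by
      have hx' : (p : ℂ) * (x : ℂ) = 1 := by simpa using congrArg Subtype.val hx
      rw [inv_eq_of_mul_eq_one_right hx']
      exact x.2
    have hq : IsIntegral ℤ ((p : ℚ)⁻¹) := by
      refine (isIntegral_algebraMap_iff (A := ℚ) (B := ℂ) (algebraMap ℚ ℂ).injective).1 ?_
      simpa using hi
    obtain ⟨m, hm⟩ := (IsIntegrallyClosed.isIntegral_iff (R := ℤ) (K := ℚ)).1 hq
    have hpm : (p : ℤ) * m = 1 := by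
      have hp0 : (p : ℚ) ≠ 0 := by exact_mod_cast hp.ne_zero
      have : ((p : ℤ) : ℚ) * (m : ℚ) = 1 := by
        simp only [eq_intCast] at hm; rw [hm]; simp [hp0]
      exact_mod_cast this
    have h1 : (p : ℤ) ∣ 1 := Dvd.intro _ hpm
    exact hp.one_lt.ne' (by exact_mod_cast Int.eq_one_of_dvd_one (by positivity) h1)
  obtain ⟨M, hM, hle⟩ := Ideal.exists_le_maximal _ hne
  exact ⟨M, hp, hM, hle (Ideal.mem_span_singleton_self _)⟩

end PModular

end CfsgLib.Blocks
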