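import Mathlib.GroupTheory.Sylow
import Mathlib.GroupTheory.Subgroup.Centralizer

/-!
# Sylow subgroups of a subgroup, as subgroups of the ambient group

`IsSylowIn p K D` says that `D` is a Sylow `p`-subgroup of `K`.
-/

set_option autoImplicit false
set_option linter.style.haveILetI false
set_option linter.unusedSectionVars false

namespace CfsgLib.Blocks

open scoped Pointwise

variable {G : Type*} [Group G] {p : ℕ}

/-- `D` is a Sylow `p`-subgroup of `K`. -/
def IsSylowIn (p : ℕ) (K D : Subgroup G) : Prop :=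
  D ≤ K ∧ IsPGroup p D ∧ ¬ p ∣ D.relIndex K

variable [Finite G] [Fact p.Prime]

theorem isSylowIn_iff {K D : Subgroup G} :
    IsSylowIn p K D ↔ ∃ S : Sylow p K, (S : Subgroup K).map K.subtype = D := by
  constructor
  · rintro ⟨hle, hp, hi⟩
    refine ⟨(hp.comap_subtype (K := K)).toSylow hi, ?_⟩
    exact Subgroup.map_subgroupOf_eq_of_le hle
  · rintro ⟨S, rfl⟩
    refine ⟨Subgroup.map_subtype_le _, S.isPGroup'.map _, ?_⟩
    rw [Subgroup.relIndex, Subgroup.subgroupOf,
      Subgroup.comap_map_eq_self_of_injective K.subtype_injective]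
    exact S.not_dvd_index

theorem isSylowIn_map_subtype {K : Subgroup G} (S : Sylow p K) :
    IsSylowIn p K ((S : Subgroup K).map K.subtype) := isSylowIn_iff.2 ⟨S, rfl⟩

theorem exists_isSylowIn_ge {K Q : Subgroup G} (hQ : IsPGroup p Q) (hle : Q ≤ K) :
    ∃ D, IsSylowIn p K D ∧ Q ≤ D := by
  obtain ⟨S, hS⟩ := (hQ.comap_subtype (K := K)).exists_le_sylow
  refine ⟨_, isSylowIn_map_subtype S, ?_⟩
  rw [← Subgroup.map_subgroupOf_eq_of_le hle]
  exact Subgroup.map_mono hS

theorem IsSylowIn.exists_conj {K D E : Subgroup G} (hD : IsSylowIn p K D)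
    (hE : IsSylowIn p K E) : ∃ k ∈ K, D.map (MulAut.conj k).toMonoidHom = E := by
  obtain ⟨S, rfl⟩ := isSylowIn_iff.1 hD
  obtain ⟨T, rfl⟩ := isSylowIn_iff.1 hE
  obtain ⟨k, rfl⟩ := MulAction.exists_smul_eq K S T
  refine ⟨k, k.2, ?_⟩
  ext x
  simp only [Subgroup.mem_map, Sylow.coe_subgroup_smul, Subgroup.mem_smul_pointwise_iff_exists]
  constructor
  · rintro ⟨_, ⟨s, hs, rfl⟩, rfl⟩
    exact ⟨MulAut.conj k s, ⟨s, hs, rfl⟩, rfl⟩
  · rintro ⟨_, ⟨s, hs, rfl⟩, rfl⟩
    exact ⟨s, ⟨s, hs, rfl⟩, rfl⟩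

theorem IsSylowIn.exists_le_conj {K D Q : Subgroup G} (hD : IsSylowIn p K D)
    (hQ : IsPGroup p Q) (hle : Q ≤ K) :
    ∃ k ∈ K, Q ≤ D.map (MulAut.conj k).toMonoidHom := by
  obtain ⟨E, hE, hQE⟩ := exists_isSylowIn_ge hQ hle
  obtain ⟨k, hk, rfl⟩ := hD.exists_conj hE
  exact ⟨k, hk, hQE⟩

theorem IsSylowIn.card_eq {K D : Subgroup G} (hD : IsSylowIn p K D) :
    Nat.card D = p ^ (Nat.card K).factorization p := by
  obtain ⟨S, rfl⟩ := isSylowIn_iff.1 hD
  rw [Subgroup.card_map_of_injective K.subtype_injective]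
  exact S.card_eq_multiplicity

theorem IsSylowIn.eq_of_le {K D Q : Subgroup G} (hD : IsSylowIn p K D) (hQ : IsPGroup p Q)
    (hle : Q ≤ K) (h : D ≤ Q) : Q = D := by
  obtain ⟨k, -, hk⟩ := hD.exists_le_conj hQ hle
  refine (Subgroup.eq_of_le_of_card_ge h ?_).symm
  rw [← Subgroup.card_map_of_injective (f := (MulAut.conj k).toMonoidHom) (K := D) (MulAut.conj k).injective]
  exact Subgroup.card_le_of_le hk

theorem IsSylowIn.conj {K D : Subgroup G} (hD : IsSylowIn p K D) (g : G) :
    IsSylowIn p (K.map (MulAut.conj g).toMonoidHom) (D.map (MulAut.conj g).toMonoidHom) :=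
  ⟨Subgroup.map_mono hD.1, hD.2.1.map _, by
    rw [Subgroup.relIndex_map_map_of_injective _ _ (MulAut.conj g).injective]; exact hD.2.2⟩

omit [Finite G] [Fact p.Prime] in
theorem centralizer_singleton_conj (g x : G) :
    Subgroup.centralizer ({g * x * g⁻¹} : Set G) =
      (Subgroup.centralizer ({x} : Set G)).map (MulAut.conj g).toMonoidHom := by
  ext y
  rw [Subgroup.mem_map_equiv, Subgroup.mem_centralizer_singleton_iff,
    Subgroup.mem_centralizer_singleton_iff, MulAut.conj_symm_apply]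
  constructor
  · intro h
    calc g⁻¹ * y * g * x = g⁻¹ * (y * (g * x * g⁻¹)) * g := by group
      _ = x * (g⁻¹ * y * g) := by rw [h]; group
  · intro h
    calc y * (g * x * g⁻¹) = g * (g⁻¹ * y * g * x) * g⁻¹ := by group
      _ = g * x * g⁻¹ * y := by rw [h]; group

/-- If `D` is a Sylow subgroup of `C(g)` and of `C(h)` for conjugate `g`, `h`, then `g` and `h`
are conjugate under the normalizer of `D`. -/
theorem exists_normalizer_conj {g h : G} {D : Subgroup G}
    (hg : IsSylowIn p (Subgroup.centralizer ({g} : Set G)) D)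
    (hh : IsSylowIn p (Subgroup.centralizer ({h} : Set G)) D) (hgh : IsConj g h) :
    ∃ n ∈ Subgroup.normalizer (D : Set G), n * g * n⁻¹ = h := by
  obtain ⟨x, hx⟩ := isConj_iff.1 hgh
  have h2 := hg.conj x
  rw [← centralizer_singleton_conj, hx] at h2
  obtain ⟨y, hy, hyD⟩ := h2.exists_conj hh
  refine ⟨y * x, ?_, ?_⟩
  · rw [Subgroup.mem_normalizer_iff_map_conj_eq]
    rw [Subgroup.map_map] at hyD
    conv_rhs => rw [← hyD]
    congr 1
    ext z
    simp [mul_assoc]
  · rw [Subgroup.mem_centralizer_singleton_iff] at hy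
    calc y * x * g * (y * x)⁻¹ = y * (x * g * x⁻¹) * y⁻¹ := by group
      _ = h := by rw [hx, hy]; group

/-- A `p`-subgroup which is Sylow in its normalizer within `K` is Sylow in `K`. -/
theorem isSylowIn_of_inf_normalizer {K D : Subgroup G}
    (h : IsSylowIn p (K ⊓ Subgroup.normalizer (D : Set G)) D) : IsSylowIn p K D := by
  have hle : D ≤ K := h.1.trans inf_le_left
  refine ⟨hle, h.2.1, ?_⟩
  have hP : IsPGroup p (D.subgroupOf K) := h.2.1.comap_subtype
  obtain ⟨n, hn⟩ := IsPGroup.iff_card.1 hP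
  have key := Sylow.card_quotient_normalizer_modEq_card_quotient hn
  intro hdvd
  refine h.2.2 ?_
  have : (Nat.card (Subgroup.normalizer ((D.subgroupOf K : Subgroup K) : Set K) ⧸
      (D.subgroupOf K).comap (Subgroup.normalizer ((D.subgroupOf K : Subgroup K) : Set K)).subtype)) % p
      = 0 := by
    refine Eq.trans key ?_
    rw [← Subgroup.index_eq_card]
    exact Nat.mod_eq_zero_of_dvd hdvd
  have e : D.relIndex (K ⊓ Subgroup.normalizer (D : Set G)) =
      (D.subgroupOf K).relIndex (Subgroup.normalizer ((D.subgroupOf K : Subgroup K) : Set K)) := by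
    rw [← Subgroup.subgroupOf_normalizer_eq hle,
      ← Subgroup.relIndex_map_map_of_injective (f := K.subtype) _ _ K.subtype_injective,
      Subgroup.map_subgroupOf_eq_of_le hle, Subgroup.subgroupOf, Subgroup.map_comap_eq,
      Subgroup.range_subtype]
  rw [e, Subgroup.relIndex, Subgroup.index_eq_card]
  exact Nat.dvd_of_mod_eq_zero this

end CfsgLib.Blocks
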