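import Cfsg.Agent.Blocks.Idempotent
import Cfsg.Agent.Blocks.SylowIn
import Cfsg.Agent.BlocksLocal.OverLocalRing
import Mathlib.RingTheory.RootsOfUnity.Complex
import Mathlib.RingTheory.RootsOfUnity.PrimitiveRoots
import Mathlib.Algebra.Ring.GeomSum
import Mathlib.LinearAlgebra.Trace

/-!
# Weak block orthogonality and local integral combinations on p-regular classes

A relation between irreducible characters on the p-regular elements survives restriction to a
union of blocks; hence block idempotents are supported on p-regular elements.  Every class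
function with local integral values agrees on the p-regular elements with a local integral
combination of irreducible characters.
-/

set_option autoImplicit false
set_option linter.style.haveILetI false
set_option linter.unusedSectionVars false

namespace CfsgLib.Blocks

open Cfsg
open scoped ComplexConjugate

universe u

variable {G : Type u} [Group G] [Fintype G] {M : Ideal AlgInt} [M.IsPrime] {p : ℕ}

theorem exists_primitiveRoot_localRing (M : Ideal AlgInt) [M.IsPrime] {m : ℕ} (hm : 0 < m) :
    ∃ ζ : localRing M, IsPrimitiveRoot ζ m := by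
  have h := Complex.isPrimitiveRoot_exp m hm.ne'
  refine ⟨⟨_, memLocalRing_of_isIntegral (M := M)
    (IsIntegral.of_pow hm (by rw [h.pow_eq_one]; exact isIntegral_one))⟩, ?_⟩
  exact IsPrimitiveRoot.of_map_of_injective (f := (localRing M).subtype) h Subtype.val_injective

/-- A p-regular element is a local combination of idempotents of its cyclic group algebra. -/
theorem exists_idem_decomposition (hM : Cfsg.IsPModular p M) {x : G} (hx : ¬ p ∣ orderOf x) :
    ∃ (m : ℕ) (e : Fin m → MonoidAlgebra (localRing M) G) (s : Fin m → localRing M),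
      (∀ j, e j * e j = e j) ∧
      (∀ w : MonoidAlgebra (localRing M) G, Commute (MonoidAlgebra.single x 1) w →
        ∀ j, Commute w (e j)) ∧
      MonoidAlgebra.single x 1 = ∑ j, s j • e j := by
  classical
  set m := orderOf x
  have hm : 0 < m := orderOf_pos x
  obtain ⟨ζ, hζ⟩ := exists_primitiveRoot_localRing M hm
  obtain ⟨r, hr⟩ := (isUnit_natCast hM hx).exists_left_inv
  set X : MonoidAlgebra (localRing M) G := MonoidAlgebra.single x 1 with hX
  have hXm : X ^ m = 1 := by
    rw [hX, MonoidAlgebra.single_pow, one_pow, pow_orderOf_eq_one, MonoidAlgebra.one_def]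
  let u : ℕ → MonoidAlgebra (localRing M) G := fun j => ζ ^ j • X
  have hum : ∀ j, u j ^ m = 1 := fun j => by
    simp only [u]
    rw [_root_.smul_pow, hXm, ← pow_mul, mul_comm j, pow_mul, hζ.pow_eq_one, one_pow, one_smul]
  let e : ℕ → MonoidAlgebra (localRing M) G := fun j => r • ∑ i ∈ Finset.range m, u j ^ i
  have hue : ∀ j, u j * ∑ i ∈ Finset.range m, u j ^ i = ∑ i ∈ Finset.range m, u j ^ i := fun j => by
    have h := mul_geom_sum (u j) m
    rw [hum, sub_self, sub_mul, one_mul, sub_eq_zero] at h
    exact h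
  have hupow : ∀ j i, u j ^ i * ∑ k ∈ Finset.range m, u j ^ k =
      ∑ k ∈ Finset.range m, u j ^ k := by
    intro j i
    induction i with
    | zero => simp
    | succ i ih => rw [pow_succ, mul_assoc, hue, ih]
  refine ⟨m, fun j => e j, fun j => ζ ^ ((m - 1) * (j : ℕ)), fun j => ?_, fun w hw j => ?_, ?_⟩
  · simp only [e, smul_mul_assoc, mul_smul_comm, Finset.sum_mul, hupow, Finset.sum_const,
      Finset.card_range]
    rw [← Nat.cast_smul_eq_nsmul (localRing M), smul_smul (r : localRing M) ((m : localRing M)), hr,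
      one_smul]
  · exact (Commute.sum_right _ _ _ fun i _ => ((hw.symm.smul_right _).pow_right _)).smul_right r
  · have hgeo : ∀ i ∈ Finset.range m, (∑ j ∈ Finset.range m,
        ζ ^ ((m - 1) * j) * ζ ^ (j * i)) = if i = 1 % m then (m : localRing M) else 0 := by
      intro i hi
      rw [Finset.mem_range] at hi
      have hsum : ∀ j, ζ ^ ((m - 1) * j) * ζ ^ (j * i) = (ζ ^ (m - 1 + i)) ^ j := fun j => by
        rw [← pow_add, ← pow_mul]; ring_nf
      simp only [hsum]
      split_ifs with hi1
      · have h1 : ζ ^ (m - 1 + i) = 1 := by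
          rw [hζ.pow_eq_one_iff_dvd, hi1]
          rcases Nat.lt_or_ge 1 m with h | h
          · rw [Nat.mod_eq_of_lt h, Nat.sub_add_cancel h.le]
          · rw [show m = 1 by omega]; exact one_dvd _
        simp [h1]
      · have hne : ζ ^ (m - 1 + i) ≠ 1 := by
          rw [Ne, hζ.pow_eq_one_iff_dvd]
          rintro ⟨c, hc⟩
          rcases Nat.lt_or_ge 1 m with h | h
          · rw [Nat.mod_eq_of_lt h] at hi1
            rcases Nat.lt_or_ge i 1 with h0 | h0
            · have : m ∣ m - 1 := ⟨c, by omega⟩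
              have := Nat.le_of_dvd (by omega) this
              omega
            · have : m ∣ i - 1 := by
                have h2 : m - 1 + i = m + (i - 1) := by omega
                rw [h2] at hc
                exact (Nat.dvd_add_right dvd_rfl).1 ⟨c, hc⟩
              rcases Nat.eq_zero_or_pos (i - 1) with h3 | h3
              · omega
              · have := Nat.le_of_dvd h3 this
                omega
          · have h1 : m = 1 := by omega
            rw [h1] at hi hi1
            omega
        have h := mul_geom_sum (ζ ^ (m - 1 + i)) m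
        rw [← pow_mul, mul_comm (m - 1 + i), pow_mul, hζ.pow_eq_one, one_pow, sub_self,
          mul_eq_zero] at h
        exact h.resolve_left (sub_ne_zero.2 hne)
    rw [Fin.sum_univ_eq_sum_range (fun j => ζ ^ ((m - 1) * j) • e j)]
    simp only [e, u, _root_.smul_pow, ← pow_mul, Finset.smul_sum, smul_smul]
    rw [Finset.sum_comm]
    simp only [← Finset.sum_smul, mul_assoc]
    rw [Finset.sum_congr rfl (g := fun i =>
      (r * if i = 1 % m then (m : localRing M) else 0) • X ^ i) fun i hi => by
        rw [← hgeo i hi, Finset.mul_sum]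
        congr 1
        exact Finset.sum_congr rfl fun j _ => by ring]
    rw [Finset.sum_eq_single (1 % m) (fun i _ hi => by simp [hi])
      (fun h => absurd (Finset.mem_range.2 (Nat.mod_lt _ hm)) h), if_pos rfl, hr, one_smul,
      ← pow_eq_pow_mod 1 hXm, pow_one]

/-- The linear functional attached to a complex function on the group. -/
noncomputable def evalO (θ : G → ℂ) (w : MonoidAlgebra (localRing M) G) : ℂ :=
  evalFun θ (MonoidAlgebra.mapRingHom G (localRing M).subtype w)

theorem evalO_eq_sum (θ : G → ℂ) (w : MonoidAlgebra (localRing M) G) :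
    evalO θ w = ∑ g : G, (w.coeff g : ℂ) * θ g := by
  simp [evalO, evalFun]

theorem evalO_sum_smul (θ : G → ℂ) {ι : Type*} (s : Finset ι) (c : ι → localRing M)
    (w : ι → MonoidAlgebra (localRing M) G) :
    evalO θ (∑ i ∈ s, c i • w i) = ∑ i ∈ s, (c i : ℂ) * evalO θ (w i) := by
  simp only [evalO_eq_sum, MonoidAlgebra.coeff_sum, Finsupp.finsetSum_apply,
    AddSubmonoidClass.coe_finsetSum, Finset.sum_mul, Finset.mul_sum]
  rw [Finset.sum_comm]
  refine Finset.sum_congr rfl fun i _ => Finset.sum_congr rfl fun g _ => ?_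
  simp [mul_assoc]

open Classical in
/-- A relation between irreducible characters on the p-regular elements holds on them within
each union of blocks. -/
theorem sum_union_eq_zero (hM : Cfsg.IsPModular p M) {A : Set (IrrCharacter G)}
    (hA : IsBlockUnion M A) (c : IrrCharacter G → ℂ)
    (hc : ∀ z : G, ¬ p ∣ orderOf z → ∑ χ, c χ * (χ : G → ℂ) z = 0) {x : G}
    (hx : ¬ p ∣ orderOf x) :
    ∑ χ, (if χ ∈ A then c χ * (χ : G → ℂ) x else 0) = 0 := by
  set θ : G → ℂ := fun g => ∑ χ, c χ * (χ : G → ℂ) g with hθ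
  have hθc : ∀ g h : G, θ (h * g * h⁻¹) = θ g := fun g h =>
    Finset.sum_congr rfl fun χ _ => by rw [Characters.isClassFunction_of_isIrr χ.2]
  set f := setIdemO M A (memLocalRing_blockCoeff hA) with hf
  have hff : f * f = f := ctr_ext_omegaO fun ψ => by
    rw [map_mul, hf, omegaO_setIdemO]
    split_ifs <;> simp
  obtain ⟨m, e, s, he, hcomm, hxe⟩ := exists_idem_decomposition hM hx
  have key : evalO θ ((f : MonoidAlgebra (localRing M) G) * MonoidAlgebra.single x 1) = 0 := by
    rw [hxe, Finset.mul_sum]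
    simp only [mul_smul_comm]
    rw [evalO_sum_smul]
    refine Finset.sum_eq_zero fun j _ => mul_eq_zero_of_right _ ?_
    rw [evalO_eq_sum]
    refine BlocksLocal.sum_coeff_mul_eq_zero_of_idempotent hM _ ?_ θ hθc fun g hg => hc g hg
    have hcom : Commute (f : MonoidAlgebra (localRing M) G) (e j) :=
      hcomm _ (Subring.mem_center_iff.1 f.2 _) j
    rw [hcom.symm.mul_mul_mul_comm, ← Subring.coe_mul, hff, he]
  refine Eq.trans ?_ key
  rw [evalO, map_mul, show MonoidAlgebra.mapRingHom G (localRing M).subtype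
    (f : MonoidAlgebra (localRing M) G) = ((toC M f : Ctr ℂ G) : MonoidAlgebra ℂ G) from rfl,
    MonoidAlgebra.mapRingHom_single, map_one, toC_setIdemO]
  have hlin : ∀ w : MonoidAlgebra ℂ G,
      evalFun θ w = ∑ χ, c χ * evalFun (χ : G → ℂ) w := fun w => by
    simp only [evalFun, hθ, Finset.mul_sum]
    rw [Finset.sum_comm]
    exact Finset.sum_congr rfl fun χ _ => Finset.sum_congr rfl fun g _ => by ring
  rw [hlin]
  refine Finset.sum_congr rfl fun χ _ => ?_
  rw [evalFun_central_mul, omega_setIdemC]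
  have : evalFun (χ : G → ℂ) (MonoidAlgebra.single x 1) = (χ : G → ℂ) x := by
    rw [evalFun, Finset.sum_eq_single x (fun b _ hb => by simp [hb.symm]) (by simp)]
    simp
  rw [this]
  split_ifs <;> ring

theorem not_isConj_of_regular_singular {x y : G} (hx : ¬ p ∣ orderOf x) (hy : p ∣ orderOf y) :
    ¬ IsConj x y := by
  intro h
  obtain ⟨c, rfl⟩ := isConj_iff.1 h
  rw [show c * x * c⁻¹ = MulAut.conj c x from rfl, MulEquiv.orderOf_eq] at hy
  exact hx hy

open Classical in
/-- Weak block orthogonality. -/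
theorem sum_union_mul_conj_eq_zero (hM : Cfsg.IsPModular p M) {A : Set (IrrCharacter G)}
    (hA : IsBlockUnion M A) {x y : G} (hx : ¬ p ∣ orderOf x) (hy : p ∣ orderOf y) :
    ∑ χ : IrrCharacter G, (if χ ∈ A then (χ : G → ℂ) x * conj ((χ : G → ℂ) y) else 0) = 0 := by
  refine Eq.trans ?_ (sum_union_eq_zero hM hA (fun χ => conj ((χ : G → ℂ) y)) (fun z hz => ?_) hx)
  · exact Finset.sum_congr rfl fun χ _ => by split_ifs <;> ring
  · rw [← Characters.sum_irr_mul_conj_of_not_isConj (not_isConj_of_regular_singular hz hy)]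
    exact Finset.sum_congr rfl fun χ _ => mul_comm _ _

theorem conj_one_irr (χ : IrrCharacter G) : conj ((χ : G → ℂ) 1) = (χ : G → ℂ) 1 := by
  obtain ⟨n, -, hn⟩ := Characters.exists_degree_pos χ.2
  rw [hn, Complex.conj_natCast]

/-- Block idempotents vanish on p-singular elements. -/
theorem blockCoeff_eq_zero_of_singular (hM : Cfsg.IsPModular p M) {A : Set (IrrCharacter G)}
    (hA : IsBlockUnion M A) {y : G} (hy : p ∣ orderOf y) : Cfsg.blockCoeff A y = 0 := by
  classical
  rw [blockCoeff_eq_sum, sum_union_mul_conj_eq_zero hM hA (x := 1) (y := y)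
    (by rw [orderOf_one]; exact hM.1.not_dvd_one) hy, mul_zero]

theorem trace_eq_nat_of_idem {V : Type*} [AddCommGroup V] [Module ℂ V] [FiniteDimensional ℂ V]
    (T : Module.End ℂ V) (h : T * T = T) : ∃ n : ℕ, LinearMap.trace ℂ V T = n := by
  have hp : LinearMap.IsProj (LinearMap.range T) T :=
    ⟨fun x => LinearMap.mem_range_self T x, fun x ⟨y, hy⟩ => by
      rw [← hy, ← Module.End.mul_apply, h]⟩
  exact ⟨_, LinearMap.IsProj.trace hp⟩

theorem evalFun_idem_eq_nat {χ : G → ℂ} (hχ : Cfsg.IsCharacter G χ) {e : MonoidAlgebra ℂ G}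
    (he : e * e = e) : ∃ n : ℕ, evalFun χ e = n := by
  obtain ⟨d, ρ, rfl⟩ := hχ
  rw [← trace_asAlgebraHom]
  exact trace_eq_nat_of_idem _ (by rw [← map_mul, he])

variable [Fact p.Prime]

/-- The average of a character over a coset `x P`, for a p-regular `x` centralizing the
p-subgroup `P`, is a local integer. -/
theorem memLocalRing_avg (hM : Cfsg.IsPModular p M) {P : Subgroup G} [Fintype P] {x : G}
    (hx : ¬ p ∣ orderOf x) (hxP : x ∈ Subgroup.centralizer (P : Set G)) (χ : IrrCharacter G) :
    Cfsg.MemLocalRing M ((Nat.card P : ℂ)⁻¹ * ∑ y : P, (χ : G → ℂ) (x * y)) := by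
  classical
  obtain ⟨m, e, s, he, hcomm, hxe⟩ := exists_idem_decomposition hM hx
  let S : MonoidAlgebra (localRing M) G := ∑ y : P, MonoidAlgebra.single (y : G) 1
  let T := MonoidAlgebra.mapRingHom G (localRing M).subtype
  let ι : MonoidAlgebra ℂ G := (Nat.card P : ℂ)⁻¹ • T S
  have hS : T S = ∑ y : P, MonoidAlgebra.single (y : G) (1 : ℂ) := by simp [S, T]
  have hSS : T S * T S = (Nat.card P : ℂ) • T S := by
    rw [hS, Finset.sum_mul]
    rw [Finset.sum_congr rfl (g := fun _ : P => ∑ y : P, MonoidAlgebra.single (y : G) (1 : ℂ))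
      fun a _ => ?_]
    · rw [Finset.sum_const, Finset.card_univ, Nat.cast_smul_eq_nsmul, Nat.card_eq_fintype_card]
    · rw [Finset.mul_sum]
      exact Fintype.sum_equiv (Equiv.mulLeft a) _ _ fun b => by
        simp [MonoidAlgebra.single_mul_single]
  have hP0 : (Nat.card P : ℂ) ≠ 0 := Nat.cast_ne_zero.2 Nat.card_pos.ne'
  have hι : ι * ι = ι := by
    simp only [ι, smul_mul_assoc, mul_smul_comm, hSS, smul_smul]
    congr 1
    field_simp
  have hXS : Commute (MonoidAlgebra.single x (1 : localRing M)) S :=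
    Commute.sum_right _ _ _ fun y _ => by
      rw [Commute, SemiconjBy, MonoidAlgebra.single_mul_single, MonoidAlgebra.single_mul_single,
        Subgroup.mem_centralizer_iff.1 hxP y y.2]
  have hid : ∀ j, (T (e j) * ι) * (T (e j) * ι) = T (e j) * ι := fun j => by
    have hc : Commute (T (e j)) ι := (((hcomm S hXS j).symm).map T).smul_right _
    rw [hc.symm.mul_mul_mul_comm, hι, ← map_mul, he]
  have hval : (Nat.card P : ℂ)⁻¹ * ∑ y : P, (χ : G → ℂ) (x * y) =
      evalFun (χ : G → ℂ) (MonoidAlgebra.single x 1 * ι) := by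
    simp only [ι, hS, mul_smul_comm, Finset.mul_sum, Finset.smul_sum,
      MonoidAlgebra.single_mul_single, mul_one, MonoidAlgebra.smul_single, smul_eq_mul]
    simp only [evalFun, MonoidAlgebra.coeff_sum, Finsupp.finsetSum_apply, Finset.sum_mul]
    rw [Finset.sum_comm]
    refine Finset.sum_congr rfl fun y _ => ?_
    rw [Finset.sum_eq_single (x * (y : G)) (fun b _ hb => by simp [hb.symm]) (by simp)]
    simp
  have hsum : MonoidAlgebra.single x (1 : ℂ) * ι = ∑ j, (s j : ℂ) • (T (e j) * ι) := by
    have hT : MonoidAlgebra.single x (1 : ℂ) = T (MonoidAlgebra.single x 1) := by simp [T]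
    rw [hT, hxe, map_sum, Finset.sum_mul]
    refine Finset.sum_congr rfl fun j _ => ?_
    rw [← smul_mul_assoc]
    congr 1
    exact MonoidAlgebra.ext (Finsupp.ext fun g => by simp [T])
  rw [hval, hsum]
  have hlin : evalFun (χ : G → ℂ) (∑ j, (s j : ℂ) • (T (e j) * ι)) =
      ∑ j, (s j : ℂ) * evalFun (χ : G → ℂ) (T (e j) * ι) := by
    simp only [evalFun, MonoidAlgebra.coeff_sum, Finsupp.finsetSum_apply, Finset.sum_mul,
      Finset.mul_sum]
    rw [Finset.sum_comm]
    refine Finset.sum_congr rfl fun j _ => Finset.sum_congr rfl fun g _ => ?_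
    simp [mul_assoc]
  rw [hlin]
  refine Subring.sum_mem (localRing M) fun j _ => Subring.mul_mem _ (s j).2 ?_
  obtain ⟨n, hn⟩ := evalFun_idem_eq_nat (Characters.isCharacter_of_isIrr χ.2) (hid j)
  rw [hn]
  exact memLocalRing_natCast n

theorem regular_mul_pgroup_eq {P : Subgroup G} (hP : IsPGroup p P) {u y : G} (hy : y ∈ P)
    (hu : ¬ p ∣ orderOf u) (huy : Commute u y) (h : ¬ p ∣ orderOf (u * y)) : y = 1 := by
  obtain ⟨k, hk⟩ := IsPGroup.iff_orderOf.1 hP ⟨y, hy⟩
  rw [Subgroup.orderOf_mk] at hk
  have hpp : p.Prime := Fact.out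
  have hcop : (orderOf u).Coprime (orderOf y) := by
    rw [hk]; exact (hpp.coprime_iff_not_dvd.2 hu).symm.pow_right _
  rw [huy.orderOf_mul_eq_mul_orderOf_of_coprime hcop, hk] at h
  rcases Nat.eq_zero_or_pos k with rfl | hk0
  · exact orderOf_eq_one_iff.1 (by rw [hk, pow_zero])
  · exact absurd ((dvd_pow_self p hk0.ne').mul_left _) h

open Classical in
/-- For each p-regular class there is a local combination of irreducible characters which, on
p-regular elements, is a unit multiple of its indicator. -/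
theorem exists_indicator_comb (hM : Cfsg.IsPModular p M) {u : G} (hu : ¬ p ∣ orderOf u) :
    ∃ b : IrrCharacter G → ℂ, (∀ χ, Cfsg.MemLocalRing M (b χ)) ∧
      ∀ z : G, ¬ p ∣ orderOf z →
        ∑ χ, b χ * (χ : G → ℂ) z = if IsConj u z then 1 else 0 := by
  obtain ⟨P, hP, -⟩ := exists_isSylowIn_ge (p := p) (K := Subgroup.centralizer ({u} : Set G))
    IsPGroup.of_bot bot_le
  haveI := Fintype.ofFinite P
  have hPc := hP.1
  have hPu : ∀ y ∈ P, Commute u y := fun y hy =>
    (Subgroup.mem_centralizer_singleton_iff.1 (hPc hy)).symm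
  have hui : u⁻¹ ∈ Subgroup.centralizer (P : Set G) :=
    Subgroup.inv_mem _ (Subgroup.mem_centralizer_iff.2 fun y hy => (hPu y hy).eq.symm)
  set C := Subgroup.centralizer ({u} : Set G)
  have hidx : Nat.card C = P.relIndex C * Nat.card P := by
    rw [← Subgroup.index_mul_card (P.subgroupOf C),
      Nat.card_congr (Subgroup.subgroupOfEquivOfLe hPc).toEquiv]
    rfl
  have hinv : Cfsg.MemLocalRing M ((P.relIndex C : ℂ)⁻¹) := memLocalRing_natCast_inv hM hP.2.2
  refine ⟨fun χ => (P.relIndex C : ℂ)⁻¹ *
    ((Nat.card P : ℂ)⁻¹ * ∑ y : P, (χ : G → ℂ) (u⁻¹ * y)), fun χ => ?_, fun z hz => ?_⟩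
  · refine Subring.mul_mem (localRing M) hinv (memLocalRing_avg hM ?_ hui χ)
    rwa [orderOf_inv]
  · have h1 : ∀ y : P, ∀ χ : IrrCharacter G,
        (χ : G → ℂ) (u⁻¹ * (y : G)⁻¹) = conj ((χ : G → ℂ) (u * y)) := by
      intro y χ
      rw [← Characters.character_inv (Characters.isCharacter_of_isIrr χ.2), mul_inv_rev,
        Commute.eq (Commute.inv_inv (hPu y y.2))]
    have h2 : ∑ χ : IrrCharacter G, (P.relIndex C : ℂ)⁻¹ *
        ((Nat.card P : ℂ)⁻¹ * ∑ y : P, (χ : G → ℂ) (u⁻¹ * y)) * (χ : G → ℂ) z =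
        (P.relIndex C : ℂ)⁻¹ * ((Nat.card P : ℂ)⁻¹ *
          ∑ y : P, ∑ χ : IrrCharacter G, (χ : G → ℂ) z * conj ((χ : G → ℂ) (u * y))) := by
      rw [Finset.sum_comm (s := (Finset.univ : Finset P))]
      simp only [Finset.mul_sum]
      refine Finset.sum_congr rfl fun χ _ => ?_
      rw [Finset.sum_mul]
      refine Fintype.sum_equiv (Equiv.inv P) _ _ fun y => ?_
      have := h1 y⁻¹ χ
      simp only [InvMemClass.coe_inv, inv_inv] at this
      simp only [Equiv.inv_apply, InvMemClass.coe_inv, ← this]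
      ring
    rw [h2, Finset.sum_eq_single (1 : P)]
    · simp only [OneMemClass.coe_one, mul_one]
      split_ifs with h
      · rw [Characters.sum_irr_mul_conj_of_isConj h.symm]
        obtain ⟨c, rfl⟩ := isConj_iff.1 h
        rw [centralizer_singleton_conj, Subgroup.card_map_of_injective
          (f := (MulAut.conj c).toMonoidHom) (MulAut.conj c).injective, hidx]
        push_cast
        have h3 : (P.relIndex C : ℂ) ≠ 0 := Nat.cast_ne_zero.2 fun h0 => hP.2.2 (h0 ▸ dvd_zero p)
        have h4 : (Nat.card P : ℂ) ≠ 0 := Nat.cast_ne_zero.2 Nat.card_pos.ne'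
        field_simp
      · rw [Characters.sum_irr_mul_conj_of_not_isConj fun hh => h hh.symm]
        simp
    · intro y _ hy
      refine Characters.sum_irr_mul_conj_of_not_isConj fun hh => hy (Subtype.ext ?_)
      refine regular_mul_pgroup_eq hP.2.1 y.2 hu (hPu y y.2) fun hd => ?_
      exact not_isConj_of_regular_singular hz hd hh
    · simp

open Classical in
/-- Local class functions agree on p-regular elements with local combinations of irreducible
characters. -/
theorem exists_regular_extension (hM : Cfsg.IsPModular p M) (a : G → ℂ)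
    (ha : ∀ g, Cfsg.MemLocalRing M (a g)) (hcl : ∀ g h : G, a (h * g * h⁻¹) = a g) :
    ∃ b : IrrCharacter G → ℂ, (∀ χ, Cfsg.MemLocalRing M (b χ)) ∧
      ∀ z : G, ¬ p ∣ orderOf z → ∑ χ, b χ * (χ : G → ℂ) z = a z := by
  haveI := Fintype.ofFinite (ConjClasses G)
  have hex : ∀ C : ConjClasses G, ∃ b : IrrCharacter G → ℂ,
      (∀ χ, Cfsg.MemLocalRing M (b χ)) ∧ (¬ p ∣ orderOf (Quotient.out C) →
        ∀ z : G, ¬ p ∣ orderOf z →
          ∑ χ, b χ * (χ : G → ℂ) z = if IsConj (Quotient.out C) z then 1 else 0) := by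
    intro C
    by_cases h : p ∣ orderOf (Quotient.out C)
    · exact ⟨fun _ => 0, fun _ => Subring.zero_mem (localRing M), fun h' => absurd h h'⟩
    · obtain ⟨b, h1, h2⟩ := exists_indicator_comb hM h
      exact ⟨b, h1, fun _ => h2⟩
  choose b hb1 hb2 using hex
  refine ⟨fun χ => ∑ C : ConjClasses G,
      if p ∣ orderOf (Quotient.out C) then 0 else a (Quotient.out C) * b C χ, fun χ => ?_, fun z hz => ?_⟩
  · refine Subring.sum_mem (localRing M) fun C _ => ?_
    split_ifs
    · exact Subring.zero_mem _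
    · exact Subring.mul_mem (localRing M) (ha _) (hb1 C χ)
  · simp only [Finset.sum_mul]
    rw [Finset.sum_comm, Finset.sum_eq_single (ConjClasses.mk z)]
    · have hcz : IsConj (Quotient.out (ConjClasses.mk z)) z :=
        ConjClasses.mk_eq_mk_iff_isConj.1 (Quotient.out_eq _)
      have hreg : ¬ p ∣ orderOf (Quotient.out (ConjClasses.mk z)) := fun h =>
        not_isConj_of_regular_singular hz h hcz.symm
      simp only [if_neg hreg, mul_assoc, ← Finset.mul_sum]
      rw [hb2 _ hreg z hz, if_pos hcz, mul_one]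
      obtain ⟨c, hc⟩ := isConj_iff.1 hcz
      conv_rhs => rw [← hc, hcl]
    · intro C _ hC
      by_cases hreg : p ∣ orderOf (Quotient.out C)
      · simp [hreg]
      · simp only [if_neg hreg, mul_assoc, ← Finset.mul_sum]
        rw [hb2 C hreg z hz, if_neg, mul_zero]
        intro h
        exact hC ((Quotient.out_eq C).symm.trans (ConjClasses.mk_eq_mk_iff_isConj.2 h))
    · simp

open Classical in
/-- The block idempotent is, on p-regular elements, a local combination of the characters of the
block. -/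
theorem exists_union_comb (hM : Cfsg.IsPModular p M) {A : Set (IrrCharacter G)}
    (hA : IsBlockUnion M A) :
    ∃ b : IrrCharacter G → ℂ, (∀ χ, Cfsg.MemLocalRing M (b χ)) ∧
      ∀ z : G, ¬ p ∣ orderOf z →
        ∑ χ, (if χ ∈ A then b χ * (χ : G → ℂ) z else 0) = Cfsg.blockCoeff A z⁻¹ := by
  obtain ⟨b, hb, hb'⟩ := exists_regular_extension hM (fun g => Cfsg.blockCoeff A g⁻¹)
    (fun g => memLocalRing_blockCoeff hA _) (fun g h => by
      rw [show (h * g * h⁻¹)⁻¹ = h * g⁻¹ * h⁻¹ by group, blockCoeff_conj])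
  refine ⟨b, hb, fun z hz => ?_⟩
  set d : IrrCharacter G → ℂ := fun χ =>
    if χ ∈ A then (Nat.card G : ℂ)⁻¹ * (χ : G → ℂ) 1 else 0
  have hd : ∀ y : G, ∑ χ, d χ * (χ : G → ℂ) y = Cfsg.blockCoeff A y⁻¹ := by
    intro y
    rw [blockCoeff_eq_sum, Finset.mul_sum]
    refine Finset.sum_congr rfl fun χ _ => ?_
    simp only [d]
    split_ifs
    · rw [Characters.character_inv (Characters.isCharacter_of_isIrr χ.2), Complex.conj_conj]
      ring
    · simp
  have h := sum_union_eq_zero hM hA (fun χ => b χ - d χ) (fun y hy => by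
    simp only [sub_mul, Finset.sum_sub_distrib, hd, hb' y hy, sub_self]) hz
  rw [← hd z, ← sub_eq_zero, ← Finset.sum_sub_distrib]
  refine Eq.trans ?_ h
  refine Finset.sum_congr rfl fun χ _ => ?_
  simp only [d]
  split_ifs <;> ring

end CfsgLib.Blocks
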