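import Cfsg.Agent.Blocks.Defect
import Cfsg.Agent.Blocks.RegularSupport
import Cfsg.Agent.Characters.Integrality

/-!
# Degrees in a block: defect, height zero characters, defect zero
-/

set_option autoImplicit false
set_option linter.style.haveILetI false
set_option linter.unusedSectionVars false

namespace CfsgLib.Blocks

open Cfsg
open scoped ComplexConjugate

universe u

variable {G : Type u} [Group G] [Fintype G] {M : Ideal AlgInt} [M.IsPrime] {p : ℕ}

/-- `n * z / m` lies in the local ideal when `n` has larger p-part than `m`. -/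
theorem memLocalIdeal_mul_div_of_lt (hM : Cfsg.IsPModular p M) {n m : ℕ} (hm : m ≠ 0)
    (h : m.factorization p < n.factorization p) {z : ℂ} (hz : Cfsg.MemLocalRing M z) :
    Cfsg.MemLocalIdeal M ((n : ℂ) * z / (m : ℂ)) := by
  set a := n.factorization p
  set b := m.factorization p
  have hn : p ^ (a - b) * (p ^ b * (n / p ^ a)) = n := by
    rw [← mul_assoc, ← pow_add, Nat.sub_add_cancel h.le]
    exact Nat.ordProj_mul_ordCompl_eq_self n p
  have hm' : p ^ b * (m / p ^ b) = m := Nat.ordProj_mul_ordCompl_eq_self m p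
  have hmc : ¬ p ∣ m / p ^ b := Nat.not_dvd_ordCompl hM.1 hm
  have hp0 : (p : ℂ) ≠ 0 := Nat.cast_ne_zero.2 hM.1.ne_zero
  have hkey : (n : ℂ) * z / (m : ℂ) =
      ((p ^ (a - b) : ℕ) : ℂ) * (((n / p ^ a : ℕ) : ℂ) * ((m / p ^ b : ℕ) : ℂ)⁻¹ * z) := by
    conv_lhs => rw [← hn, ← hm']
    push_cast
    have hm0 : ((m / p ^ b : ℕ) : ℂ) ≠ 0 := Nat.cast_ne_zero.2 fun h0 => hmc (h0 ▸ dvd_zero p)
    field_simp
  rw [hkey]
  refine memLocalIdeal_mul_right ((memLocalIdeal_natCast_iff hM _).2
    (dvd_pow_self p (by omega))) ?_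
  exact Subring.mul_mem (localRing M)
    (Subring.mul_mem (localRing M) (memLocalRing_natCast _) (memLocalRing_natCast_inv hM hmc)) hz

/-- A local quotient of natural numbers has at least the p-part of its denominator. -/
theorem factorization_le_of_div_mem (hM : Cfsg.IsPModular p M) {n m : ℕ} (hn : n ≠ 0) (hm : m ≠ 0)
    (h : Cfsg.MemLocalRing M ((n : ℂ) / (m : ℂ))) : m.factorization p ≤ n.factorization p := by
  by_contra hlt
  have := memLocalIdeal_mul_div_of_lt hM hn (Nat.lt_of_not_le hlt) h
  have hn' : (n : ℂ) ≠ 0 := Nat.cast_ne_zero.2 hn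
  have hm' : (m : ℂ) ≠ 0 := Nat.cast_ne_zero.2 hm
  rw [show (m : ℂ) * ((n : ℂ) / m) / n = 1 by field_simp] at this
  exact not_memLocalIdeal_one this

/-- Equal p-parts: the quotient is a unit. -/
theorem memLocalRing_div_of_eq (hM : Cfsg.IsPModular p M) {n m : ℕ} (hm : m ≠ 0)
    (h : m.factorization p ≤ n.factorization p) : Cfsg.MemLocalRing M ((n : ℂ) / (m : ℂ)) := by
  rcases h.eq_or_lt with h | h
  · have hm0 : ¬ p ∣ m / p ^ m.factorization p := Nat.not_dvd_ordCompl hM.1 hm
    have e1 : p ^ m.factorization p * (m / p ^ m.factorization p) = m :=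
      Nat.ordProj_mul_ordCompl_eq_self m p
    have e2 : p ^ m.factorization p * (n / p ^ m.factorization p) = n := by
      rw [h]; exact Nat.ordProj_mul_ordCompl_eq_self n p
    have hkey : (n : ℂ) / (m : ℂ) = ((n / p ^ m.factorization p : ℕ) : ℂ) *
        ((m / p ^ m.factorization p : ℕ) : ℂ)⁻¹ := by
      conv_lhs => rw [← e2]; arg 2; rw [← e1]
      push_cast
      rw [mul_div_mul_left _ _ (pow_ne_zero _ (Nat.cast_ne_zero.2 hM.1.ne_zero)), div_eq_mul_inv]
    rw [hkey]
    exact Subring.mul_mem (localRing M) (memLocalRing_natCast _) (memLocalRing_natCast_inv hM hm0)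
  · have := memLocalRing_of_memLocalIdeal
      (memLocalIdeal_mul_div_of_lt hM hm h (z := 1) (Subring.one_mem (localRing M)))
    rwa [mul_one] at this

theorem charDegree_cast (χ : IrrCharacter G) :
    ((Cfsg.charDegree (χ : G → ℂ) : ℕ) : ℂ) = (χ : G → ℂ) 1 := by
  obtain ⟨n, -, hn⟩ := Characters.exists_degree_pos χ.2
  simp [Cfsg.charDegree, hn]

theorem charDegree_ne_zero (χ : IrrCharacter G) : Cfsg.charDegree (χ : G → ℂ) ≠ 0 := by
  intro h
  have := charDegree_cast χ
  rw [h, Nat.cast_zero] at this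
  exact Characters.irr_one_ne_zero χ.2 this.symm

theorem charDegree_dvd_card (χ : IrrCharacter G) :
    Cfsg.charDegree (χ : G → ℂ) ∣ Nat.card G := by
  obtain ⟨n, ρ, hρ, h⟩ := χ.2
  have hd := Characters.finrank_dvd_card ρ
  have he : Cfsg.charDegree (χ : G → ℂ) = Module.finrank ℂ (Fin n → ℂ) := by
    rw [← h, Cfsg.charDegree, Representation.char_one]; simp
  rwa [he]

theorem charDegree_factorization_le (χ : IrrCharacter G) :
    (Cfsg.charDegree (χ : G → ℂ)).factorization p ≤ (Nat.card G).factorization p :=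
  (Nat.factorization_le_iff_dvd (charDegree_ne_zero χ) Nat.card_pos.ne').2
    (charDegree_dvd_card χ) p

theorem memLocalRing_char (χ : IrrCharacter G) (g : G) :
    Cfsg.MemLocalRing M ((χ : G → ℂ) g) :=
  memLocalRing_of_isIntegral (Characters.character_isIntegral (Characters.isCharacter_of_isIrr χ.2) g)

theorem centralChar_eq (χ : IrrCharacter G) (g : G) :
    Cfsg.centralChar (χ : G → ℂ) g = ((Subgroup.centralizer ({g} : Set G)).index : ℂ) *
      (χ : G → ℂ) g / ((Cfsg.charDegree (χ : G → ℂ) : ℕ) : ℂ) := by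
  rw [charDegree_cast]; rfl

/-- A nonzero central character bounds the degree from below. -/
theorem index_factorization_le (hM : Cfsg.IsPModular p M) (χ : IrrCharacter G) {g : G}
    (hne : omegaBar M χ (classSum _ (ConjClasses.mk g)) ≠ 0) :
    (Subgroup.centralizer ({g} : Set G)).index.factorization p ≤
      (Cfsg.charDegree (χ : G → ℂ)).factorization p := by
  by_contra h
  rw [← not_memLocalIdeal_centralChar_iff, centralChar_eq] at hne
  exact hne (memLocalIdeal_mul_div_of_lt hM (charDegree_ne_zero χ) (Nat.lt_of_not_le h)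
    (memLocalRing_char χ g))

/-- A unit value bounds the degree from above. -/
theorem degree_factorization_le (hM : Cfsg.IsPModular p M) (χ : IrrCharacter G) {g : G}
    (hne : ¬ Cfsg.MemLocalIdeal M ((χ : G → ℂ) g)) :
    (Cfsg.charDegree (χ : G → ℂ)).factorization p ≤
      (Subgroup.centralizer ({g} : Set G)).index.factorization p := by
  by_contra h
  refine hne ?_
  have := memLocalIdeal_mul_div_of_lt hM (Subgroup.index_ne_zero_of_finite
    (H := Subgroup.centralizer ({g} : Set G))) (Nat.lt_of_not_le h) (memLocalRing_centralChar χ g)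
  rw [centralChar_eq] at this
  have h1 : ((Cfsg.charDegree (χ : G → ℂ) : ℕ) : ℂ) ≠ 0 := Nat.cast_ne_zero.2 (charDegree_ne_zero χ)
  have h2 : ((Subgroup.centralizer ({g} : Set G)).index : ℂ) ≠ 0 :=
    Nat.cast_ne_zero.2 Subgroup.index_ne_zero_of_finite
  convert this using 1
  field_simp

theorem centralizer_inv_singleton (g : G) :
    Subgroup.centralizer ({g⁻¹} : Set G) = Subgroup.centralizer ({g} : Set G) := by
  ext x
  rw [Subgroup.mem_centralizer_singleton_iff, Subgroup.mem_centralizer_singleton_iff]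
  exact Commute.inv_right_iff (a := x) (b := g)

variable [Fact p.Prime]

theorem index_centralizer_factorization {g : G} {D : Subgroup G}
    (hD : IsSylowIn p (Subgroup.centralizer ({g} : Set G)) D) :
    (Subgroup.centralizer ({g} : Set G)).index.factorization p +
      (Nat.card D).factorization p = (Nat.card G).factorization p := by
  rw [← Subgroup.index_mul_card (Subgroup.centralizer ({g} : Set G)),
    Nat.factorization_mul Subgroup.index_ne_zero_of_finite Nat.card_pos.ne', Finsupp.add_apply,
    hD.card_eq, (Fact.out : p.Prime).factorization_pow, Finsupp.single_eq_same]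

/-- Representatives of defect classes are p-regular. -/
theorem regular_of_isDefectClass (hM : Cfsg.IsPModular p M) {B : Set (IrrCharacter G)}
    (hB : Cfsg.IsPBlock M B) {g : G} (hg : Cfsg.IsDefectClass M B g) : ¬ p ∣ orderOf g := by
  intro hd
  refine hg.2.1 ?_
  rw [blockCoeff_eq_zero_of_singular hM (isBlockUnion_of_isPBlock hB) hd]
  exact memLocalIdeal_zero

/-- Degrees in a block are divisible by the p-part of the index of a defect group. -/
theorem defect_add_degree_ge (hM : Cfsg.IsPModular p M) {B : Set (IrrCharacter G)}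
    (hB : Cfsg.IsPBlock M B) {D : Subgroup G} (hD : Cfsg.IsDefectGroup p M B D)
    {χ : IrrCharacter G} (hχ : χ ∈ B) :
    (Nat.card G).factorization p ≤
      (Cfsg.charDegree (χ : G → ℂ)).factorization p + (Nat.card D).factorization p := by
  obtain ⟨g, hg, hS⟩ := isDefectGroup_iff.1 hD
  have h1 := index_factorization_le hM χ ((isDefectClass_iff hB hχ g).1 hg).2
  have h2 := index_centralizer_factorization hS
  omega

open Classical in
/-- Every block contains a character of height zero. -/
theorem exists_degree_eq (hM : Cfsg.IsPModular p M) {B : Set (IrrCharacter G)}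
    (hB : Cfsg.IsPBlock M B) {D : Subgroup G} (hD : Cfsg.IsDefectGroup p M B D) :
    ∃ χ ∈ B, (Cfsg.charDegree (χ : G → ℂ)).factorization p + (Nat.card D).factorization p =
      (Nat.card G).factorization p := by
  obtain ⟨g, hg, hS⟩ := isDefectGroup_iff.1 hD
  obtain ⟨b, hb, hb'⟩ := exists_union_comb hM (isBlockUnion_of_isPBlock hB)
  have hreg : ¬ p ∣ orderOf g⁻¹ := by rw [orderOf_inv]; exact regular_of_isDefectClass hM hB hg
  have he := hb' g⁻¹ hreg
  rw [inv_inv] at he
  obtain ⟨χ, hχ, hne⟩ : ∃ χ ∈ B, ¬ Cfsg.MemLocalIdeal M ((χ : G → ℂ) g⁻¹) := by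
    by_contra hcon
    refine hg.2.1 (he ▸ memLocalIdeal_sum _ fun χ _ => ?_)
    split_ifs with h
    · refine memLocalIdeal_mul_left (hb χ) ?_
      by_contra hn; exact hcon ⟨χ, h, hn⟩
    · exact memLocalIdeal_zero
  refine ⟨χ, hχ, ?_⟩
  have h1 := degree_factorization_le hM χ hne
  rw [centralizer_inv_singleton] at h1
  have h2 := index_centralizer_factorization hS
  have h3 := defect_add_degree_ge hM hB hD hχ
  omega

theorem sInf_degree_eq (hM : Cfsg.IsPModular p M) {B : Set (IrrCharacter G)}
    (hB : Cfsg.IsPBlock M B) {D : Subgroup G} (hD : Cfsg.IsDefectGroup p M B D) :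
    sInf ((fun χ : IrrCharacter G => (Cfsg.charDegree (χ : G → ℂ)).factorization p) '' B) +
      (Nat.card D).factorization p = (Nat.card G).factorization p := by
  obtain ⟨χ, hχ, he⟩ := exists_degree_eq hM hB hD
  have h : IsLeast ((fun χ : IrrCharacter G => (Cfsg.charDegree (χ : G → ℂ)).factorization p) '' B)
      ((Cfsg.charDegree (χ : G → ℂ)).factorization p) :=
    ⟨⟨χ, hχ, rfl⟩, by
      rintro _ ⟨ψ, hψ, rfl⟩
      have := defect_add_degree_ge hM hB hD hψ
      dsimp only
      omega⟩
  rw [h.csInf_eq, he]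

/-- A defect group has order `p ^ blockDefect`. -/
theorem blockDefect_eq (hM : Cfsg.IsPModular p M) {B : Set (IrrCharacter G)}
    (hB : Cfsg.IsPBlock M B) {D : Subgroup G} (hD : Cfsg.IsDefectGroup p M B D) :
    Cfsg.blockDefect p B = (Nat.card D).factorization p := by
  have := sInf_degree_eq hM hB hD
  rw [Cfsg.blockDefect]
  omega

theorem card_defectGroup (hM : Cfsg.IsPModular p M) {B : Set (IrrCharacter G)}
    (hB : Cfsg.IsPBlock M B) {D : Subgroup G} (hD : Cfsg.IsDefectGroup p M B D) :
    Nat.card D = p ^ Cfsg.blockDefect p B := by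
  rw [blockDefect_eq hM hB hD]
  obtain ⟨n, hn⟩ := IsPGroup.iff_card.1 (IsDefectGroup.isPGroup hD)
  rw [hn, (Fact.out : p.Prime).factorization_pow, Finsupp.single_eq_same]

theorem blockHeight_eq (hM : Cfsg.IsPModular p M) {B : Set (IrrCharacter G)}
    (hB : Cfsg.IsPBlock M B) {D : Subgroup G} (hD : Cfsg.IsDefectGroup p M B D)
    {χ : IrrCharacter G} (hχ : χ ∈ B) :
    Cfsg.blockHeight p B (χ : G → ℂ) + (Nat.card G).factorization p =
      (Cfsg.charDegree (χ : G → ℂ)).factorization p + (Nat.card D).factorization p := by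
  have := sInf_degree_eq hM hB hD
  have := defect_add_degree_ge hM hB hD hχ
  rw [Cfsg.blockHeight]
  omega

/-- A character of height zero is a unit at the representatives of defect classes. -/
theorem not_memLocalIdeal_of_height_zero (hM : Cfsg.IsPModular p M) {B : Set (IrrCharacter G)}
    (hB : Cfsg.IsPBlock M B) {g : G} (hg : Cfsg.IsDefectClass M B g) {χ : IrrCharacter G}
    (hχ : χ ∈ B) (h0 : Cfsg.blockHeight p B (χ : G → ℂ) = 0) :
    ¬ Cfsg.MemLocalIdeal M ((χ : G → ℂ) g) := by
  obtain ⟨D, hS, -⟩ := exists_isSylowIn_ge (p := p) (K := Subgroup.centralizer ({g} : Set G))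
    IsPGroup.of_bot bot_le
  have hD := isDefectGroup_iff.2 ⟨g, hg, hS⟩
  have h1 := blockHeight_eq hM hB hD hχ
  have h2 := index_centralizer_factorization hS
  intro hI
  refine hg.2.2 χ hχ ?_
  have hq : Cfsg.MemLocalRing M (((Subgroup.centralizer ({g} : Set G)).index : ℂ) /
      ((Cfsg.charDegree (χ : G → ℂ) : ℕ) : ℂ)) :=
    memLocalRing_div_of_eq hM (charDegree_ne_zero χ) (by omega)
  rw [centralChar_eq, mul_div_right_comm]
  exact memLocalIdeal_mul_left hq hI

open Classical in
/-- An irreducible character has defect zero exactly when it forms a block. -/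
theorem defect_zero_iff (hM : Cfsg.IsPModular p M) (χ : IrrCharacter G) :
    ¬ p ∣ Nat.card G / Cfsg.charDegree (χ : G → ℂ) ↔
      Cfsg.blockOf M (χ : G → ℂ) = {χ} := by
  have hc : ∀ g : G, Cfsg.blockCoeff ({χ} : Set (IrrCharacter G)) g =
      (Nat.card G : ℂ)⁻¹ * ((χ : G → ℂ) 1 * conj ((χ : G → ℂ) g)) := by
    intro g
    rw [blockCoeff_eq_sum]
    congr 1
    refine (Finset.sum_eq_single_of_mem χ (Finset.mem_univ χ) fun ψ _ hψ => ?_).trans ?_
    · exact if_neg (by simpa using hψ)
    · exact if_pos (Set.mem_singleton χ)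
  have hd := charDegree_dvd_card χ
  have hd0 := charDegree_ne_zero χ
  constructor
  · intro h
    refine subset_antisymm (isBlockUnion_of_memLocalRing (fun g => ?_) χ rfl)
      (by simpa using mem_blockOf_self χ)
    rw [hc, ← Characters.character_inv (Characters.isCharacter_of_isIrr χ.2)]
    have e : (Nat.card G : ℂ)⁻¹ * ((χ : G → ℂ) 1 * (χ : G → ℂ) g⁻¹) =
        ((Nat.card G / Cfsg.charDegree (χ : G → ℂ) : ℕ) : ℂ)⁻¹ * (χ : G → ℂ) g⁻¹ := by
      have hd0' : ((Cfsg.charDegree (χ : G → ℂ) : ℕ) : ℂ) ≠ 0 := Nat.cast_ne_zero.2 hd0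
      rw [Nat.cast_div hd hd0', ← charDegree_cast]
      field_simp
    rw [e]
    exact Subring.mul_mem (localRing M) (memLocalRing_natCast_inv hM h) (memLocalRing_char χ _)
  · intro hB
    have hA : IsBlockUnion M ({χ} : Set (IrrCharacter G)) :=
      hB ▸ isBlockUnion_of_isPBlock (isPBlock_blockOf χ)
    have hvan : ∀ y : G, p ∣ orderOf y → (χ : G → ℂ) y = 0 := fun y hy => by
      have := blockCoeff_eq_zero_of_singular hM hA hy
      rw [hc, mul_eq_zero] at this
      rcases this with h | h
      · exact absurd h (inv_ne_zero (Nat.cast_ne_zero.2 Nat.card_pos.ne'))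
      · rcases mul_eq_zero.1 h with h | h
        · exact absurd h (Characters.irr_one_ne_zero χ.2)
        · simpa using h
    obtain ⟨S⟩ : Nonempty (Sylow p G) := inferInstance
    haveI := Fintype.ofFinite (S : Subgroup G)
    have hS := memLocalRing_avg hM (P := (S : Subgroup G)) (x := 1)
      (by rw [orderOf_one]; exact hM.1.not_dvd_one) (Subgroup.one_mem _) χ
    rw [Finset.sum_eq_single (1 : (S : Subgroup G))] at hS
    · simp only [OneMemClass.coe_one, mul_one, ← charDegree_cast, inv_mul_eq_div] at hS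
      have hle := factorization_le_of_div_mem hM hd0 Nat.card_pos.ne' hS
      rw [S.card_eq_multiplicity, (Fact.out : p.Prime).factorization_pow,
        Finsupp.single_eq_same] at hle
      intro hdvd
      have hpos : Nat.card G / Cfsg.charDegree (χ : G → ℂ) ≠ 0 :=
        (Nat.div_pos (Nat.le_of_dvd Nat.card_pos hd) (Nat.pos_of_ne_zero hd0)).ne'
      have h1 := (Fact.out : p.Prime).factorization_pos_of_dvd hpos hdvd
      rw [Nat.factorization_div hd, Finsupp.tsub_apply] at h1
      omega
    · intro y _ hy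
      rw [one_mul]
      refine hvan _ ?_
      obtain ⟨k, hk⟩ := IsPGroup.iff_orderOf.1 S.isPGroup' y
      rw [Subgroup.orderOf_coe, hk]
      refine dvd_pow_self p fun h0 => hy (orderOf_eq_one_iff.1 ?_)
      rw [hk, h0, pow_zero]
    · simp

end CfsgLib.Blocks
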