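import Cfsg.Agent.Blocks.FirstMain
import Cfsg.Agent.BlocksLocal.Support

/-!
# The p-regular part of a height zero character, and Brauer's third main theorem

`regFun χ` is the central element with coefficients `conj (χ g)` at p-regular `g`.  Its central
character vanishes outside the block of `χ` and is a unit on it when `χ` has height zero.
Okuyama's form of the third main theorem follows by restricting this element.
-/

set_option autoImplicit false
set_option linter.style.haveILetI false
set_option linter.unusedSectionVars false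

namespace CfsgLib.Blocks

open Cfsg
open scoped ComplexConjugate

universe u

variable {G : Type u} [Group G] [Fintype G] {p : ℕ} [Fact p.Prime] {M : Ideal AlgInt} [M.IsPrime]

theorem evalFun_indicator_mul (D : Subgroup G) [Fintype D] (θ : G → ℂ) (x : G) :
    evalFun θ (ofFun (Set.indicator (D : Set G) fun _ => (1 : ℂ)) * MonoidAlgebra.single x 1) =
      ∑ u : D, θ ((u : G) * x) := by
  classical
  rw [evalFun]
  refine Eq.trans (b := ∑ n : G, if n ∈ D then θ (n * x) else 0) ?_ ?_
  · refine (Fintype.sum_equiv (Equiv.mulRight x) _ _ fun n => ?_).symm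
    simp [Set.indicator_apply]
  · rw [← Finset.sum_filter]
    exact Finset.sum_subtype _ (by simp) _

/-- A central element supported on p-regular elements, killed by all reduced central characters
and lying in a block, vanishes on the classes whose defect groups are defect groups of the
block. -/
theorem red_coeff_eq_zero (hM : Cfsg.IsPModular p M) {B : Set (IrrCharacter G)}
    (hB : Cfsg.IsPBlock M B) {D : Subgroup G} (hBD : Cfsg.IsDefectGroup p M B D)
    (A : Ctr (localRing M) G) (hoff : ∀ η, η ∉ B → omegaO M η A = 0)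
    (hzero : ∀ η ∈ B, red M (omegaO M η A) = 0)
    (hsing : ∀ y : G, p ∣ orderOf y → red M ((A : MonoidAlgebra (localRing M) G).coeff y) = 0)
    {g : G} (hg : ¬ p ∣ orderOf g) (hgD : IsSylowIn p (Subgroup.centralizer ({g} : Set G)) D) :
    red M ((A : MonoidAlgebra (localRing M) G).coeff g) = 0 := by
  classical
  haveI := charP_res hM
  have hD := IsDefectGroup.isPGroup hBD
  have hBu := isBlockUnion_of_isPBlock hB
  haveI := Fintype.ofFinite (Subgroup.normalizer (D : Set G))
  let N : Subgroup G := Subgroup.normalizer (D : Set G)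
  let φ := brHom (F := Res M) D N hD (Subgroup.centralizer_le_normalizer _) le_rfl
  have hU := isBlockUnion_overSet (M := M) N hBu
  let U := overSet M N B hBu
  -- the image of the block idempotent
  have hUval : ∀ η : IrrCharacter N,
      omegaBar M η (φ (idemBar M B hBu)) = if η ∈ U then 1 else 0 := by
    intro η
    obtain ⟨B', hB'⟩ := exists_induced_local hM hD η
    obtain ⟨χ', hχ'⟩ := isPBlock_nonempty hB'.2.1
    have e := (isInducedBlock_iff N hB'.1 hB'.2.1 (mem_blockOf_self η) hχ').1 hB'
      (idemBar M B hBu)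
    rw [omegaBar_idemBar] at e
    rw [brHom_apply, omegaBar_brRes_eq hM hD hB' (mem_blockOf_self η) hχ', omegaBar_idemBar]
    by_cases hm : χ' ∈ B
    · rw [if_pos hm] at e ⊢
      rw [if_pos]
      show omegaBar M η (resCtr N _) ≠ 0
      rw [e]; exact one_ne_zero
    · rw [if_neg hm] at e ⊢
      rw [if_neg]
      exact fun h => h e
  have hφU : φ (idemBar M B hBu) = idemBar M U hU :=
    idem_eq_of_omegaBar_eq (by rw [← map_mul, idemBar_mul_self]) (idemBar_mul_self U hU)
      fun η => by rw [hUval, omegaBar_idemBar]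
  have hAf : A * setIdemO M B (memLocalRing_blockCoeff hBu) = A := ctr_ext_omegaO fun η => by
    rw [map_mul, omegaO_setIdemO]
    by_cases h : η ∈ B
    · rw [if_pos h, mul_one]
    · rw [if_neg h, mul_zero, hoff η h]
  let A2 := setIdemO M U (memLocalRing_blockCoeff hU) * brRes D N le_rfl A
  have hred : redCtr M A2 = φ (redCtr M A) := by
    show redCtr M (_ * _) = _
    rw [map_mul, show redCtr M (setIdemO M U (memLocalRing_blockCoeff hU)) = idemBar M U hU from rfl, ← hφU, redCtr, mapCtr_brRes, ← redCtr, ← brHom_apply D N hD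
      (Subgroup.centralizer_le_normalizer _) le_rfl, ← map_mul, mul_comm, idemBar, ← map_mul, hAf]
  -- central characters of the lift
  have hc : ∀ η : IrrCharacter N, Cfsg.MemLocalIdeal M (omegaO M η A2 : ℂ) ∧
      (omegaO M η A2 ≠ 0 → (Nat.card N).factorization p ≤
        (Cfsg.charDegree (η : N → ℂ)).factorization p +
          (Nat.card (D.subgroupOf N)).factorization p) := by
    intro η
    by_cases hη : η ∈ U
    · obtain ⟨B', hB'⟩ := exists_induced_local hM hD η
      obtain ⟨χ', hχ'⟩ := isPBlock_nonempty hB'.2.1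
      have hχB : χ' ∈ B := by
        by_contra hm
        have e := (isInducedBlock_iff N hB'.1 hB'.2.1 (mem_blockOf_self η) hχ').1 hB'
          (idemBar M B hBu)
        rw [omegaBar_idemBar, if_neg hm] at e
        exact hη e
      rw [← isPBlock_eq_of_mem hB hB'.2.1 hχB hχ'] at hB'
      refine ⟨?_, fun _ => defect_add_degree_ge hM hB'.1
        (defect_local_of_induced hM hD hB' hBD) (mem_blockOf_self η)⟩
      rw [← red_eq_zero_iff, ← omegaBar_redCtr, hred, brHom_apply,
        omegaBar_brRes_eq hM hD hB' (mem_blockOf_self η) hχB, omegaBar_redCtr]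
      exact hzero χ' hχB
    · have h0 : omegaO M η A2 = 0 := by
        show omegaO M η (_ * _) = 0
        rw [map_mul, omegaO_setIdemO, if_neg hη, zero_mul]
      rw [h0]
      exact ⟨memLocalIdeal_zero, fun h => absurd rfl h⟩
  -- the sum over the coset of `D` at `g`
  have hgc : g ∈ Subgroup.centralizer (D : Set G) := le_centralizer_singleton_iff.1 hgD.1
  let gN : N := ⟨g, Subgroup.centralizer_le_normalizer _ hgc⟩
  let DN := D.subgroupOf N
  haveI := Fintype.ofFinite DN
  haveI : DN.Normal := subgroupOf_normal D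
  have hcomm : ∀ u : DN, Commute gN (u : N) := fun u =>
    Subtype.ext ((Subgroup.mem_centralizer_iff.1 hgc ((u : N) : G) u.2).symm)
  have hsum : Cfsg.MemLocalIdeal M
      (∑ u : DN, (((A2 : MonoidAlgebra (localRing M) N).coeff (gN * (u : N)) : localRing M) : ℂ)) := by
    let piD : Ctr ℂ N := ⟨ofFun (Set.indicator (DN : Set N) fun _ => (1 : ℂ)),
      mem_ctr_iff.2 fun a c => by
        simp only [coeff_ofFun, Set.indicator_apply, SetLike.mem_coe]
        refine if_congr ⟨fun h => ?_, fun h => ?_⟩ rfl rfl
        · have := Subgroup.Normal.conj_mem (inferInstance : DN.Normal) _ h c⁻¹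
          simpa [mul_assoc] using this
        · exact Subgroup.Normal.conj_mem (inferInstance : DN.Normal) _ h c⟩
    have hpi : piD * piD = scalar (Nat.card DN : ℂ) * piD := by
      refine ctr_ext fun c => ?_
      simp only [Subring.coe_mul, coe_scalar, MonoidAlgebra.coeff_single_mul_apply, inv_one,
        one_mul]
      rw [coeff_mul_eq_sum]
      simp only [piD, coeff_ofFun, Set.indicator_apply, SetLike.mem_coe]
      by_cases hcD : c ∈ DN
      · rw [if_pos hcD, mul_one, ← Finset.sum_congr rfl (g := fun x =>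
          (if x ∈ DN then (1 : ℂ) else 0) * (if x⁻¹ * c ∈ DN then 1 else 0)) (fun x _ => rfl)]
        rw [Finset.sum_congr rfl (g := fun x => if x ∈ DN then (1 : ℂ) else 0) (fun x _ => by
          by_cases hx : x ∈ DN
          · rw [if_pos hx, if_pos (DN.mul_mem (DN.inv_mem hx) hcD), one_mul]
          · rw [if_neg hx, zero_mul]), Finset.sum_boole, Nat.card_eq_fintype_card,
          Fintype.card_subtype]
      · rw [if_neg hcD, mul_zero]
        refine Finset.sum_eq_zero fun x _ => ?_
        by_cases hx : x ∈ DN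
        · have hxc : x⁻¹ * c ∉ DN := fun h => hcD (by
            have := DN.mul_mem hx h
            rwa [mul_inv_cancel_left] at this)
          simp [hx, hxc]
        · simp [hx]
    have hterm : ∀ η : IrrCharacter N,
        ∑ u : DN, conj ((η : N → ℂ) (gN * (u : N))) = omega η piD * (η : N → ℂ) gN⁻¹ := by
      intro η
      have h1 : evalFun (η : N → ℂ) (MonoidAlgebra.single gN⁻¹ 1) = (η : N → ℂ) gN⁻¹ := by
        rw [evalFun, Finset.sum_eq_single gN⁻¹ (fun b _ hb => by simp [hb.symm]) (by simp)]
        simp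
      rw [← h1, ← evalFun_central_mul, evalFun_indicator_mul]
      refine Fintype.sum_equiv (Equiv.inv DN) _ _ fun u => ?_
      rw [← Characters.character_inv (Characters.isCharacter_of_isIrr η.2)]
      simp only [Equiv.inv_apply, InvMemClass.coe_inv, mul_inv_rev]
    have hco : ∀ c : N, (((A2 : MonoidAlgebra (localRing M) N).coeff c : localRing M) : ℂ) =
        (Nat.card N : ℂ)⁻¹ * ∑ η : IrrCharacter N,
          (η : N → ℂ) 1 * (omegaO M η A2 : ℂ) * conj ((η : N → ℂ) c) := fun c => by
      have := coeff_eq_sum_omega (toC M A2) c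
      simpa [toC] using this
    simp only [hco, ← Finset.mul_sum]
    rw [Finset.sum_comm, Finset.mul_sum]
    refine memLocalIdeal_sum _ fun η _ => ?_
    rw [← Finset.mul_sum, hterm η]
    by_cases h0 : omegaO M η A2 = 0
    · rw [h0]; simp [memLocalIdeal_zero]
    · have hε : omega η piD = 0 ∨ omega η piD = (Nat.card DN : ℂ) := by
        have := congrArg (omega η) hpi
        rw [map_mul, map_mul, omega_scalar] at this
        rcases eq_or_ne (omega η piD) 0 with h | h
        · exact Or.inl h
        · exact Or.inr (mul_right_cancel₀ h this)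
      rcases hε with hε | hε
      · rw [hε]; simp [memLocalIdeal_zero]
      · have hq : Cfsg.MemLocalRing M (((Cfsg.charDegree (η : N → ℂ) * Nat.card DN : ℕ) : ℂ) /
            (Nat.card N : ℂ)) := by
          refine memLocalRing_div_of_eq hM Nat.card_pos.ne' ?_
          rw [Nat.factorization_mul (charDegree_ne_zero η) Nat.card_pos.ne', Finsupp.add_apply]
          exact (hc η).2 h0
        have := memLocalIdeal_mul_left
          (Subring.mul_mem (localRing M) hq (memLocalRing_char η gN⁻¹)) (hc η).1
        convert this using 1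
        rw [hε, ← charDegree_cast]
        push_cast
        ring
  rw [← Finset.add_sum_erase _ _ (Finset.mem_univ (1 : DN))] at hsum
  have hrest : Cfsg.MemLocalIdeal M (∑ u ∈ Finset.univ.erase (1 : DN),
      (((A2 : MonoidAlgebra (localRing M) N).coeff (gN * (u : N)) : localRing M) : ℂ)) := by
    refine memLocalIdeal_sum _ fun u hu => ?_
    have hu1 : u ≠ 1 := by simpa using hu
    rw [← red_eq_zero_iff, ← coeff_mapCtr (red M), ← redCtr, hred, brHom_apply]
    by_cases hcc : ((gN * (u : N) : N) : G) ∈ Subgroup.centralizer (D : Set G)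
    · rw [coeff_brRes_of_mem le_rfl _ hcc, redCtr, coeff_mapCtr]
      refine hsing _ ?_
      by_contra hd
      refine hu1 (Subtype.ext (Subtype.ext ?_))
      exact regular_mul_pgroup_eq hD u.2 hg
        ((Subgroup.mem_centralizer_iff.1 hgc ((u : N) : G) u.2).symm) hd
    · rw [coeff_brRes_of_notMem le_rfl _ hcc]
  have h1 := memLocalIdeal_sub hsum hrest
  simp only [add_sub_cancel_right, OneMemClass.coe_one, mul_one] at h1
  rw [← red_eq_zero_iff, ← coeff_mapCtr (red M), ← redCtr, hred, brHom_apply,
    coeff_brRes_of_mem le_rfl _ (show (gN : G) ∈ _ from hgc), redCtr, coeff_mapCtr] at h1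
  exact h1

theorem orderOf_conj_eq (g h : G) : orderOf (h * g * h⁻¹) = orderOf g := by
  rw [show h * g * h⁻¹ = MulAut.conj h g from rfl, MulEquiv.orderOf_eq]

/-- The central element with coefficients `conj (χ g)` on the p-regular elements. -/
noncomputable def regFun (p : ℕ) (M : Ideal AlgInt) [M.IsPrime] (χ : IrrCharacter G) :
    Ctr (localRing M) G :=
  ⟨ofFun fun g => if p ∣ orderOf g then 0 else
      ⟨(χ : G → ℂ) g⁻¹, memLocalRing_char χ g⁻¹⟩,
    mem_ctr_iff.2 fun g h => by
      simp only [coeff_ofFun, orderOf_conj_eq]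
      split_ifs
      · rfl
      · refine Subtype.ext ?_
        show (χ : G → ℂ) (h * g * h⁻¹)⁻¹ = (χ : G → ℂ) g⁻¹
        rw [show (h * g * h⁻¹)⁻¹ = h * g⁻¹ * h⁻¹ by group,
          Characters.isClassFunction_of_isIrr χ.2]⟩

theorem omega_regFun (χ η : IrrCharacter G) :
    (omegaO M η (regFun p M χ) : ℂ) =
      (∑ g : G, if p ∣ orderOf g then 0 else (χ : G → ℂ) g⁻¹ * (η : G → ℂ) g) / (η : G → ℂ) 1 := by
  rw [coe_omegaO, omega_apply]
  congr 1
  refine Finset.sum_congr rfl fun g _ => ?_
  rw [toC, coeff_mapCtr]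
  simp only [regFun, coeff_ofFun]
  split_ifs <;> simp

theorem omegaO_regFun_eq_zero (hM : Cfsg.IsPModular p M) {χ η : IrrCharacter G}
    (h : ¬ Cfsg.SameBlock M (χ : G → ℂ) (η : G → ℂ)) : omegaO M η (regFun p M χ) = 0 := by
  classical
  refine Subtype.ext ?_
  rw [omega_regFun]
  have h0 := BlocksLocal.sum_regular_mul_conj_eq_zero hM
    (χ := η) (ψ := χ) fun hh => h (sameBlock_symm hh)
  rw [finsum_mem_def, finsum_eq_sum_of_fintype] at h0
  rw [Finset.sum_congr rfl (g := fun g => Set.indicator {x : G | ¬ p ∣ orderOf x}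
    (fun x => (η : G → ℂ) x * conj ((χ : G → ℂ) x)) g) fun g _ => ?_, h0, zero_div]
  · rfl
  · rw [Set.indicator_apply]
    simp only [Set.mem_ofPred_eq]
    split_ifs with hd
    · rfl
    · rw [Characters.character_inv (Characters.isCharacter_of_isIrr χ.2), mul_comm]

/-- The central character of `regFun χ` on the block of a height zero `χ` is a unit. -/
theorem omegaBar_regFun_ne_zero (hM : Cfsg.IsPModular p M) (χ : IrrCharacter G)
    (h0 : Cfsg.blockHeight p (Cfsg.blockOf M (χ : G → ℂ)) (χ : G → ℂ) = 0) :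
    omegaBar M χ (redCtr M (regFun p M χ)) ≠ 0 := by
  intro hz
  have hB := isPBlock_blockOf (M := M) χ
  obtain ⟨D, hD⟩ := exists_isDefectGroup (p := p) hB
  obtain ⟨g, hg, hS⟩ := isDefectGroup_iff.1 hD
  have hreg := regular_of_isDefectClass hM hB hg
  have hS' : IsSylowIn p (Subgroup.centralizer ({g⁻¹} : Set G)) D := by
    rwa [centralizer_inv_singleton]
  have hreg' : ¬ p ∣ orderOf g⁻¹ := by rwa [orderOf_inv]
  have := red_coeff_eq_zero hM hB hD (regFun p M χ)
    (fun η hη => omegaO_regFun_eq_zero hM hη) (fun η hη => by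
      rw [← omegaBar_redCtr, ← (sameBlock_iff χ η).1 hη, hz])
    (fun y hy => by simp [regFun, hy]) hreg' hS'
  refine not_memLocalIdeal_of_height_zero hM hB hg (mem_blockOf_self χ) h0 ?_
  rw [red_eq_zero_iff] at this
  simpa [regFun, if_neg hreg', if_neg hreg] using this

theorem resCtr_regFun {H : Subgroup G} (χ : IrrCharacter G) (ψ : IrrCharacter H)
    (hψ : ∀ h : H, (ψ : H → ℂ) h = (χ : G → ℂ) h) [Fintype H] :
    resCtr H (regFun p M χ) = regFun p M ψ := by
  refine ctr_ext fun h => ?_
  simp only [coeff_resCtr, regFun, coeff_ofFun, Subgroup.orderOf_coe]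
  split_ifs
  · rfl
  · exact Subtype.ext (hψ h⁻¹).symm

/-- **Okuyama's form of the third main theorem.** -/
theorem third_main (hM : Cfsg.IsPModular p M) {H : Subgroup G} [Fintype H] (χ : IrrCharacter G)
    (ψ : IrrCharacter H) (hψ : ∀ h : H, (ψ : H → ℂ) h = (χ : G → ℂ) h)
    (hχ0 : Cfsg.blockHeight p (Cfsg.blockOf M (χ : G → ℂ)) (χ : G → ℂ) = 0)
    (hψ0 : Cfsg.blockHeight p (Cfsg.blockOf M (ψ : H → ℂ)) (ψ : H → ℂ) = 0)
    {e : Set (IrrCharacter H)} (he : Cfsg.InducedBlockDefined M H e) :
    Cfsg.IsInducedBlock M H e (Cfsg.blockOf M (χ : G → ℂ)) ↔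
      e = Cfsg.blockOf M (ψ : H → ℂ) := by
  have h1 := omegaBar_regFun_ne_zero hM χ hχ0
  have h2 := omegaBar_regFun_ne_zero hM ψ hψ0
  have hres : resCtr H (redCtr M (regFun p M χ)) = redCtr M (regFun p M ψ) := by
    rw [redCtr, ← mapCtr_resCtr, resCtr_regFun χ ψ hψ]; rfl
  constructor
  · intro hind
    obtain ⟨ξ, hξ⟩ := isPBlock_nonempty hind.1
    rw [← (isInducedBlock_iff H hind.1 hind.2.1 hξ (mem_blockOf_self χ)).1 hind, hres,
      omegaBar_redCtr] at h1
    have hm : Cfsg.SameBlock M (ψ : H → ℂ) (ξ : H → ℂ) := by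
      by_contra hn
      rw [omegaO_regFun_eq_zero hM hn, map_zero] at h1
      exact h1 rfl
    exact isPBlock_eq_of_mem hind.1 (isPBlock_blockOf ψ) hξ hm
  · rintro rfl
    obtain ⟨B, hB⟩ := he
    obtain ⟨η, hη⟩ := isPBlock_nonempty hB.2.1
    rw [← hres, (isInducedBlock_iff H hB.1 hB.2.1 (mem_blockOf_self ψ) hη).1 hB,
      omegaBar_redCtr] at h2
    have hm : Cfsg.SameBlock M (χ : G → ℂ) (η : G → ℂ) := by
      by_contra hn
      rw [omegaO_regFun_eq_zero hM hn, map_zero] at h2
      exact h2 rfl
    rwa [isPBlock_eq_of_mem hB.2.1 (isPBlock_blockOf χ) hη hm] at hB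

end CfsgLib.Blocks
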