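import Cfsg.Agent.Blocks.Defect

/-!
# Defect groups under block induction
-/

set_option autoImplicit false
set_option linter.style.haveILetI false
set_option linter.unusedSectionVars false

namespace CfsgLib.Blocks

open Cfsg
open CfsgLib.BlockPairs (cj mem_cj cj_cj cj_mono card_cj isPGroup_cj)

universe u

variable {G : Type u} [Group G] [Fintype G] {p : ℕ} [Fact p.Prime] {M : Ideal AlgInt} [M.IsPrime]

theorem exists_class_of_resCtr_ne_zero {H : Subgroup G} [Fintype H] (ξ : IrrCharacter H) {g : G}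
    (h : omegaBar M ξ (resCtr H (classSum _ (ConjClasses.mk g))) ≠ 0) :
    ∃ k : H, IsConj g (k : G) ∧ omegaBar M ξ (classSum _ (ConjClasses.mk k)) ≠ 0 := by
  classical
  haveI := Fintype.ofFinite (ConjClasses H)
  rw [eq_sum_classSum (resCtr H _), map_sum] at h
  obtain ⟨C, -, hC⟩ := Finset.exists_ne_zero_of_sum_ne_zero h
  obtain ⟨k, rfl⟩ := ConjClasses.mk_surjective C
  rw [map_mul, omegaBar_scalar, mul_ne_zero_iff, classCoeff_mk, coeff_resCtr, coeff_classSum] at hC
  refine ⟨k, ?_, hC.2⟩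
  rw [← ConjClasses.mk_eq_mk_iff_isConj]
  by_contra hcon
  exact hC.1 (if_neg fun e => hcon e.symm)

/-- If `b` induces `B`, a defect group of `b` lies in a defect group of `B`. -/
theorem IsDefectGroup.exists_le_of_induced (hM : Cfsg.IsPModular p M) {H : Subgroup G}
    {b : Set (IrrCharacter H)} {B : Set (IrrCharacter G)} (hind : Cfsg.IsInducedBlock M H b B)
    {D : Subgroup H} (hD : Cfsg.IsDefectGroup p M b D) :
    ∃ E : Subgroup G, Cfsg.IsDefectGroup p M B E ∧ D.map H.subtype ≤ E := by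
  haveI := Fintype.ofFinite H
  obtain ⟨χ, hχ⟩ := isPBlock_nonempty hind.2.1
  obtain ⟨ξ, hξ⟩ := isPBlock_nonempty hind.1
  obtain ⟨g, hg⟩ := exists_isDefectClass hind.2.1
  have hne := ((isDefectClass_iff hind.2.1 hχ g).1 hg).2
  rw [← (isInducedBlock_iff H hind.1 hind.2.1 hξ hχ).1 hind] at hne
  obtain ⟨k, hgk, hk⟩ := exists_class_of_resCtr_ne_zero ξ hne
  obtain ⟨S, hS, -⟩ := exists_isSylowIn_ge (p := p) (K := Subgroup.centralizer ({k} : Set H))
    IsPGroup.of_bot bot_le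
  obtain ⟨x, hx⟩ := IsDefectGroup.exists_conj_le hM hind.1 hD hξ hk hS
  have hSle : S.map H.subtype ≤ Subgroup.centralizer ({(k : G)} : Set G) := by
    rintro _ ⟨s, hs, rfl⟩
    exact Subgroup.mem_centralizer_singleton_iff.2
      (congrArg Subtype.val (Subgroup.mem_centralizer_singleton_iff.1 (hS.1 hs)))
  obtain ⟨T, hT, hST⟩ := exists_isSylowIn_ge (hS.2.1.map H.subtype) hSle
  refine ⟨cj (x : G)⁻¹ T, IsDefectGroup.conj hind.2.1
    (isDefectGroup_iff.2 ⟨k, isDefectClass_isConj hind.2.1 hgk hg, hT⟩) _, ?_⟩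
  rintro _ ⟨d, hd, rfl⟩
  rw [mem_cj, inv_inv]
  refine hST ⟨x * d * x⁻¹, hx ?_, rfl⟩
  rw [mem_cj]
  simpa [mul_assoc] using hd

end CfsgLib.Blocks
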