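import Cfsg.Agent.Blocks.SecondMain
import Cfsg.Agent.Blocks.InducedDefect

/-!
# p-sections

Values of a character on the p-section of `x` come from the blocks of `C(x)` inducing its block;
blocks respect p-sections.
-/

set_option autoImplicit false
set_option linter.style.haveILetI false
set_option linter.unusedSectionVars false

namespace CfsgLib.Blocks

open Cfsg
open scoped ComplexConjugate

universe u

variable {G : Type u} [Group G] [Fintype G] {p : ℕ} [Fact p.Prime] {M : Ideal AlgInt} [M.IsPrime]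

/-- The irreducible characters of `H` whose induced central character is nonzero at the block
idempotent of `B`. -/
noncomputable def overSet (M : Ideal AlgInt) [M.IsPrime] (H : Subgroup G) [Fintype H]
    (B : Set (IrrCharacter G)) (hB : IsBlockUnion M B) : Set (IrrCharacter H) :=
  {ξ | omegaBar M ξ (resCtr H (idemBar M B hB)) ≠ 0}

theorem isBlockUnion_overSet (H : Subgroup G) [Fintype H] {B : Set (IrrCharacter G)}
    (hB : IsBlockUnion M B) : IsBlockUnion M (overSet M H B hB) := by
  intro ξ hξ η hη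
  show omegaBar M η (resCtr H (idemBar M B hB)) ≠ 0
  rw [← (sameBlock_iff ξ η).1 hη]
  exact hξ

theorem isBlockUnion_compl {A : Set (IrrCharacter G)} (hA : IsBlockUnion M A) :
    IsBlockUnion M Aᶜ := fun _ hχ ψ hψ hψA =>
  hχ (hA ψ hψA (mem_blockOf.2 (sameBlock_symm (mem_blockOf.1 hψ))))

theorem idemBar_add_compl {A : Set (IrrCharacter G)} (hA : IsBlockUnion M A) :
    idemBar M A hA + idemBar M Aᶜ (isBlockUnion_compl hA) = 1 := by
  classical
  rw [idemBar, idemBar, ← map_add, ← map_one (redCtr (G := G) M)]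
  congr 1
  refine ctr_ext_omegaO fun ψ => ?_
  rw [map_add, omegaO_setIdemO, omegaO_setIdemO, map_one]
  by_cases h : ψ ∈ A <;> simp [h]

/-- The centralizer of a p-element is a subgroup through which blocks are induced. -/
theorem induced_setup (hM : Cfsg.IsPModular p M) {x : G} (hx : ∃ k, orderOf x = p ^ k)
    [Fintype (Subgroup.centralizer ({x} : Set G))]
    (ξ : IrrCharacter (Subgroup.centralizer ({x} : Set G))) :
    ∃ B, Cfsg.IsInducedBlock M (Subgroup.centralizer ({x} : Set G)) (Cfsg.blockOf M (ξ : _ → ℂ)) B := by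
  obtain ⟨k, hk⟩ := hx
  have hP : IsPGroup p (Subgroup.zpowers x) := IsPGroup.of_card (n := k) (by rw [Nat.card_zpowers, hk])
  refine inducedBlockDefined_of_local hM hP ?_ ?_ ?_ (isPBlock_blockOf ξ)
  · rw [Subgroup.zpowers_le, Subgroup.mem_centralizer_singleton_iff]
  · exact fun g hg => Subgroup.mem_centralizer_singleton_iff.2
      (Subgroup.mem_centralizer_iff.1 hg x (Subgroup.mem_zpowers x)).symm
  · intro g hg
    refine Subgroup.centralizer_le_normalizer _ (Subgroup.mem_centralizer_iff.2 fun v ⟨i, hi⟩ => ?_)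
    exact hi ▸ ((Commute.zpow_left (show Commute x g from
      (Subgroup.mem_centralizer_singleton_iff.1 hg).symm) i).eq)

theorem isInducedBlock_of_mem_overSet (hM : Cfsg.IsPModular p M) {x : G}
    (hx : ∃ k, orderOf x = p ^ k) [Fintype (Subgroup.centralizer ({x} : Set G))]
    {B : Set (IrrCharacter G)} (hB : Cfsg.IsPBlock M B)
    {ξ : IrrCharacter (Subgroup.centralizer ({x} : Set G))}
    (hξ : ξ ∈ overSet M _ B (isBlockUnion_of_isPBlock hB)) :
    Cfsg.IsInducedBlock M (Subgroup.centralizer ({x} : Set G)) (Cfsg.blockOf M (ξ : _ → ℂ)) B := by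
  classical
  obtain ⟨B', hB'⟩ := induced_setup hM hx ξ
  obtain ⟨χ, hχ⟩ := isPBlock_nonempty hB'.2.1
  have h := (isInducedBlock_iff _ hB'.1 hB'.2.1 (mem_blockOf_self ξ) hχ).1 hB'
    (idemBar M B (isBlockUnion_of_isPBlock hB))
  rw [omegaBar_idemBar] at h
  by_cases hm : χ ∈ B
  · rwa [isPBlock_eq_of_mem hB hB'.2.1 hm hχ]
  · rw [if_neg hm] at h
    exact absurd h hξ

theorem not_mem_overSet (hM : Cfsg.IsPModular p M) {x : G} (hx : ∃ k, orderOf x = p ^ k)
    [Fintype (Subgroup.centralizer ({x} : Set G))] {B : Set (IrrCharacter G)}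
    (hB : Cfsg.IsPBlock M B) {ξ : IrrCharacter (Subgroup.centralizer ({x} : Set G))}
    (h : ¬ Cfsg.IsInducedBlock M (Subgroup.centralizer ({x} : Set G))
      (Cfsg.blockOf M (ξ : _ → ℂ)) B) :
    omegaBar M ξ (resCtr _ (idemBar M B (isBlockUnion_of_isPBlock hB))) = 0 := by
  by_contra hne
  exact h (isInducedBlock_of_mem_overSet hM hx hB hne)

theorem hC_of_mul {x : G} (hx : ∃ k, orderOf x = p ^ k)
    {y : Subgroup.centralizer ({x} : Set G)} (hy : ¬ p ∣ orderOf y)
    {H : Subgroup G} (hH : Subgroup.centralizer ({x} : Set G) ≤ H) (z : G)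
    (hz : Cfsg.IsPPart p (x * (y : G)) z) : Subgroup.centralizer ({z} : Set G) ≤ H := by
  have hcomm : Commute x (y : G) := (Subgroup.mem_centralizer_singleton_iff.1 y.2).symm
  rw [isPPart_unique (Fact.out : p.Prime) hz
    (isPPart_of_mul hcomm hx (by rwa [Subgroup.orderOf_coe]))]
  exact hH

theorem isClassFunction_translate (θ : G → ℂ) (hθ : Cfsg.IsClassFunction G θ) (x : G) :
    Cfsg.IsClassFunction (Subgroup.centralizer ({x} : Set G))
      (fun c => θ (x * (c : G))) := by
  intro c d
  have h1 : x * ((d : G) * c * (d : G)⁻¹) = (d : G) * (x * c) * (d : G)⁻¹ := by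
    rw [← mul_assoc, ← mul_assoc, ← Subgroup.mem_centralizer_singleton_iff.1 d.2]
    group
  show θ (x * ((d * c * d⁻¹ : Subgroup.centralizer ({x} : Set G)) : G)) = _
  push_cast
  rw [h1, hθ]

theorem blockPart_translate {x : G} [Fintype (Subgroup.centralizer ({x} : Set G))]
    (A : Set (IrrCharacter (Subgroup.centralizer ({x} : Set G)))) {θ : G → ℂ}
    (hθ : Cfsg.IsClassFunction G θ) (y : Subgroup.centralizer ({x} : Set G)) :
    Cfsg.blockPart A (fun c : Subgroup.centralizer ({x} : Set G) => θ (x * (c : G))) y =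
      ∑ k : Subgroup.centralizer ({x} : Set G),
        Cfsg.blockCoeff A k * θ ((k : G) * (x * (y : G))) := by
  rw [blockPart_eq_sum A (isClassFunction_translate θ hθ x) y]
  refine Finset.sum_congr rfl fun k _ => ?_
  rw [Subgroup.coe_mul, ← mul_assoc, ← mul_assoc, ← Subgroup.mem_centralizer_singleton_iff.1 k.2]

theorem blockPart_add_compl (A : Set (IrrCharacter G)) {θ : G → ℂ}
    (hθ : Cfsg.IsClassFunction G θ) (y : G) :
    Cfsg.blockPart A θ y + Cfsg.blockPart Aᶜ θ y = θ y := by
  classical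
  rw [Cfsg.blockPart, Cfsg.blockPart, finsum_irr_mem, finsum_irr_mem, ← Finset.sum_add_distrib,
    show (Fintype.ofFinite G) = ‹Fintype G› from Subsingleton.elim _ _]
  conv_rhs => rw [Characters.classFunction_expansion hθ, Finset.sum_apply]
  refine Finset.sum_congr rfl fun χ _ => ?_
  by_cases h : χ ∈ A <;> simp [h]

open Classical in
/-- The values of an irreducible character on a p-section come from the blocks inducing its
block. -/
theorem blockPart_overSet (hM : Cfsg.IsPModular p M) {x : G} (hx : ∃ k, orderOf x = p ^ k)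
    [Fintype (Subgroup.centralizer ({x} : Set G))] {B : Set (IrrCharacter G)}
    (hB : Cfsg.IsPBlock M B) (χ : IrrCharacter G)
    {y : Subgroup.centralizer ({x} : Set G)} (hy : ¬ p ∣ orderOf y) :
    Cfsg.blockPart (overSet M _ B (isBlockUnion_of_isPBlock hB))
      (fun c : Subgroup.centralizer ({x} : Set G) => (χ : G → ℂ) (x * (c : G))) y =
        if χ ∈ B then (χ : G → ℂ) (x * (y : G)) else 0 := by
  let H := Subgroup.centralizer ({x} : Set G)
  have hBu := isBlockUnion_of_isPBlock hB
  have hU := isBlockUnion_overSet H hBu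
  have hcl := Characters.isClassFunction_of_isIrr χ.2
  let h : H := ⟨x, Subgroup.mem_centralizer_singleton_iff.2 rfl⟩ * y
  have hh : (h : G) = x * (y : G) := rfl
  have hC : ∀ z : G, Cfsg.IsPPart p (h : G) z → Subgroup.centralizer ({z} : Set G) ≤ H :=
    fun z hz => hC_of_mul hx hy le_rfl z hz
  split_ifs with hm
  · have key := second_main hM hC (isBlockUnion_compl hU) hBu (fun ξ hξ => not_not.1 hξ) hm
    rw [hh] at key
    have e := blockPart_add_compl (overSet M H B hBu) (isClassFunction_translate _ hcl x) y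
    rw [blockPart_translate (overSet M H B hBu)ᶜ hcl, key, add_zero] at e
    exact e
  · rw [blockPart_translate _ hcl, ← hh]
    refine second_main hM hC hU (isBlockUnion_compl hBu) (fun ξ hξ => ?_) hm
    have h1 : omegaBar M ξ (resCtr H (idemBar M B hBu)) +
        omegaBar M ξ (resCtr H (idemBar M Bᶜ (isBlockUnion_compl hBu))) = 1 := by
      rw [← map_add, ← map_add, idemBar_add_compl, resCtr_one, map_one]
    have h2 := isInducedBlock_of_mem_overSet hM hx hB hξ
    obtain ⟨χ', hχ'⟩ := isPBlock_nonempty hB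
    rw [(isInducedBlock_iff H h2.1 hB (mem_blockOf_self ξ) hχ').1 h2 (idemBar M B hBu),
      omegaBar_idemBar, if_pos hχ'] at h1
    linear_combination h1

/-- A character vanishes where the p-part lies in no defect group of its block. -/
theorem char_eq_zero_of_not_mem_defectGroup (hM : Cfsg.IsPModular p M) (χ : IrrCharacter G)
    {g x : G} (hx : Cfsg.IsPPart p g x)
    (hD : ∀ D : Subgroup G, Cfsg.IsDefectGroup p M (Cfsg.blockOf M (χ : G → ℂ)) D → x ∉ D) :
    (χ : G → ℂ) g = 0 := by
  classical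
  obtain ⟨y, rfl, hcomm, hxo, hy⟩ := hx
  let H := Subgroup.centralizer ({x} : Set G)
  haveI := Fintype.ofFinite H
  have hB := isPBlock_blockOf (M := M) χ
  let y' : H := ⟨y, Subgroup.mem_centralizer_singleton_iff.2 hcomm.eq.symm⟩
  have hy' : ¬ p ∣ orderOf y' := by rwa [← Subgroup.orderOf_coe]
  have hempty : overSet M H (Cfsg.blockOf M (χ : G → ℂ)) (isBlockUnion_of_isPBlock hB) = ∅ := by
    refine Set.eq_empty_iff_forall_notMem.2 fun ξ hξ => ?_
    obtain ⟨D, hDd⟩ := exists_isDefectGroup (p := p) (isPBlock_blockOf (M := M) ξ)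
    let xH : H := ⟨x, Subgroup.mem_centralizer_singleton_iff.2 rfl⟩
    haveI : (Subgroup.zpowers xH).Normal := ⟨fun a ha c => by
      obtain ⟨i, rfl⟩ := ha
      have : Commute c xH := Subtype.ext (Subgroup.mem_centralizer_singleton_iff.1 c.2)
      rw [(this.zpow_right i).eq, mul_inv_cancel_right]
      exact Subgroup.zpow_mem_zpowers _ _⟩
    have hpg : IsPGroup p (Subgroup.zpowers xH) := by
      obtain ⟨k, hk⟩ := hxo
      refine IsPGroup.of_card (n := k) ?_
      rw [Nat.card_zpowers, ← Subgroup.orderOf_coe, hk]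
    have hmem := IsDefectGroup.le_of_normal hM (isPBlock_blockOf ξ) hDd (Subgroup.zpowers xH) hpg
      (Subgroup.mem_zpowers xH)
    obtain ⟨E, hE, hle⟩ := IsDefectGroup.exists_le_of_induced hM
      (isInducedBlock_of_mem_overSet hM hxo hB hξ) hDd
    exact hD E hE (hle ⟨xH, hmem, rfl⟩)
  have key := blockPart_overSet hM hxo hB χ hy'
  rw [if_pos (mem_blockOf_self χ), hempty] at key
  refine key.symm.trans ?_
  rw [Cfsg.blockPart]
  simp

/-- Blocks respect p-sections. -/
theorem blockPart_eq_zero_of_section (hM : Cfsg.IsPModular p M) {ϑ : G → ℂ}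
    (hϑ : Cfsg.IsClassFunction G ϑ) {x : G}
    (hvan : ∀ u z : G, Cfsg.IsPPart p u z → IsConj x z → ϑ u = 0)
    {B : Set (IrrCharacter G)} (hB : Cfsg.IsPBlock M B) {u z : G} (hu : Cfsg.IsPPart p u z)
    (hxz : IsConj x z) : Cfsg.blockPart B ϑ u = 0 := by
  classical
  obtain ⟨s, rfl, hcomm, hzo, hs⟩ := hu
  let H := Subgroup.centralizer ({z} : Set G)
  haveI := Fintype.ofFinite H
  let s' : H := ⟨s, Subgroup.mem_centralizer_singleton_iff.2 hcomm.eq.symm⟩
  have hs' : ¬ p ∣ orderOf s' := by rwa [← Subgroup.orderOf_coe]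
  set A := overSet M H B (isBlockUnion_of_isPBlock hB)
  set θ : H → ℂ := fun c => ϑ (z * (c : G)) with hθ
  have hθc : Cfsg.IsClassFunction H θ := isClassFunction_translate ϑ hϑ z
  have hzero : Cfsg.blockPart A θ s' = 0 := by
    have hreg : ∀ c : H, ¬ p ∣ orderOf c → θ c = 0 := fun c hc =>
      hvan _ z (isPPart_of_mul (Subgroup.mem_centralizer_singleton_iff.1 c.2).symm hzo
        (by rwa [Subgroup.orderOf_coe])) hxz
    rw [Cfsg.blockPart, finsum_irr_mem,
      show (Fintype.ofFinite H) = ‹Fintype H› from Subsingleton.elim _ _]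
    refine sum_union_eq_zero hM (isBlockUnion_overSet H (isBlockUnion_of_isPBlock hB))
      (fun ξ => Cfsg.classInner θ (ξ : H → ℂ)) (fun c hc => ?_) hs'
    have := congrFun (Characters.classFunction_expansion hθc) c
    rw [hreg c hc, Finset.sum_apply] at this
    simpa using this.symm
  rw [blockPart_translate A hϑ] at hzero
  refine Eq.trans ?_ hzero
  rw [Cfsg.blockPart, finsum_irr_mem,
    show (Fintype.ofFinite G) = ‹Fintype G› from Subsingleton.elim _ _]
  conv_rhs => rw [Characters.classFunction_expansion hϑ]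
  simp only [Finset.sum_apply, Pi.smul_apply, smul_eq_mul, Finset.mul_sum]
  rw [Finset.sum_comm]
  refine Finset.sum_congr rfl fun χ _ => ?_
  have h1 := blockPart_overSet hM hzo hB χ hs'
  rw [blockPart_translate A (Characters.isClassFunction_of_isIrr χ.2)] at h1
  calc (if χ ∈ B then Cfsg.classInner ϑ (χ : G → ℂ) * (χ : G → ℂ) (z * s) else 0)
      = Cfsg.classInner ϑ (χ : G → ℂ) *
          (if χ ∈ B then (χ : G → ℂ) (z * (s' : G)) else 0) := by split_ifs <;> simp [s']
    _ = _ := by
      rw [← h1, Finset.mul_sum]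
      exact Finset.sum_congr rfl fun k _ => by ring

open Classical in
/-- Block orthogonality. -/
theorem sum_block_mul_inv_eq_zero (hM : Cfsg.IsPModular p M) {g h x y : G}
    (hg : Cfsg.IsPPart p g x) (hh : Cfsg.IsPPart p h y) (hxy : ¬ IsConj x y)
    {B : Set (IrrCharacter G)} (hB : Cfsg.IsPBlock M B) :
    ∑ χ : IrrCharacter G, (if χ ∈ B then (χ : G → ℂ) g * (χ : G → ℂ) h⁻¹ else 0) = 0 := by
  set ϑ : G → ℂ := fun u => ∑ χ : IrrCharacter G, (χ : G → ℂ) u * conj ((χ : G → ℂ) h) with hϑ
  have hcl : Cfsg.IsClassFunction G ϑ := fun a c =>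
    Finset.sum_congr rfl fun χ _ => by rw [Characters.isClassFunction_of_isIrr χ.2]
  have key := blockPart_eq_zero_of_section hM hcl (x := x) (fun u z hu hz => by
    refine Characters.sum_irr_mul_conj_of_not_isConj fun hc => hxy ?_
    obtain ⟨c, rfl⟩ := isConj_iff.1 hc
    rw [isPPart_unique (Fact.out : p.Prime) hh (isPPart_conj hu c)]
    exact hz.trans (isConj_iff.2 ⟨c, rfl⟩)) hB hg (IsConj.refl x)
  rw [Cfsg.blockPart, finsum_irr_mem,
    show (Fintype.ofFinite G) = ‹Fintype G› from Subsingleton.elim _ _] at key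
  refine Eq.trans ?_ key
  refine Finset.sum_congr rfl fun χ _ => ?_
  have hcoef : Cfsg.classInner ϑ (χ : G → ℂ) = conj ((χ : G → ℂ) h) := by
    have he : ϑ = ∑ ψ : IrrCharacter G, conj ((ψ : G → ℂ) h) • (ψ : G → ℂ) := by
      funext u
      rw [hϑ, Finset.sum_apply]
      exact Finset.sum_congr rfl fun ψ _ => by simp [mul_comm]
    rw [he, Characters.classInner_irr_coeff]
  rw [hcoef, Characters.character_inv (Characters.isCharacter_of_isIrr χ.2)]
  split_ifs <;> ring

end CfsgLib.Blocks
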