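import Cfsg.Agent.Blocks.Idempotent

/-!
# Defect classes

Reading `Cfsg.IsDefectClass` over the residue field, and existence of defect classes.
-/

set_option autoImplicit false
set_option linter.style.haveILetI false
set_option linter.unusedSectionVars false

namespace CfsgLib.Blocks

open Cfsg

universe u

variable {G : Type u} [Group G] [Fintype G] {M : Ideal AlgInt} [M.IsPrime]

theorem not_memLocalIdeal_centralChar_iff (χ : IrrCharacter G) (g : G) :
    ¬ Cfsg.MemLocalIdeal M (Cfsg.centralChar (χ : G → ℂ) g) ↔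
      omegaBar M χ (classSum _ (ConjClasses.mk g)) ≠ 0 := by
  rw [omegaBar_classSum, ne_eq, red_eq_zero_iff]

theorem not_memLocalIdeal_blockCoeff_iff {A : Set (IrrCharacter G)} (hA : IsBlockUnion M A)
    (g : G) : ¬ Cfsg.MemLocalIdeal M (Cfsg.blockCoeff A g) ↔
      (idemBar M A hA : MonoidAlgebra (Res M) G).coeff g ≠ 0 := by
  rw [coeff_idemBar, ne_eq, red_eq_zero_iff]

theorem isDefectClass_iff {B : Set (IrrCharacter G)} (hB : Cfsg.IsPBlock M B)
    {χ : IrrCharacter G} (hχ : χ ∈ B) (g : G) :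
    Cfsg.IsDefectClass M B g ↔
      (idemBar M B (isBlockUnion_of_isPBlock hB) : MonoidAlgebra (Res M) G).coeff g ≠ 0 ∧
        omegaBar M χ (classSum _ (ConjClasses.mk g)) ≠ 0 := by
  constructor
  · rintro ⟨-, h2, h3⟩
    exact ⟨(not_memLocalIdeal_blockCoeff_iff _ g).1 h2,
      (not_memLocalIdeal_centralChar_iff χ g).1 (h3 χ hχ)⟩
  · rintro ⟨h1, h2⟩
    refine ⟨memLocalRing_blockCoeff (isBlockUnion_of_isPBlock hB) g,
      (not_memLocalIdeal_blockCoeff_iff _ g).2 h1, fun ψ hψ => ?_⟩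
    rw [eq_blockOf_of_mem hB hχ] at hψ
    rw [not_memLocalIdeal_centralChar_iff, ← (sameBlock_iff χ ψ).1 hψ]
    exact h2

theorem exists_isDefectClass {B : Set (IrrCharacter G)} (hB : Cfsg.IsPBlock M B) :
    ∃ g : G, Cfsg.IsDefectClass M B g := by
  classical
  haveI := Fintype.ofFinite (ConjClasses G)
  obtain ⟨χ, hχ⟩ := isPBlock_nonempty hB
  have h1 := omegaBar_idemBar B (isBlockUnion_of_isPBlock hB) χ
  rw [if_pos hχ, eq_sum_classSum (idemBar M B (isBlockUnion_of_isPBlock hB)), map_sum] at h1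
  obtain ⟨C, -, hC⟩ := Finset.exists_ne_zero_of_sum_ne_zero (h1 ▸ one_ne_zero)
  rw [map_mul, omegaBar_scalar, mul_ne_zero_iff] at hC
  obtain ⟨g, rfl⟩ := ConjClasses.mk_surjective C
  rw [classCoeff_mk] at hC
  exact ⟨g, (isDefectClass_iff hB hχ g).2 hC⟩

end CfsgLib.Blocks
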