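import Cfsg.Agent.Blocks.BrauerMap
import Cfsg.Agent.Blocks.DefectClass
import Cfsg.Agent.Blocks.SylowIn

/-!
# Defect groups: the min-max theorem

`DomBy p D a`: every p-subgroup centralizing an element of the support of `a` is conjugate into
`D`.  These elements form an ideal of the centre; if `D` is a defect group of the block `B`, the
block idempotent is dominated by `D`, and `D` is conjugate into the centralizer Sylow of every
class where the central character of `B` is nonzero.
-/

set_option autoImplicit false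
set_option linter.style.haveILetI false
set_option linter.unusedSectionVars false

namespace CfsgLib.Blocks

open Cfsg
open CfsgLib.BlockPairs (cj mem_cj cj_cj cj_one cj_mono card_cj isPGroup_cj)

universe u

variable {G : Type u} [Group G] [Fintype G] {p : ℕ}

/-- Every p-subgroup centralizing a support element of `a` is conjugate into `D`. -/
def DomBy {R : Type*} [CommRing R] (p : ℕ) (D : Subgroup G) (a : Ctr R G) : Prop :=
  ∀ Q : Subgroup G, IsPGroup p Q → ∀ g ∈ Subgroup.centralizer (Q : Set G),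
    (a : MonoidAlgebra R G).coeff g ≠ 0 → ∃ x : G, cj x Q ≤ D

theorem le_centralizer_singleton_iff {Q : Subgroup G} {g : G} :
    Q ≤ Subgroup.centralizer ({g} : Set G) ↔ g ∈ Subgroup.centralizer (Q : Set G) :=
  ⟨fun h => Subgroup.mem_centralizer_iff.2 fun u hu =>
      Subgroup.mem_centralizer_singleton_iff.1 (h hu),
    fun h u hu => Subgroup.mem_centralizer_singleton_iff.2
      (Subgroup.mem_centralizer_iff.1 h u hu)⟩

theorem cj_centralizer_singleton (x g : G) :
    cj x (Subgroup.centralizer ({g} : Set G)) =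
      Subgroup.centralizer ({x * g * x⁻¹} : Set G) :=
  (centralizer_singleton_conj x g).symm

variable [Fact p.Prime]

theorem DomBy.mul_left {F : Type*} [Field F] [CharP F p] {D : Subgroup G} {a : Ctr F G}
    (ha : DomBy p D a) (w : Ctr F G) : DomBy p D (w * a) := by
  classical
  intro Q hQ g hg hne
  rw [mul_comm, coeff_mul_centralizer hQ a w hg] at hne
  obtain ⟨x, -, hx⟩ := Finset.exists_ne_zero_of_sum_ne_zero hne
  by_cases hxc : x ∈ Subgroup.centralizer (Q : Set G)
  · rw [if_pos hxc] at hx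
    exact ha Q hQ x hxc (mul_ne_zero_iff.1 hx).1
  · exact absurd (if_neg hxc) hx

theorem domBy_classSum {R : Type*} [CommRing R] {g : G} {D : Subgroup G}
    (hD : IsSylowIn p (Subgroup.centralizer ({g} : Set G)) D) :
    DomBy p D (classSum R (ConjClasses.mk g)) := by
  classical
  intro Q hQ h hh hne
  rw [coeff_classSum] at hne
  obtain ⟨x, hx⟩ : IsConj h g := by
    rw [← ConjClasses.mk_eq_mk_iff_isConj]
    by_contra hcon
    exact hne (if_neg hcon)
  have hxg : (x : G) * h * (x : G)⁻¹ = g := by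
    rw [hx.eq]; simp
  have hle : cj (x : G) Q ≤ Subgroup.centralizer ({g} : Set G) := by
    rw [← hxg, ← cj_centralizer_singleton]
    exact cj_mono _ (le_centralizer_singleton_iff.2 hh)
  obtain ⟨k, -, hk⟩ := hD.exists_le_conj (isPGroup_cj _ hQ) hle
  refine ⟨k⁻¹ * x, ?_⟩
  rw [← cj_cj, ← BlockPairs.cj_inv_cj k D]
  exact cj_mono _ hk

variable {M : Ideal AlgInt} [M.IsPrime]

/-- A class with nonzero central character dominates the block idempotent. -/
theorem domBy_idemBar (hM : Cfsg.IsPModular p M) {B : Set (IrrCharacter G)}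
    (hB : Cfsg.IsPBlock M B) {χ : IrrCharacter G} (hχ : χ ∈ B) {g : G}
    (hg : omegaBar M χ (classSum _ (ConjClasses.mk g)) ≠ 0) {D : Subgroup G}
    (hD : IsSylowIn p (Subgroup.centralizer ({g} : Set G)) D) :
    DomBy p D (idemBar M B (isBlockUnion_of_isPBlock hB)) := by
  haveI := charP_res hM
  obtain ⟨w, hw⟩ := exists_mul_eq_idemBar hB hχ hg
  exact hw ▸ (domBy_classSum hD).mul_left w

theorem isDefectGroup_iff {B : Set (IrrCharacter G)} {D : Subgroup G} :
    Cfsg.IsDefectGroup p M B D ↔ ∃ g : G, Cfsg.IsDefectClass M B g ∧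
      IsSylowIn p (Subgroup.centralizer ({g} : Set G)) D := by
  simp only [Cfsg.IsDefectGroup, isSylowIn_iff, eq_comm]

theorem isDefectClass_isConj {B : Set (IrrCharacter G)} (hB : Cfsg.IsPBlock M B) {g h : G}
    (hgh : IsConj g h) (hg : Cfsg.IsDefectClass M B g) : Cfsg.IsDefectClass M B h := by
  obtain ⟨χ, hχ⟩ := isPBlock_nonempty hB
  rw [isDefectClass_iff hB hχ] at hg ⊢
  rwa [← ConjClasses.mk_eq_mk_iff_isConj.2 hgh, ← coeff_eq_of_isConj
    (idemBar M B (isBlockUnion_of_isPBlock hB)).2 hgh]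

theorem IsDefectGroup.isPGroup {B : Set (IrrCharacter G)} {D : Subgroup G}
    (hD : Cfsg.IsDefectGroup p M B D) : IsPGroup p D := by
  obtain ⟨g, -, h⟩ := isDefectGroup_iff.1 hD
  exact h.2.1

theorem IsDefectGroup.conj {B : Set (IrrCharacter G)} (hB : Cfsg.IsPBlock M B) {D : Subgroup G}
    (hD : Cfsg.IsDefectGroup p M B D) (x : G) : Cfsg.IsDefectGroup p M B (cj x D) := by
  obtain ⟨g, hg, hS⟩ := isDefectGroup_iff.1 hD
  refine isDefectGroup_iff.2 ⟨x * g * x⁻¹, isDefectClass_isConj hB (isConj_iff.2 ⟨x, rfl⟩) hg, ?_⟩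
  rw [← cj_centralizer_singleton]
  exact hS.conj x

theorem exists_isDefectGroup {B : Set (IrrCharacter G)} (hB : Cfsg.IsPBlock M B) :
    ∃ D, Cfsg.IsDefectGroup p M B D := by
  obtain ⟨g, hg⟩ := exists_isDefectClass hB
  obtain ⟨D, hD, -⟩ := exists_isSylowIn_ge (p := p) (K := Subgroup.centralizer ({g} : Set G))
    IsPGroup.of_bot bot_le
  exact ⟨D, isDefectGroup_iff.2 ⟨g, hg, hD⟩⟩

/-- A defect group centralizes a support element of the block idempotent. -/
theorem IsDefectGroup.exists_coeff {B : Set (IrrCharacter G)} (hB : Cfsg.IsPBlock M B)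
    {D : Subgroup G} (hD : Cfsg.IsDefectGroup p M B D) :
    ∃ g ∈ Subgroup.centralizer (D : Set G),
      (idemBar M B (isBlockUnion_of_isPBlock hB) : MonoidAlgebra (Res M) G).coeff g ≠ 0 := by
  obtain ⟨g, hg, hS⟩ := isDefectGroup_iff.1 hD
  obtain ⟨χ, hχ⟩ := isPBlock_nonempty hB
  exact ⟨g, le_centralizer_singleton_iff.1 hS.1, ((isDefectClass_iff hB hχ g).1 hg).1⟩

theorem IsDefectGroup.domBy (hM : Cfsg.IsPModular p M) {B : Set (IrrCharacter G)}
    (hB : Cfsg.IsPBlock M B) {D : Subgroup G} (hD : Cfsg.IsDefectGroup p M B D) :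
    DomBy p D (idemBar M B (isBlockUnion_of_isPBlock hB)) := by
  obtain ⟨g, hg, hS⟩ := isDefectGroup_iff.1 hD
  obtain ⟨χ, hχ⟩ := isPBlock_nonempty hB
  exact domBy_idemBar hM hB hχ ((isDefectClass_iff hB hχ g).1 hg).2 hS

/-- A class with nonzero central character is centralized by a conjugate of the defect group. -/
theorem IsDefectGroup.exists_conj_le (hM : Cfsg.IsPModular p M) {B : Set (IrrCharacter G)}
    (hB : Cfsg.IsPBlock M B) {D : Subgroup G} (hD : Cfsg.IsDefectGroup p M B D)
    {χ : IrrCharacter G} (hχ : χ ∈ B) {h : G}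
    (hh : omegaBar M χ (classSum _ (ConjClasses.mk h)) ≠ 0) {S : Subgroup G}
    (hS : IsSylowIn p (Subgroup.centralizer ({h} : Set G)) S) : ∃ x : G, cj x D ≤ S := by
  obtain ⟨g, hg, hne⟩ := IsDefectGroup.exists_coeff hB hD
  exact domBy_idemBar hM hB hχ hh hS D (IsDefectGroup.isPGroup hD) g hg hne

theorem eq_cj_of_le_le {D E : Subgroup G} {x y : G} (h1 : cj x D ≤ E) (h2 : cj y E ≤ D) :
    cj x D = E :=
  Subgroup.eq_of_le_of_card_ge h1 (by
    rw [card_cj]
    exact (card_cj y E).symm.le.trans (Subgroup.card_le_of_le h2))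

/-- Defect groups of a block are conjugate. -/
theorem IsDefectGroup.exists_conj (hM : Cfsg.IsPModular p M) {B : Set (IrrCharacter G)}
    (hB : Cfsg.IsPBlock M B) {D E : Subgroup G} (hD : Cfsg.IsDefectGroup p M B D)
    (hE : Cfsg.IsDefectGroup p M B E) : ∃ x : G, cj x D = E := by
  obtain ⟨g, hg, hne⟩ := IsDefectGroup.exists_coeff hB hD
  obtain ⟨x, hx⟩ := IsDefectGroup.domBy hM hB hE D (IsDefectGroup.isPGroup hD) g hg hne
  obtain ⟨g', hg', hne'⟩ := IsDefectGroup.exists_coeff hB hE
  obtain ⟨y, hy⟩ := IsDefectGroup.domBy hM hB hD E (IsDefectGroup.isPGroup hE) g' hg' hne'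
  exact ⟨x, eq_cj_of_le_le hx hy⟩

/-- A maximal p-subgroup at which the block idempotent survives the Brauer map is a defect
group. -/
theorem isDefectGroup_of_domBy (hM : Cfsg.IsPModular p M) {B : Set (IrrCharacter G)}
    (hB : Cfsg.IsPBlock M B) {D : Subgroup G} (hDp : IsPGroup p D)
    (hdom : DomBy p D (idemBar M B (isBlockUnion_of_isPBlock hB))) {g : G}
    (hg : g ∈ Subgroup.centralizer (D : Set G))
    (hne : (idemBar M B (isBlockUnion_of_isPBlock hB) : MonoidAlgebra (Res M) G).coeff g ≠ 0) :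
    Cfsg.IsDefectGroup p M B D := by
  obtain ⟨E, hE⟩ := exists_isDefectGroup (p := p) hB
  obtain ⟨g', hg', hne'⟩ := IsDefectGroup.exists_coeff hB hE
  obtain ⟨x, hx⟩ := hdom E (IsDefectGroup.isPGroup hE) g' hg' hne'
  obtain ⟨y, hy⟩ := IsDefectGroup.domBy hM hB hE D hDp g hg hne
  rw [← eq_cj_of_le_le hx hy]
  exact IsDefectGroup.conj hB hE x

/-- Normal p-subgroups lie in every defect group. -/
theorem IsDefectGroup.le_of_normal (hM : Cfsg.IsPModular p M) {B : Set (IrrCharacter G)}
    (hB : Cfsg.IsPBlock M B) {D : Subgroup G} (hD : Cfsg.IsDefectGroup p M B D)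
    (Q : Subgroup G) [Q.Normal] (hQ : IsPGroup p Q) : Q ≤ D := by
  haveI := charP_res hM
  obtain ⟨g, hg, hS⟩ := isDefectGroup_iff.1 hD
  obtain ⟨χ, hχ⟩ := isPBlock_nonempty hB
  have hne := ((isDefectClass_iff hB hχ g).1 hg).1
  rw [← truncHom_idem Q hQ (idemBar_mul_self B (isBlockUnion_of_isPBlock hB))] at hne
  have hgc : g ∈ Subgroup.centralizer (Q : Set G) := by
    by_contra hgc
    exact hne (coeff_truncHom_of_notMem Q hQ _ hgc)
  obtain ⟨k, -, hk⟩ := hS.exists_le_conj hQ (le_centralizer_singleton_iff.2 hgc)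
  have := cj_mono k⁻¹ hk
  rwa [show D.map (MulAut.conj k).toMonoidHom = cj k D from rfl, BlockPairs.cj_inv_cj,
    BlockPairs.cj_eq_self (by rw [Subgroup.normalizer_eq_top]; trivial)] at this

/-- The support of an idempotent of a group with normal p-subgroup `Q` centralizes `Q`. -/
theorem coeff_idemBar_eq_zero_of_notMem_centralizer (hM : Cfsg.IsPModular p M)
    {A : Set (IrrCharacter G)} (hA : IsBlockUnion M A) (Q : Subgroup G) [Q.Normal]
    (hQ : IsPGroup p Q) {g : G} (hg : g ∉ Subgroup.centralizer (Q : Set G)) :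
    (idemBar M A hA : MonoidAlgebra (Res M) G).coeff g = 0 := by
  haveI := charP_res hM
  rw [← truncHom_idem Q hQ (idemBar_mul_self A hA)]
  exact coeff_truncHom_of_notMem Q hQ _ hg

end CfsgLib.Blocks
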