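import Cfsg.Agent.Blocks.GroupAlgebra
import Mathlib.RingTheory.Nilpotent.Basic

/-!
# Block idempotents (Osima), homomorphisms on the centre, nilpotency

A set of irreducible characters is a union of blocks exactly when all its idempotent coefficients
are local integers; the central element with these coefficients has central character the
indicator of the set.  Every homomorphism from the centre over the residue field to the residue
field fixing scalars is a reduced central character, and a central element killed by all of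
these is nilpotent.
-/

set_option autoImplicit false
set_option linter.style.haveILetI false
set_option linter.unusedSectionVars false

namespace CfsgLib.Blocks

open Cfsg
open scoped ComplexConjugate

universe u

variable {G : Type u} [Group G] [Fintype G] {M : Ideal AlgInt}

theorem finsum_irr_mem {β : Type*} [AddCommMonoid β] (A : Set (IrrCharacter G))
    [DecidablePred (· ∈ A)] (f : IrrCharacter G → β) :
    ∑ᶠ χ ∈ A, f χ = ∑ χ : IrrCharacter G, if χ ∈ A then f χ else 0 := by
  rw [finsum_mem_def, finsum_eq_sum_of_fintype]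
  exact Finset.sum_congr rfl fun χ _ => by simp [Set.indicator_apply]

open Classical in
theorem blockCoeff_eq_sum (A : Set (IrrCharacter G)) (g : G) :
    Cfsg.blockCoeff A g = (Nat.card G : ℂ)⁻¹ *
      ∑ χ : IrrCharacter G, if χ ∈ A then (χ : G → ℂ) 1 * conj ((χ : G → ℂ) g) else 0 := by
  rw [Cfsg.blockCoeff, finsum_irr_mem]

theorem blockCoeff_conj (A : Set (IrrCharacter G)) (g h : G) :
    Cfsg.blockCoeff A (h * g * h⁻¹) = Cfsg.blockCoeff A g := by
  classical
  simp only [blockCoeff_eq_sum]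
  refine congrArg _ (Finset.sum_congr rfl fun χ _ => ?_)
  rw [Characters.isClassFunction_of_isIrr χ.2]

theorem blockCoeff_isConj (A : Set (IrrCharacter G)) {g h : G} (hgh : IsConj g h) :
    Cfsg.blockCoeff A g = Cfsg.blockCoeff A h := by
  obtain ⟨c, rfl⟩ := isConj_iff.1 hgh
  rw [blockCoeff_conj]

/-- The complex idempotent of a set of irreducible characters. -/
noncomputable def setIdemC (A : Set (IrrCharacter G)) : Ctr ℂ G :=
  ⟨ofFun (Cfsg.blockCoeff A), mem_ctr_iff.2 fun g h => by simp [blockCoeff_conj]⟩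

@[simp] theorem coeff_setIdemC (A : Set (IrrCharacter G)) (g : G) :
    (setIdemC A : MonoidAlgebra ℂ G).coeff g = Cfsg.blockCoeff A g := by
  simp [setIdemC]

open Classical in
theorem omega_setIdemC (A : Set (IrrCharacter G)) (ψ : IrrCharacter G) :
    omega ψ (setIdemC A) = if ψ ∈ A then 1 else 0 := by
  have h0 := Characters.irr_one_ne_zero ψ.2
  have h : ∑ g : G, Cfsg.blockCoeff A g * (ψ : G → ℂ) g = ∑ χ : IrrCharacter G,
      if χ ∈ A then (χ : G → ℂ) 1 * Cfsg.classInner (ψ : G → ℂ) (χ : G → ℂ) else 0 := by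
    simp only [blockCoeff_eq_sum, Cfsg.classInner, Finset.mul_sum, Finset.sum_mul]
    rw [Finset.sum_comm]
    refine Finset.sum_congr rfl fun χ _ => ?_
    split_ifs
    · exact Finset.sum_congr rfl fun g _ => by ring
    · simp
  rw [omega_apply]
  simp only [coeff_setIdemC]
  rw [h, Finset.sum_eq_single ψ]
  · split_ifs
    · rw [Characters.classInner_irr]; simp [h0]
    · simp
  · intro χ _ hne
    split_ifs
    · rw [Characters.classInner_irr]; simp [hne.symm]
    · rfl
  · simp

section Prime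

variable [M.IsPrime]

theorem sameBlock_refl (χ : IrrCharacter G) : Cfsg.SameBlock M (χ : G → ℂ) (χ : G → ℂ) :=
  (sameBlock_iff χ χ).2 rfl

theorem sameBlock_symm {χ ψ : IrrCharacter G} (h : Cfsg.SameBlock M (χ : G → ℂ) (ψ : G → ℂ)) :
    Cfsg.SameBlock M (ψ : G → ℂ) (χ : G → ℂ) :=
  (sameBlock_iff ψ χ).2 ((sameBlock_iff χ ψ).1 h).symm

theorem sameBlock_trans {χ ψ φ : IrrCharacter G}
    (h : Cfsg.SameBlock M (χ : G → ℂ) (ψ : G → ℂ))
    (h' : Cfsg.SameBlock M (ψ : G → ℂ) (φ : G → ℂ)) :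
    Cfsg.SameBlock M (χ : G → ℂ) (φ : G → ℂ) :=
  (sameBlock_iff χ φ).2 (((sameBlock_iff χ ψ).1 h).trans ((sameBlock_iff ψ φ).1 h'))

theorem mem_blockOf {χ ψ : IrrCharacter G} :
    ψ ∈ Cfsg.blockOf M (χ : G → ℂ) ↔ Cfsg.SameBlock M (χ : G → ℂ) (ψ : G → ℂ) := Iff.rfl

theorem mem_blockOf_self (χ : IrrCharacter G) : χ ∈ Cfsg.blockOf M (χ : G → ℂ) :=
  sameBlock_refl χ

theorem blockOf_eq_of_mem {χ ψ : IrrCharacter G} (h : ψ ∈ Cfsg.blockOf M (χ : G → ℂ)) :
    Cfsg.blockOf M (ψ : G → ℂ) = Cfsg.blockOf M (χ : G → ℂ) :=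
  Set.ext fun _ => ⟨sameBlock_trans h, sameBlock_trans (sameBlock_symm h)⟩

theorem isPBlock_blockOf (χ : IrrCharacter G) : Cfsg.IsPBlock M (Cfsg.blockOf M (χ : G → ℂ)) :=
  ⟨χ, rfl⟩

theorem eq_blockOf_of_mem {B : Set (IrrCharacter G)} (hB : Cfsg.IsPBlock M B)
    {χ : IrrCharacter G} (h : χ ∈ B) : B = Cfsg.blockOf M (χ : G → ℂ) := by
  obtain ⟨ψ, rfl⟩ := hB
  exact (blockOf_eq_of_mem h).symm

theorem isPBlock_nonempty {B : Set (IrrCharacter G)} (hB : Cfsg.IsPBlock M B) : B.Nonempty := by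
  obtain ⟨χ, rfl⟩ := hB
  exact ⟨χ, mem_blockOf_self χ⟩

theorem isPBlock_eq_of_mem {B B' : Set (IrrCharacter G)} (hB : Cfsg.IsPBlock M B)
    (hB' : Cfsg.IsPBlock M B') {χ : IrrCharacter G} (h : χ ∈ B) (h' : χ ∈ B') : B = B' :=
  (eq_blockOf_of_mem hB h).trans (eq_blockOf_of_mem hB' h').symm

/-- Being a union of blocks. -/
def IsBlockUnion (M : Ideal AlgInt) (A : Set (IrrCharacter G)) : Prop :=
  ∀ χ ∈ A, Cfsg.blockOf M (χ : G → ℂ) ⊆ A

theorem isBlockUnion_of_isPBlock {B : Set (IrrCharacter G)} (hB : Cfsg.IsPBlock M B) :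
    IsBlockUnion M B := fun _χ hχ => (eq_blockOf_of_mem hB hχ).ge

/-- A central element killed by every reduced central character is nilpotent. -/
theorem isNilpotent_of_omegaBar_eq_zero (a : Ctr (Res M) G)
    (h : ∀ χ, omegaBar M χ a = 0) : IsNilpotent a := by
  obtain ⟨b, rfl⟩ := redCtr_surjective a
  have hP : ∏ χ : IrrCharacter G, (b - scalar (omegaO M χ b)) = 0 := by
    refine ctr_ext_omegaO fun χ => ?_
    rw [map_prod, map_zero]
    exact Finset.prod_eq_zero (Finset.mem_univ χ) (by rw [map_sub, omegaO_scalar, sub_self])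
  refine ⟨Fintype.card (IrrCharacter G), ?_⟩
  have := congrArg (redCtr M) hP
  rw [map_prod, map_zero, Finset.prod_congr rfl (g := fun _ => redCtr M b) fun χ _ => by
    rw [map_sub, redCtr, mapCtr_scalar, ← omegaBar_redCtr, h, map_zero, sub_zero, ← redCtr]] at this
  simpa using this

theorem exists_sep {χ ψ : IrrCharacter G} (h : ¬ Cfsg.SameBlock M (χ : G → ℂ) (ψ : G → ℂ)) :
    ∃ a : Ctr (Res M) G, omegaBar M χ a = 1 ∧ omegaBar M ψ a = 0 := by
  rw [sameBlock_iff] at h
  obtain ⟨C, hC⟩ : ∃ C : ConjClasses G,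
      omegaBar M χ (classSum _ C) ≠ omegaBar M ψ (classSum _ C) := by
    by_contra hne
    exact h (omegaBar_ext (omegaBar_scalar χ) (omegaBar_scalar ψ) fun C => by
      by_contra hC; exact hne ⟨C, hC⟩)
  set c := omegaBar M χ (classSum _ C)
  set d := omegaBar M ψ (classSum _ C)
  refine ⟨scalar (c - d)⁻¹ * (classSum _ C - scalar d), ?_, ?_⟩
  · rw [map_mul, map_sub, omegaBar_scalar, omegaBar_scalar, inv_mul_cancel₀ (sub_ne_zero.2 hC)]
  · rw [map_mul, map_sub, omegaBar_scalar, omegaBar_scalar, sub_self, mul_zero]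

open Classical in
theorem exists_idem_blockOf (χ : IrrCharacter G) : ∃ f : Ctr (localRing M) G,
    ∀ ψ, omegaO M ψ f = if ψ ∈ Cfsg.blockOf M (χ : G → ℂ) then 1 else 0 := by
  set B := Cfsg.blockOf M (χ : G → ℂ)
  set T := Finset.univ.filter fun ψ => ψ ∉ B
  have hsep : ∀ ψ, ∃ a : Ctr (Res M) G, omegaBar M χ a = 1 ∧ (ψ ∉ B → omegaBar M ψ a = 0) :=
    fun ψ => if h : ψ ∈ B then ⟨1, map_one _, fun h' => (h' h).elim⟩ else
      let ⟨a, h1, h2⟩ := exists_sep (M := M) (χ := χ) (ψ := ψ) h
      ⟨a, h1, fun _ => h2⟩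
  choose a ha1 ha0 using hsep
  obtain ⟨b, hb⟩ := redCtr_surjective (M := M) (∏ ψ ∈ T, a ψ)
  set y := ∏ ψ ∈ T, (b - scalar (omegaO M ψ b)) with hy
  have hy0 : ∀ ψ, ψ ∉ B → omegaO M ψ y = 0 := fun ψ hψ => by
    rw [hy, map_prod]
    exact Finset.prod_eq_zero (i := ψ) (by simp [T, hψ])
      (by rw [map_sub, omegaO_scalar, sub_self])
  have hy1 : ∀ φ, φ ∈ B → IsUnit (omegaO M φ y) := by
    intro φ hφ
    rw [← red_ne_zero_iff, hy, map_prod, map_prod, Finset.prod_ne_zero_iff]
    intro ψ hψ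
    have hψ' : ψ ∉ B := by simpa [T] using hψ
    rw [map_sub, map_sub, omegaO_scalar, ← omegaBar_redCtr, ← omegaBar_redCtr, hb,
      ← (sameBlock_iff χ φ).1 hφ, map_prod, map_prod,
      Finset.prod_eq_one (f := fun i => omegaBar M χ (a i)) (fun i _ => ha1 i),
      Finset.prod_eq_zero hψ (ha0 ψ hψ'), sub_zero]
    exact one_ne_zero
  refine ⟨1 - ∏ φ : {φ // φ ∈ B}, (1 - scalar ((hy1 φ.1 φ.2).unit⁻¹ : (localRing M)ˣ).1 * y),
    fun ψ => ?_⟩
  rw [map_sub, map_one, map_prod]
  split_ifs with h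
  · rw [Finset.prod_eq_zero (Finset.mem_univ (⟨ψ, h⟩ : {φ // φ ∈ B})), sub_zero]
    rw [map_sub, map_one, map_mul, omegaO_scalar, IsUnit.val_inv_mul, sub_self]
  · rw [Finset.prod_eq_one, sub_self]
    intro φ _
    rw [map_sub, map_one, map_mul, hy0 ψ h, mul_zero, sub_zero]

open Classical in
theorem exists_idem {A : Set (IrrCharacter G)} (hA : IsBlockUnion M A) :
    ∃ f : Ctr (localRing M) G, ∀ ψ, omegaO M ψ f = if ψ ∈ A then 1 else 0 := by
  choose f hf using exists_idem_blockOf (M := M) (G := G)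
  refine ⟨1 - ∏ χ : {χ // χ ∈ A}, (1 - f χ.1), fun ψ => ?_⟩
  rw [map_sub, map_one, map_prod]
  split_ifs with h
  · rw [Finset.prod_eq_zero (Finset.mem_univ (⟨ψ, h⟩ : {χ // χ ∈ A})), sub_zero]
    rw [map_sub, map_one, hf, if_pos (mem_blockOf_self ψ), sub_self]
  · rw [Finset.prod_eq_one, sub_self]
    intro χ _
    rw [map_sub, map_one, hf, if_neg fun hh => h (hA _ χ.2 hh), sub_zero]

theorem toC_idem {A : Set (IrrCharacter G)} {f : Ctr (localRing M) G}
    [DecidablePred (· ∈ A)]
    (hf : ∀ ψ, omegaO M ψ f = if ψ ∈ A then 1 else 0) : toC M f = setIdemC A :=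
  ctr_ext_omega fun ψ => by
    classical
    rw [← coe_omegaO, hf, omega_setIdemC]
    split_ifs <;> rfl

/-- **Osima's theorem**: block idempotents have local integral coefficients. -/
theorem memLocalRing_blockCoeff {A : Set (IrrCharacter G)} (hA : IsBlockUnion M A) (g : G) :
    Cfsg.MemLocalRing M (Cfsg.blockCoeff A g) := by
  classical
  obtain ⟨f, hf⟩ := exists_idem hA
  have := congrArg (fun z : Ctr ℂ G => (z : MonoidAlgebra ℂ G).coeff g) (toC_idem hf)
  simp only [toC, coeff_mapCtr, coeff_setIdemC] at this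
  rw [← this]
  exact ((f : MonoidAlgebra (localRing M) G).coeff g).2

/-- The idempotent over the local ring of a set with integral coefficients. -/
noncomputable def setIdemO (M : Ideal AlgInt) [M.IsPrime] (A : Set (IrrCharacter G))
    (h : ∀ g, Cfsg.MemLocalRing M (Cfsg.blockCoeff A g)) : Ctr (localRing M) G :=
  ⟨ofFun fun g => ⟨Cfsg.blockCoeff A g, h g⟩,
    mem_ctr_iff.2 fun g x => by simp [blockCoeff_conj]⟩

theorem toC_setIdemO (A : Set (IrrCharacter G))
    (h : ∀ g, Cfsg.MemLocalRing M (Cfsg.blockCoeff A g)) :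
    toC M (setIdemO M A h) = setIdemC A := ctr_ext fun g => by simp [toC, setIdemO]

open Classical in
theorem omegaO_setIdemO (A : Set (IrrCharacter G))
    (h : ∀ g, Cfsg.MemLocalRing M (Cfsg.blockCoeff A g)) (ψ : IrrCharacter G) :
    omegaO M ψ (setIdemO M A h) = if ψ ∈ A then 1 else 0 := Subtype.ext (by
  rw [coe_omegaO, toC_setIdemO, omega_setIdemC]
  split_ifs <;> rfl)

/-- A set of irreducible characters with integral idempotent coefficients is a union of
blocks. -/
theorem isBlockUnion_of_memLocalRing {A : Set (IrrCharacter G)}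
    (h : ∀ g, Cfsg.MemLocalRing M (Cfsg.blockCoeff A g)) : IsBlockUnion M A := by
  classical
  intro χ hχ ψ hψ
  have := DFunLike.congr_fun ((sameBlock_iff χ ψ).1 hψ) (redCtr M (setIdemO M A h))
  simp only [omegaBar_redCtr, omegaO_setIdemO, if_pos hχ, map_one] at this
  by_contra hn
  rw [if_neg hn, map_zero] at this
  exact one_ne_zero this

/-- The idempotent over the residue field of a union of blocks. -/
noncomputable def idemBar (M : Ideal AlgInt) [M.IsPrime] (A : Set (IrrCharacter G))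
    (hA : IsBlockUnion M A) : Ctr (Res M) G :=
  redCtr M (setIdemO M A (memLocalRing_blockCoeff hA))

theorem coeff_idemBar (A : Set (IrrCharacter G)) (hA : IsBlockUnion M A) (g : G) :
    (idemBar M A hA : MonoidAlgebra (Res M) G).coeff g =
      red M ⟨Cfsg.blockCoeff A g, memLocalRing_blockCoeff hA g⟩ := by
  simp [idemBar, redCtr, setIdemO]

open Classical in
theorem omegaBar_idemBar (A : Set (IrrCharacter G)) (hA : IsBlockUnion M A)
    (ψ : IrrCharacter G) : omegaBar M ψ (idemBar M A hA) = if ψ ∈ A then 1 else 0 := by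
  rw [idemBar, omegaBar_redCtr, omegaO_setIdemO]
  split_ifs <;> simp

theorem idemBar_mul_self (A : Set (IrrCharacter G)) (hA : IsBlockUnion M A) :
    idemBar M A hA * idemBar M A hA = idemBar M A hA := by
  classical
  rw [idemBar, ← map_mul]
  congr 1
  exact ctr_ext_omegaO fun ψ => by rw [map_mul, omegaO_setIdemO]; split_ifs <;> simp

theorem idemBar_mul_of_disjoint {A A' : Set (IrrCharacter G)} (hA : IsBlockUnion M A)
    (hA' : IsBlockUnion M A') (hd : ∀ χ ∈ A, χ ∉ A') :
    idemBar M A hA * idemBar M A' hA' = 0 := by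
  classical
  rw [idemBar, idemBar, ← map_mul, ← map_zero (redCtr M)]
  congr 1
  refine ctr_ext_omegaO fun ψ => ?_
  rw [map_mul, omegaO_setIdemO, omegaO_setIdemO, map_zero]
  by_cases h : ψ ∈ A
  · rw [if_neg (hd ψ h), mul_zero]
  · rw [if_neg h, zero_mul]

theorem prod_one_sub_idemBar :
    ∏ χ : IrrCharacter G, (1 - idemBar M (Cfsg.blockOf M (χ : G → ℂ))
      (isBlockUnion_of_isPBlock (isPBlock_blockOf χ))) = 0 := by
  classical
  simp only [idemBar]
  rw [← map_zero (redCtr (G := G) M)]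
  simp only [← map_one (redCtr (G := G) M), ← map_sub, ← map_prod]
  congr 1
  refine ctr_ext_omegaO fun ψ => ?_
  rw [map_prod, map_zero]
  exact Finset.prod_eq_zero (Finset.mem_univ ψ)
    (by rw [map_sub, map_one, omegaO_setIdemO, if_pos (mem_blockOf_self ψ), sub_self])

/-- On the part of a block, a central element is its central character plus a nilpotent. -/
theorem isNilpotent_idemBar_mul_sub {B : Set (IrrCharacter G)} (hB : Cfsg.IsPBlock M B)
    {χ : IrrCharacter G} (hχ : χ ∈ B) (a : Ctr (Res M) G) :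
    IsNilpotent (idemBar M B (isBlockUnion_of_isPBlock hB) * (a - scalar (omegaBar M χ a))) := by
  classical
  refine isNilpotent_of_omegaBar_eq_zero _ fun ψ => ?_
  rw [map_mul, omegaBar_idemBar, map_sub, omegaBar_scalar]
  split_ifs with h
  · rw [eq_blockOf_of_mem hB hχ] at h
    rw [← (sameBlock_iff χ ψ).1 h, sub_self, mul_zero]
  · rw [zero_mul]

/-- If the central character of a block at a central element is nonzero, the block idempotent is
a multiple of that element. -/
theorem exists_mul_eq_idemBar {B : Set (IrrCharacter G)} (hB : Cfsg.IsPBlock M B)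
    {χ : IrrCharacter G} (hχ : χ ∈ B) {a : Ctr (Res M) G} (ha : omegaBar M χ a ≠ 0) :
    ∃ w : Ctr (Res M) G, w * a = idemBar M B (isBlockUnion_of_isPBlock hB) := by
  set e := idemBar M B (isBlockUnion_of_isPBlock hB) with he
  set c := omegaBar M χ a
  have hs : scalar (G := G) c⁻¹ * scalar c = 1 := by
    rw [← map_mul, inv_mul_cancel₀ ha, map_one]
  have hn : IsNilpotent (scalar c⁻¹ * (e * (a - scalar c))) :=
    (Commute.all _ _).isNilpotent_mul_left (isNilpotent_idemBar_mul_sub hB hχ a)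
  obtain ⟨v, hv⟩ := hn.isUnit_one_add.exists_left_inv
  have hee : e * e = e := idemBar_mul_self _ _
  refine ⟨v * (scalar c⁻¹ * e), ?_⟩
  calc v * (scalar c⁻¹ * e) * a
      = v * (e * (1 + scalar c⁻¹ * (e * (a - scalar c)))) := by
        linear_combination v * e * hs - v * scalar c⁻¹ * (a - scalar c) * hee
    _ = e := by linear_combination e * hv

/-- Every homomorphism from the centre to the residue field fixing scalars is a reduced central
character. -/
theorem exists_eq_omegaBar (lam : Ctr (Res M) G →+* Res M) (hl : ∀ r, lam (scalar r) = r) :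
    ∃ χ : IrrCharacter G, lam = omegaBar M χ := by
  have h0 := congrArg lam (prod_one_sub_idemBar (M := M) (G := G))
  rw [map_prod, map_zero, Finset.prod_eq_zero_iff] at h0
  obtain ⟨χ, -, hχ⟩ := h0
  rw [map_sub, map_one, sub_eq_zero] at hχ
  refine ⟨χ, RingHom.ext fun a => ?_⟩
  have hn := (isNilpotent_idemBar_mul_sub (isPBlock_blockOf χ) (mem_blockOf_self χ) a).map lam
  rw [map_mul, ← hχ, one_mul, map_sub, hl, isNilpotent_iff_eq_zero, sub_eq_zero] at hn
  exact hn

end Prime

end CfsgLib.Blocks
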