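import Cfsg.Agent.Blocks.Height
import Cfsg.Agent.Blocks.Sections

/-!
# Values of height zero characters on p-sections
-/

set_option autoImplicit false
set_option linter.style.haveILetI false
set_option linter.unusedSectionVars false

namespace CfsgLib.Blocks

open Cfsg
open scoped ComplexConjugate

universe u

variable {G : Type u} [Group G] [Fintype G] {p : ℕ} [Fact p.Prime] {M : Ideal AlgInt} [M.IsPrime]

/-- `χ (x * y) ≡ χ y` for a p-element `x` and a p-regular `y` commuting with it. -/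
theorem memLocalIdeal_char_mul_sub (hM : Cfsg.IsPModular p M) (χ : IrrCharacter G) {x y : G}
    (hxy : Commute x y) (hx : ∃ k, orderOf x = p ^ k) (hy : ¬ p ∣ orderOf y) :
    Cfsg.MemLocalIdeal M ((χ : G → ℂ) (x * y) - (χ : G → ℂ) y) := by
  classical
  have hpp : p.Prime := Fact.out
  obtain ⟨k, hk⟩ := hx
  obtain ⟨i, hi⟩ := isPPart_mem_zpowers hpp (isPPart_of_mul hxy ⟨k, hk⟩ hy)
  dsimp only at hi
  set g := x * y with hg
  have hn : 0 < orderOf g := orderOf_pos g
  have hxg : x = g ^ (i % (orderOf g : ℤ)).toNat := by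
    rw [← zpow_natCast, Int.toNat_of_nonneg (Int.emod_nonneg _ (by exact_mod_cast hn.ne')),
      zpow_mod_orderOf, hi]
  set a := (i % (orderOf g : ℤ)).toNat
  have hyg : y = g ^ ((orderOf g - 1) * a + 1) := by
    have h1 : g ^ (orderOf g - 1) = g⁻¹ := by
      refine eq_inv_of_mul_eq_one_left ?_
      rw [← pow_succ, Nat.sub_add_cancel hn, pow_orderOf_eq_one]
    rw [pow_succ, pow_mul, h1, inv_pow, ← hxg, hg, inv_mul_cancel_left]
  obtain ⟨n, ρ, hρ, hch⟩ := χ.2
  obtain ⟨μ, hμ, hj, -⟩ := Characters.exists_eigenvalues ρ g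
  have h1 : (χ : G → ℂ) g = ∑ l, μ l ^ 1 := by rw [← hj 1, pow_one, hch]
  have h2 : (χ : G → ℂ) y = ∑ l, μ l ^ ((orderOf g - 1) * a + 1) := by rw [← hj, ← hch, ← hyg]
  rw [h1, h2, ← Finset.sum_sub_distrib]
  refine memLocalIdeal_sum _ fun l _ => ?_
  have hμi : ∀ e, Cfsg.MemLocalRing M (μ l ^ e) := fun e =>
    memLocalRing_of_isIntegral ((IsIntegral.of_pow hn (by rw [hμ l]; exact isIntegral_one)).pow e)
  let z : localRing M := ⟨μ l ^ a, hμi a⟩
  have hz : z ^ (p ^ k) = 1 := by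
    refine Subtype.ext ?_
    show (μ l ^ a) ^ (p ^ k) = 1
    obtain ⟨c, hc⟩ : orderOf g ∣ a * p ^ k := by
      rw [orderOf_dvd_iff_pow_eq_one, pow_mul, ← hxg, ← hk, pow_orderOf_eq_one]
    rw [← pow_mul, hc, pow_mul, hμ l, one_pow]
  have hr := red_eq_one_of_pow_eq_one hM hz
  rw [← map_one (red M), red_eq_red_iff] at hr
  simp only [OneMemClass.coe_one, z] at hr
  have e : μ l ^ 1 - μ l ^ ((orderOf g - 1) * a + 1) =
      (μ l ^ ((orderOf g - 1) * a + 1)) * (μ l ^ a - 1) := by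
    have : μ l ^ ((orderOf g - 1) * a + 1) * μ l ^ a = μ l := by
      rw [← pow_add, show (orderOf g - 1) * a + 1 + a = orderOf g * a + 1 by
        rw [Nat.sub_mul, one_mul]; have := Nat.le_mul_of_pos_left a hn; omega, pow_succ, pow_mul,
        hμ l, one_pow, one_mul]
    rw [mul_sub, mul_one, this, pow_one]
  rw [e]
  exact memLocalIdeal_mul_left (hμi _) hr

/-- A height zero character is a unit at `x * y`, `y` a defect class representative. -/
theorem not_memLocalIdeal_mul_of_height_zero (hM : Cfsg.IsPModular p M) {B : Set (IrrCharacter G)}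
    (hB : Cfsg.IsPBlock M B) {y : G} (hy : Cfsg.IsDefectClass M B y) {x : G} (hxy : Commute x y)
    (hx : ∃ k, orderOf x = p ^ k) {χ : IrrCharacter G} (hχ : χ ∈ B)
    (h0 : Cfsg.blockHeight p B (χ : G → ℂ) = 0) :
    ¬ Cfsg.MemLocalIdeal M ((χ : G → ℂ) (x * y)) := by
  intro h
  refine not_memLocalIdeal_of_height_zero hM hB hy hχ h0 ?_
  have := memLocalIdeal_sub h
    (memLocalIdeal_char_mul_sub hM χ hxy hx (regular_of_isDefectClass hM hB hy))
  simpa using this

theorem exists_height_zero (hM : Cfsg.IsPModular p M) {B : Set (IrrCharacter G)}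
    (hB : Cfsg.IsPBlock M B) : ∃ χ ∈ B, Cfsg.blockHeight p B (χ : G → ℂ) = 0 := by
  obtain ⟨D, hD⟩ := exists_isDefectGroup (p := p) hB
  obtain ⟨χ, hχ, he⟩ := exists_degree_eq hM hB hD
  refine ⟨χ, hχ, ?_⟩
  have := blockHeight_eq hM hB hD hχ
  omega

/-- For `x` in the centre of a defect group at `y`, the central character of the block is nonzero
at `x * y`. -/
theorem omegaBar_mul_ne_zero (hM : Cfsg.IsPModular p M) {B : Set (IrrCharacter G)}
    (hB : Cfsg.IsPBlock M B) {y : G} (hy : Cfsg.IsDefectClass M B y) {P : Subgroup G}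
    (hP : IsSylowIn p (Subgroup.centralizer ({y} : Set G)) P) {x : G} (hx : x ∈ P)
    (hxc : ∀ w ∈ P, x * w = w * x) {χ : IrrCharacter G} (hχ : χ ∈ B) :
    omegaBar M χ (classSum _ (ConjClasses.mk (x * y))) ≠ 0 := by
  have hpp : p.Prime := Fact.out
  obtain ⟨ψ, hψ, h0⟩ := exists_height_zero hM hB
  rw [show omegaBar M χ = omegaBar M ψ from (sameBlock_iff χ ψ).1 (by
    have := eq_blockOf_of_mem hB hχ ▸ hψ; exact this)]
  have hxy : Commute x y := Subgroup.mem_centralizer_singleton_iff.1 (hP.1 hx)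
  have hxo : ∃ k, orderOf x = p ^ k := by
    obtain ⟨k, hk⟩ := IsPGroup.iff_orderOf.1 hP.2.1 ⟨x, hx⟩
    exact ⟨k, by rwa [Subgroup.orderOf_mk] at hk⟩
  have hu := not_memLocalIdeal_mul_of_height_zero hM hB hy hxy hxo hψ h0
  have hle : Subgroup.centralizer ({x * y} : Set G) ≤ Subgroup.centralizer ({y} : Set G) := by
    intro c hc
    rw [Subgroup.mem_centralizer_singleton_iff] at hc ⊢
    obtain ⟨i, hi⟩ := isPPart_mem_zpowers hpp
      (isPPart_of_mul hxy hxo (regular_of_isDefectClass hM hB hy))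
    dsimp only at hi
    have hcx : Commute c x := hi ▸ (show Commute c (x * y) from hc).zpow_right i
    exact (show Commute c y from by
      simpa using hcx.inv_right.mul_right (show Commute c (x * y) from hc)).eq
  have hPle : P ≤ Subgroup.centralizer ({x * y} : Set G) := fun w hw => by
    rw [Subgroup.mem_centralizer_singleton_iff, ← mul_assoc, ← hxc w hw, mul_assoc,
      Subgroup.mem_centralizer_singleton_iff.1 (hP.1 hw), mul_assoc]
  have hS : IsSylowIn p (Subgroup.centralizer ({x * y} : Set G)) P :=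
    ⟨hPle, hP.2.1, fun hd => hP.2.2 (hd.trans (by
      rw [← Subgroup.relIndex_mul_relIndex P _ _ hPle hle]
      exact dvd_mul_right _ _))⟩
  have hD := isDefectGroup_iff.2 ⟨y, hy, hP⟩
  have h1 := blockHeight_eq hM hB hD hψ
  have h2 := index_centralizer_factorization hS
  rw [← not_memLocalIdeal_centralChar_iff]
  intro hI
  refine hu ?_
  have hq : Cfsg.MemLocalRing M (((Cfsg.charDegree (ψ : G → ℂ) : ℕ) : ℂ) /
      ((Subgroup.centralizer ({x * y} : Set G)).index : ℂ)) :=
    memLocalRing_div_of_eq hM Subgroup.index_ne_zero_of_finite (by omega)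
  have := memLocalIdeal_mul_left hq hI
  rw [centralChar_eq] at this
  have e1 : ((Cfsg.charDegree (ψ : G → ℂ) : ℕ) : ℂ) ≠ 0 := Nat.cast_ne_zero.2 (charDegree_ne_zero ψ)
  have e2 : ((Subgroup.centralizer ({x * y} : Set G)).index : ℂ) ≠ 0 :=
    Nat.cast_ne_zero.2 Subgroup.index_ne_zero_of_finite
  convert this using 1
  field_simp

/-- The sections on which a height zero character does not vanish are those meeting a defect
group. -/
theorem exists_conj_mem_iff (hM : Cfsg.IsPModular p M) {B : Set (IrrCharacter G)}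
    (hB : Cfsg.IsPBlock M B) {D : Subgroup G} (hD : Cfsg.IsDefectGroup p M B D)
    {χ : IrrCharacter G} (hχ : χ ∈ B) (h0 : Cfsg.blockHeight p B (χ : G → ℂ) = 0) {x : G}
    (hx : ∃ k, orderOf x = p ^ k) :
    (∃ g : G, g * x * g⁻¹ ∈ D) ↔
      ∃ u : G, (∃ z : G, Cfsg.IsPPart p u z ∧ IsConj x z) ∧ (χ : G → ℂ) u ≠ 0 := by
  constructor
  · rintro ⟨g, hg⟩
    obtain ⟨y, hy, hS⟩ := isDefectGroup_iff.1 hD
    have hxy : Commute (g * x * g⁻¹) y := Subgroup.mem_centralizer_singleton_iff.1 (hS.1 hg)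
    have hxo : ∃ k, orderOf (g * x * g⁻¹) = p ^ k := by
      rw [show g * x * g⁻¹ = MulAut.conj g x from rfl, MulEquiv.orderOf_eq]; exact hx
    refine ⟨g * x * g⁻¹ * y, ⟨g * x * g⁻¹, isPPart_of_mul hxy hxo
      (regular_of_isDefectClass hM hB hy), isConj_iff.2 ⟨g, rfl⟩⟩, fun h => ?_⟩
    refine not_memLocalIdeal_mul_of_height_zero hM hB hy hxy hxo hχ h0 ?_
    rw [h]
    exact memLocalIdeal_zero
  · rintro ⟨u, ⟨z, hz, hxz⟩, hne⟩
    by_contra hcon
    refine hne (char_eq_zero_of_not_mem_defectGroup hM χ hz fun E hE hzE => hcon ?_)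
    rw [← eq_blockOf_of_mem hB hχ] at hE
    obtain ⟨a, rfl⟩ := IsDefectGroup.exists_conj hM hB hD hE
    obtain ⟨c, rfl⟩ := isConj_iff.1 hxz
    rw [BlockPairs.mem_cj] at hzE
    refine ⟨a⁻¹ * c, ?_⟩
    convert hzE using 1
    group

end CfsgLib.Blocks
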