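import Cfsg.Agent.Blocks.Idempotent

/-!
# Induced central characters and induced blocks

`resCtr H a` restricts the coefficients of a central element to the subgroup `H`.  The induced
central character of `ξ` at `g` is the central character of `ξ` at the restricted class sum, and
the block `b` induces `B` exactly when the reduced central character of `B` is the reduced
central character of `b` composed with restriction.
-/

set_option autoImplicit false
set_option linter.style.haveILetI false
set_option linter.unusedSectionVars false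

namespace CfsgLib.Blocks

open Cfsg
open scoped ComplexConjugate

universe u

section General

variable {R S : Type*} [CommRing R] [CommRing S] {G : Type u} [Group G] [Finite G]

/-- Restriction of the coefficients of a central element to a subgroup. -/
noncomputable def resCtr (H : Subgroup G) : Ctr R G →+ Ctr R H where
  toFun a := ⟨ofFun fun h : H => (a : MonoidAlgebra R G).coeff (h : G),
    mem_ctr_iff.2 fun g h => by simp [coeff_conj_of_mem_ctr a.2]⟩
  map_zero' := ctr_ext fun g => by simp
  map_add' a b := ctr_ext fun g => by simp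

@[simp] theorem coeff_resCtr (H : Subgroup G) (a : Ctr R G) (h : H) :
    (resCtr H a : MonoidAlgebra R H).coeff h = (a : MonoidAlgebra R G).coeff (h : G) := by
  simp [resCtr]

theorem mapCtr_resCtr (f : R →+* S) (H : Subgroup G) (a : Ctr R G) :
    mapCtr f (resCtr H a) = resCtr H (mapCtr f a) := ctr_ext fun g => by simp

theorem resCtr_scalar_mul (H : Subgroup G) (r : R) (a : Ctr R G) :
    resCtr H (scalar r * a) = scalar r * resCtr H a := ctr_ext fun g => by
  simp [MonoidAlgebra.coeff_single_mul_apply]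

theorem resCtr_one (H : Subgroup G) : resCtr H (1 : Ctr R G) = 1 := ctr_ext fun g => by
  classical
  simp [MonoidAlgebra.one_def, Finsupp.single_apply, eq_comm]

end General

variable {G : Type u} [Group G] [Fintype G] {M : Ideal AlgInt}

theorem omega_resCtr_classSum (H : Subgroup G) [Fintype H] (ξ : IrrCharacter H) (g : G) :
    omega ξ (resCtr H (classSum ℂ (ConjClasses.mk g))) =
      Cfsg.inducedCentralChar H (ξ : H → ℂ) g := by
  classical
  rw [omega_apply, Finset.sum_div, Cfsg.inducedCentralChar, finsum_mem_def,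
    finsum_eq_sum_of_fintype]
  refine Finset.sum_congr rfl fun h _ => ?_
  rw [coeff_resCtr, coeff_classSum]
  simp only [Set.indicator_apply, Set.mem_setOf_eq, ConjClasses.mk_eq_mk_iff_isConj, isConj_comm]
  split_ifs <;> simp

theorem isIntegral_inducedCentralChar (H : Subgroup G) (ξ : IrrCharacter H) (g : G) :
    IsIntegral ℤ (Cfsg.inducedCentralChar H (ξ : H → ℂ) g) := by
  haveI := Fintype.ofFinite H
  haveI := Fintype.ofFinite (ConjClasses H)
  rw [← omega_resCtr_classSum, eq_sum_classSum (resCtr H (classSum ℂ (ConjClasses.mk g))),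
    map_sum]
  refine IsIntegral.sum _ fun C _ => ?_
  rw [map_mul, omega_scalar]
  refine IsIntegral.mul ?_ (isIntegral_omega_classSum ξ C)
  classical
  simp only [classCoeff, coeff_resCtr, coeff_classSum]
  split_ifs
  · exact isIntegral_one
  · exact isIntegral_zero

theorem memLocalRing_inducedCentralChar [M.IsPrime] (H : Subgroup G) (ξ : IrrCharacter H) (g : G) :
    Cfsg.MemLocalRing M (Cfsg.inducedCentralChar H (ξ : H → ℂ) g) :=
  memLocalRing_of_isIntegral (isIntegral_inducedCentralChar H ξ g)

theorem omegaO_resCtr_classSum [M.IsPrime] (H : Subgroup G) [Fintype H] (ξ : IrrCharacter H)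
    (g : G) : (omegaO M ξ (resCtr H (classSum _ (ConjClasses.mk g))) : ℂ) =
      Cfsg.inducedCentralChar H (ξ : H → ℂ) g := by
  rw [coe_omegaO, toC, mapCtr_resCtr, mapCtr_classSum, omega_resCtr_classSum]

theorem omegaBar_resCtr_classSum [M.IsPrime] (H : Subgroup G) [Fintype H] (ξ : IrrCharacter H)
    (g : G) : omegaBar M ξ (resCtr H (classSum _ (ConjClasses.mk g))) =
      red M ⟨Cfsg.inducedCentralChar H (ξ : H → ℂ) g, memLocalRing_inducedCentralChar H ξ g⟩ := by
  rw [← mapCtr_classSum (red M), ← mapCtr_resCtr, ← redCtr, omegaBar_redCtr]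
  congr 1
  exact Subtype.ext (omegaO_resCtr_classSum H ξ g)

theorem omegaBar_resCtr_scalar_mul [M.IsPrime] (H : Subgroup G) [Fintype H] (ξ : IrrCharacter H)
    (r : Res M) (a : Ctr (Res M) G) :
    omegaBar M ξ (resCtr H (scalar r * a)) = r * omegaBar M ξ (resCtr H a) := by
  rw [resCtr_scalar_mul, map_mul, omegaBar_scalar]

/-- The reduced central character of the induced block, as a congruence on all central
elements. -/
theorem isInducedBlock_iff [M.IsPrime] (H : Subgroup G) [Fintype H] {b : Set (IrrCharacter H)}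
    {B : Set (IrrCharacter G)} (hb : Cfsg.IsPBlock M b) (hB : Cfsg.IsPBlock M B)
    {ξ : IrrCharacter H} (hξ : ξ ∈ b) {χ : IrrCharacter G} (hχ : χ ∈ B) :
    Cfsg.IsInducedBlock M H b B ↔
      ∀ a : Ctr (Res M) G, omegaBar M ξ (resCtr H a) = omegaBar M χ a := by
  constructor
  · intro h a
    haveI := Fintype.ofFinite (ConjClasses G)
    rw [eq_sum_classSum a, map_sum, map_sum, map_sum]
    refine Finset.sum_congr rfl fun C _ => ?_
    rw [omegaBar_resCtr_scalar_mul, map_mul, omegaBar_scalar]
    obtain ⟨g, rfl⟩ := ConjClasses.mk_surjective C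
    rw [omegaBar_resCtr_classSum, omegaBar_classSum (χ := χ)]
    congr 1
    exact red_eq_red_iff.2 (h.2.2 ξ hξ χ hχ g)
  · intro h
    refine ⟨hb, hB, fun ξ' hξ' χ' hχ' g => ?_⟩
    have e := h (classSum _ (ConjClasses.mk g))
    rw [eq_blockOf_of_mem hb hξ] at hξ'
    rw [eq_blockOf_of_mem hB hχ] at hχ'
    rw [(sameBlock_iff ξ ξ').1 hξ', (sameBlock_iff χ χ').1 hχ', omegaBar_resCtr_classSum,
      omegaBar_classSum] at e
    exact red_eq_red_iff.1 e

/-- It is enough to compare on class sums. -/
theorem isInducedBlock_of_classSum [M.IsPrime] (H : Subgroup G) [Fintype H]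
    {b : Set (IrrCharacter H)} {B : Set (IrrCharacter G)} (hb : Cfsg.IsPBlock M b)
    (hB : Cfsg.IsPBlock M B) {ξ : IrrCharacter H} (hξ : ξ ∈ b) {χ : IrrCharacter G} (hχ : χ ∈ B)
    (h : ∀ g : G, omegaBar M ξ (resCtr H (classSum _ (ConjClasses.mk g))) =
      omegaBar M χ (classSum _ (ConjClasses.mk g))) :
    Cfsg.IsInducedBlock M H b B := by
  refine (isInducedBlock_iff H hb hB hξ hχ).2 fun a => ?_
  haveI := Fintype.ofFinite (ConjClasses G)
  rw [eq_sum_classSum a, map_sum, map_sum, map_sum]
  refine Finset.sum_congr rfl fun C _ => ?_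
  obtain ⟨g, rfl⟩ := ConjClasses.mk_surjective C
  rw [omegaBar_resCtr_scalar_mul, map_mul, omegaBar_scalar, h]

/-- A block induces at most one block. -/
theorem isInducedBlock_unique [M.IsPrime] {H : Subgroup G} {b : Set (IrrCharacter H)}
    {B B' : Set (IrrCharacter G)} (h : Cfsg.IsInducedBlock M H b B)
    (h' : Cfsg.IsInducedBlock M H b B') : B = B' := by
  haveI := Fintype.ofFinite H
  obtain ⟨ξ, hξ⟩ := isPBlock_nonempty h.1
  obtain ⟨χ, hχ⟩ := isPBlock_nonempty h.2.1
  obtain ⟨χ', hχ'⟩ := isPBlock_nonempty h'.2.1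
  have e : omegaBar M χ' = omegaBar M χ := RingHom.ext fun a => by
    rw [← (isInducedBlock_iff H h.1 h'.2.1 hξ hχ').1 h',
      (isInducedBlock_iff H h.1 h.2.1 hξ hχ).1 h]
  rw [eq_blockOf_of_mem h.2.1 hχ]
  rw [eq_blockOf_of_mem h'.2.1 hχ']
  exact blockOf_eq_of_mem (mem_blockOf.2 ((sameBlock_iff χ' χ).2 e))

/-- A block induces some block exactly when the induced map on the centre is multiplicative. -/
theorem inducedBlockDefined_iff [M.IsPrime] (H : Subgroup G) [Fintype H]
    {b : Set (IrrCharacter H)} (hb : Cfsg.IsPBlock M b) {ξ : IrrCharacter H} (hξ : ξ ∈ b) :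
    Cfsg.InducedBlockDefined M H b ↔ ∀ a a' : Ctr (Res M) G,
      omegaBar M ξ (resCtr H (a * a')) =
        omegaBar M ξ (resCtr H a) * omegaBar M ξ (resCtr H a') := by
  constructor
  · rintro ⟨B, hBi⟩ a a'
    obtain ⟨χ, hχ⟩ := isPBlock_nonempty hBi.2.1
    simp only [(isInducedBlock_iff H hb hBi.2.1 hξ hχ).1 hBi, map_mul]
  · intro h
    let lam : Ctr (Res M) G →+* Res M :=
      { toFun := fun a => omegaBar M ξ (resCtr H a)
        map_one' := by rw [resCtr_one, map_one]
        map_mul' := h
        map_zero' := by simp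
        map_add' := fun a a' => by simp }
    obtain ⟨χ, hχ⟩ := exists_eq_omegaBar lam fun r => by
      have := omegaBar_resCtr_scalar_mul H ξ r 1
      rw [mul_one, resCtr_one, map_one, mul_one] at this
      exact this
    exact ⟨_, (isInducedBlock_iff H hb (isPBlock_blockOf χ) hξ (mem_blockOf_self χ)).2
      fun a => DFunLike.congr_fun hχ a⟩

/-- The sum over the group of a function extended by zero at the conjugates of `g`. -/
theorem sum_extendByZero_conj (H : Subgroup G) (θ : H → ℂ) (g : G) :
    ∑ x : G, Cfsg.extendByZero H θ (x⁻¹ * g * x) =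
      (Nat.card (Subgroup.centralizer ({g} : Set G)) : ℂ) *
        ∑ᶠ h ∈ {h : H | IsConj g (h : G)}, θ h := by
  classical
  haveI := Fintype.ofFinite H
  have e : ∀ x : G, Cfsg.extendByZero H θ (x⁻¹ * g * x) =
      ∑ h : H, if x⁻¹ * g * x = (h : G) then θ h else 0 := by
    intro x
    by_cases hx : x⁻¹ * g * x ∈ H
    · rw [Finset.sum_eq_single ⟨_, hx⟩ (fun b _ hb => if_neg fun hh => hb (Subtype.ext hh.symm))
        (by simp), if_pos rfl]
      exact Subtype.val_injective.extend_apply θ 0 ⟨_, hx⟩
    · rw [Finset.sum_eq_zero fun (b : H) _ => if_neg fun (hh : x⁻¹ * g * x = (b : G)) => hx (hh ▸ b.2)]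
      exact Function.extend_apply' _ _ _ (fun ⟨a, ha⟩ => hx (ha ▸ a.2))
  rw [Finset.sum_congr rfl fun x _ => e x, Finset.sum_comm, finsum_mem_def,
    finsum_eq_sum_of_fintype, Finset.mul_sum]
  refine Finset.sum_congr rfl fun h _ => ?_
  have hc : (∑ x : G, if x⁻¹ * g * x = (h : G) then θ h else 0) =
      (Nat.card {x : G // x * (h : G) * x⁻¹ = g} : ℂ) * θ h := by
    rw [← Finset.sum_filter, Finset.sum_const, nsmul_eq_mul, Nat.card_eq_fintype_card,
      Fintype.card_subtype]
    congr 3
    refine Finset.filter_congr fun x _ => ⟨fun hx => ?_, fun hx => ?_⟩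
    · rw [← hx]; group
    · rw [← hx]; group
  rw [hc, Set.indicator_apply, ← Characters.sum_irr_mul_conj]
  simp only [Set.mem_setOf_eq]
  split_ifs with hgh
  · rw [Characters.sum_irr_mul_conj_of_isConj hgh.symm]
    congr 2
    obtain ⟨c, hc⟩ := isConj_iff.1 hgh
    rw [← hc]
    refine Nat.card_congr ?_
    exact
      { toFun := fun x => ⟨c⁻¹ * x.1 * c, Subgroup.mem_centralizer_singleton_iff.2 (by
          have := Subgroup.mem_centralizer_singleton_iff.1 x.2
          calc c⁻¹ * x.1 * c * g = c⁻¹ * (x.1 * (c * g * c⁻¹)) * c := by group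
            _ = g * (c⁻¹ * x.1 * c) := by rw [this]; group)⟩
        invFun := fun x => ⟨c * x.1 * c⁻¹, Subgroup.mem_centralizer_singleton_iff.2 (by
          have := Subgroup.mem_centralizer_singleton_iff.1 x.2
          calc c * x.1 * c⁻¹ * (c * g * c⁻¹) = c * (x.1 * g) * c⁻¹ := by group
            _ = c * g * c⁻¹ * (c * x.1 * c⁻¹) := by rw [this]; group)⟩
        left_inv := fun x => Subtype.ext (by simp [mul_assoc])
        right_inv := fun x => Subtype.ext (by simp [mul_assoc]) }
  · rw [Characters.sum_irr_mul_conj_of_not_isConj fun hh => hgh hh.symm, mul_zero, zero_mul]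

/-- Inducing the central character of `θ` gives the central character of the induced function. -/
theorem inducedCentralChar_eq_centralChar_indFun (H : Subgroup G) (θ : H → ℂ) (g : G) :
    Cfsg.inducedCentralChar H θ g = Cfsg.centralChar (Cfsg.indFun H θ) g := by
  have hG : (Nat.card G : ℂ) ≠ 0 := Nat.cast_ne_zero.2 Nat.card_pos.ne'
  have hH : (Nat.card H : ℂ) ≠ 0 := Nat.cast_ne_zero.2 Nat.card_pos.ne'
  have h1 : Cfsg.indFun H θ 1 = (Nat.card H : ℂ)⁻¹ * ((Nat.card G : ℂ) * θ 1) := by
    simp only [Cfsg.indFun, mul_one, inv_mul_cancel, Finset.sum_const, Finset.card_univ,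
      nsmul_eq_mul, ← Nat.card_eq_fintype_card]
    congr 2
    exact Subtype.val_injective.extend_apply θ 0 1
  rw [Cfsg.centralChar, h1, Cfsg.indFun, sum_extendByZero_conj, Cfsg.inducedCentralChar,
    ← Subgroup.index_mul_card (Subgroup.centralizer ({g} : Set G))]
  haveI := Fintype.ofFinite H
  rw [finsum_mem_def, finsum_mem_def, finsum_eq_sum_of_fintype, finsum_eq_sum_of_fintype]
  have hs : ∑ h : H, Set.indicator {h : H | IsConj g (h : G)} (fun h => θ h / θ 1) h =
      (∑ h : H, Set.indicator {h : H | IsConj g (h : G)} θ h) / θ 1 := by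
    rw [Finset.sum_div]
    refine Finset.sum_congr rfl fun h _ => ?_
    classical
    simp only [Set.indicator_apply]
    split_ifs <;> simp
  have hi : ((Subgroup.centralizer ({g} : Set G)).index : ℂ) ≠ 0 :=
    Nat.cast_ne_zero.2 Subgroup.index_ne_zero_of_finite
  have hC : (Nat.card (Subgroup.centralizer ({g} : Set G)) : ℂ) ≠ 0 :=
    Nat.cast_ne_zero.2 Nat.card_pos.ne'
  rw [hs]
  push_cast
  rcases eq_or_ne (θ 1) 0 with h0 | h0
  · simp [h0]
  · field_simp

theorem exists_classInner_res_ne_zero [M.IsPrime] {H : Subgroup G} [Fintype H]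
    {b : Set (IrrCharacter H)} {B : Set (IrrCharacter G)} (hind : Cfsg.IsInducedBlock M H b B)
    {ξ : IrrCharacter H} (hξ : ξ ∈ b) :
    ∃ χ ∈ B, Cfsg.classInner (fun h : H => (χ : G → ℂ) h) (ξ : H → ℂ) ≠ 0 := by
  classical
  obtain ⟨χ₀, hχ₀⟩ := isPBlock_nonempty hind.2.1
  set hA := isBlockUnion_of_isPBlock hind.2.1
  have h1 := (isInducedBlock_iff H hind.1 hind.2.1 hξ hχ₀).1 hind (idemBar M B hA)
  rw [omegaBar_idemBar, if_pos hχ₀, idemBar, redCtr, ← mapCtr_resCtr, ← redCtr,
    omegaBar_redCtr] at h1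
  set z := omegaO M ξ (resCtr H (setIdemO M B (memLocalRing_blockCoeff hA)))
  have hz : (z : ℂ) ≠ 0 := by
    intro h
    rw [show z = 0 from Subtype.ext h, map_zero] at h1
    exact zero_ne_one h1
  rw [coe_omegaO, toC, mapCtr_resCtr, ← toC, toC_setIdemO, omega_apply] at hz
  simp only [coeff_resCtr, coeff_setIdemC, blockCoeff_eq_sum] at hz
  by_contra hcon
  refine hz ?_
  rw [div_eq_zero_iff]
  left
  simp only [Finset.mul_sum, Finset.sum_mul]
  rw [Finset.sum_comm]
  refine Finset.sum_eq_zero fun χ _ => ?_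
  split_ifs with hχ
  · have h0 : Cfsg.classInner (fun h : H => (χ : G → ℂ) h) (ξ : H → ℂ) = 0 := by
      by_contra hne; exact hcon ⟨χ, hχ, hne⟩
    have h0' : Cfsg.classInner (ξ : H → ℂ) (fun h : H => (χ : G → ℂ) h) = 0 := by
      rw [Characters.classInner_conj_symm, h0, map_zero]
    rw [Cfsg.classInner, mul_eq_zero] at h0'
    have h0'' := h0'.resolve_left (inv_ne_zero (Nat.cast_ne_zero.2 Nat.card_pos.ne'))
    calc _ = (Nat.card G : ℂ)⁻¹ * (χ : G → ℂ) 1 *
        ∑ h : H, (ξ : H → ℂ) h * conj ((χ : G → ℂ) (h : G)) := by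
          rw [Finset.mul_sum]; exact Finset.sum_congr rfl fun h _ => by ring
      _ = 0 := by rw [h0'', mul_zero]
  · simp

end CfsgLib.Blocks
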