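import Cfsg.Agent.Blocks.Induced
import Cfsg.Agent.BlockPairs.Defect
import Mathlib.RingTheory.Artinian.Module
import Mathlib.LinearAlgebra.FiniteDimensional.Basic

/-!
# The Brauer map on centres, and blocks of local subgroups

For `C(P) ≤ H ≤ N(P)` the map `brRes` keeps the coefficients on `C(P)`; in characteristic `p` it is
a ring homomorphism of centres.  A central element vanishing on the centralizer of a normal
p-subgroup is nilpotent, so induced central characters may be computed through the Brauer map,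
and blocks of such `H` always induce blocks.
-/

set_option autoImplicit false
set_option linter.style.haveILetI false
set_option linter.unusedSectionVars false

namespace CfsgLib.Blocks

open Cfsg

universe u

variable {G : Type u} [Group G] [Finite G]

theorem isFixed_of_mem_ctr {F : Type*} [Field F] (P : Subgroup G) (a : Ctr F G) :
    BlockPairs.IsFixed P (a : MonoidAlgebra F G) := fun u _ =>
  MonoidAlgebra.ext (Finsupp.ext fun g => by
    rw [BlockPairs.conjA_coeff]
    simpa using coeff_conj_of_mem_ctr a.2 g u⁻¹)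

theorem mem_centralizer_conj_iff {P : Subgroup G} {x : G}
    (hx : x ∈ Subgroup.normalizer (P : Set G)) (g : G) :
    x * g * x⁻¹ ∈ Subgroup.centralizer (P : Set G) ↔ g ∈ Subgroup.centralizer (P : Set G) := by
  have key : ∀ {y : G}, y ∈ Subgroup.normalizer (P : Set G) → ∀ c ∈
      Subgroup.centralizer (P : Set G), y * c * y⁻¹ ∈ Subgroup.centralizer (P : Set G) := by
    intro y hy c hc
    refine Subgroup.mem_centralizer_iff.2 fun u hu => ?_
    have hu' : y⁻¹ * u * y ∈ P := by
      have := ((Subgroup.mem_normalizer_iff).1 (Subgroup.inv_mem _ hy) u).1 hu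
      simpa using this
    have := Subgroup.mem_centralizer_iff.1 hc _ hu'
    calc u * (y * c * y⁻¹) = y * (y⁻¹ * u * y * c) * y⁻¹ := by group
      _ = y * c * y⁻¹ * u := by rw [this]; group
  refine ⟨fun h => ?_, key hx g⟩
  simpa [mul_assoc] using key (Subgroup.inv_mem _ hx) _ h

section Add

variable {R S : Type*} [CommRing R] [CommRing S] (P H : Subgroup G)
  (hHN : H ≤ Subgroup.normalizer (P : Set G))

/-- Restriction to `H`, keeping the coefficients on `C(P)`. -/
noncomputable def brRes : Ctr R G →+ Ctr R H where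
  toFun a := ⟨ofFun (Set.indicator {h : H | (h : G) ∈ Subgroup.centralizer (P : Set G)}
      fun h => (a : MonoidAlgebra R G).coeff (h : G)),
    mem_ctr_iff.2 fun g h => by
      classical
      simp [Set.indicator_apply, mem_centralizer_conj_iff (hHN h.2),
        coeff_conj_of_mem_ctr a.2]⟩
  map_zero' := ctr_ext fun g => by simp
  map_add' a b := ctr_ext fun g => by
    classical
    simp only [coeff_ofFun, Set.indicator_apply, Subring.coe_add, MonoidAlgebra.coeff_add,
      Finsupp.add_apply]
    split_ifs <;> simp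

variable {P H}

theorem coeff_brRes_of_mem (a : Ctr R G) {h : H}
    (hh : (h : G) ∈ Subgroup.centralizer (P : Set G)) :
    (brRes P H hHN a : MonoidAlgebra R H).coeff h = (a : MonoidAlgebra R G).coeff (h : G) := by
  classical
  simp [brRes, hh]

theorem coeff_brRes_of_notMem (a : Ctr R G) {h : H}
    (hh : (h : G) ∉ Subgroup.centralizer (P : Set G)) :
    (brRes P H hHN a : MonoidAlgebra R H).coeff h = 0 := by
  classical
  simp [brRes, hh]

theorem mapCtr_brRes (f : R →+* S) (a : Ctr R G) :
    mapCtr f (brRes P H hHN a) = brRes P H hHN (mapCtr f a) := ctr_ext fun g => by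
  by_cases hg : (g : G) ∈ Subgroup.centralizer (P : Set G)
  · simp [coeff_brRes_of_mem hHN _ hg]
  · simp [coeff_brRes_of_notMem hHN _ hg]

end Add

section CharP

variable {F : Type*} [Field F] {p : ℕ} [Fact p.Prime] [CharP F p]

open Classical in
theorem coeff_mul_centralizer [Fintype G] {P : Subgroup G} (hP : IsPGroup p P) (a b : Ctr F G)
    {c : G} (hc : c ∈ Subgroup.centralizer (P : Set G)) :
    ((a * b : Ctr F G) : MonoidAlgebra F G).coeff c = ∑ x : G,
      if x ∈ Subgroup.centralizer (P : Set G) then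
        (a : MonoidAlgebra F G).coeff x * (b : MonoidAlgebra F G).coeff (x⁻¹ * c) else 0 := by
  have h := BlockPairs.br_mul (F := F) hP (isFixed_of_mem_ctr P a) (isFixed_of_mem_ctr P b)
  have h' := congrArg (fun z : MonoidAlgebra F G => z.coeff c) h
  simp only [BlockPairs.br_coeff_mem P _ hc, coeff_mul_eq_sum] at h'
  rw [Subring.coe_mul, coeff_mul_eq_sum, h']
  refine Finset.sum_congr rfl fun x _ => ?_
  split_ifs with hx
  · rw [BlockPairs.br_coeff_mem P _ hx, BlockPairs.br_coeff_mem P _
      (Subgroup.mul_mem _ (Subgroup.inv_mem _ hx) hc)]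
  · rw [BlockPairs.br_coeff_not_mem P _ hx, zero_mul]

/-- The Brauer homomorphism between centres. -/
noncomputable def brHom (P H : Subgroup G) (hP : IsPGroup p P)
    (hCH : Subgroup.centralizer (P : Set G) ≤ H) (hHN : H ≤ Subgroup.normalizer (P : Set G)) :
    Ctr F G →+* Ctr F H where
  toFun := brRes P H hHN
  map_zero' := map_zero _
  map_add' := map_add _
  map_one' := ctr_ext fun g => by
    classical
    by_cases hg : (g : G) ∈ Subgroup.centralizer (P : Set G)
    · simp [coeff_brRes_of_mem hHN _ hg, MonoidAlgebra.one_def, Finsupp.single_apply, eq_comm]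
    · have : g ≠ 1 := fun h => hg (by rw [h]; exact Subgroup.one_mem _)
      simp [coeff_brRes_of_notMem hHN _ hg, MonoidAlgebra.one_def, this]
  map_mul' a b := ctr_ext fun g => by
    classical
    haveI := Fintype.ofFinite G
    haveI := Fintype.ofFinite H
    rw [Subring.coe_mul, coeff_mul_eq_sum]
    by_cases hg : (g : G) ∈ Subgroup.centralizer (P : Set G)
    · rw [coeff_brRes_of_mem hHN _ hg, coeff_mul_centralizer hP a b hg, ← Finset.sum_filter]
      symm
      refine Finset.sum_bij_ne_zero (fun x _ _ => (x : G)) ?_ (fun x _ _ y _ _ h => Subtype.ext h)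
        (fun x hx h0 => ?_) (fun x _ h0 => ?_)
      · intro x _ h0
        refine Finset.mem_filter.2 ⟨Finset.mem_univ _, ?_⟩
        by_contra hx
        exact h0 (by rw [coeff_brRes_of_notMem hHN _ hx, zero_mul])
      · have hxc := (Finset.mem_filter.1 hx).2
        refine ⟨⟨x, hCH hxc⟩, Finset.mem_univ _, ?_, rfl⟩
        rwa [coeff_brRes_of_mem hHN _ hxc, coeff_brRes_of_mem hHN _
          (show ((⟨x, hCH hxc⟩⁻¹ * g : H) : G) ∈ _ from
            Subgroup.mul_mem _ (Subgroup.inv_mem _ hxc) hg)]
      · have hxc : (x : G) ∈ Subgroup.centralizer (P : Set G) := by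
          by_contra hx
          exact h0 (by rw [coeff_brRes_of_notMem hHN _ hx, zero_mul])
        rw [coeff_brRes_of_mem hHN _ hxc, coeff_brRes_of_mem hHN _
          (show ((x⁻¹ * g : H) : G) ∈ _ from Subgroup.mul_mem _ (Subgroup.inv_mem _ hxc) hg)]
        rfl
    · rw [coeff_brRes_of_notMem hHN _ hg]
      refine (Finset.sum_eq_zero fun x _ => ?_).symm
      by_cases hx : (x : G) ∈ Subgroup.centralizer (P : Set G)
      · rw [coeff_brRes_of_notMem hHN b (h := x⁻¹ * g) fun h => hg ?_, mul_zero]
        simpa using Subgroup.mul_mem _ hx h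
      · rw [coeff_brRes_of_notMem hHN _ hx, zero_mul]

theorem brHom_apply (P H : Subgroup G) (hP : IsPGroup p P)
    (hCH : Subgroup.centralizer (P : Set G) ≤ H) (hHN : H ≤ Subgroup.normalizer (P : Set G))
    (a : Ctr F G) : brHom P H hP hCH hHN a = brRes P H hHN a := rfl

/-- Truncation to the centralizer of a normal p-subgroup. -/
noncomputable def truncHom (Q : Subgroup G) [hQn : Q.Normal] (hQ : IsPGroup p Q) :
    Ctr F G →+* Ctr F G where
  toFun a := ⟨BlockPairs.br Q (a : MonoidAlgebra F G), mem_ctr_iff.2 fun g h => by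
    have hh : h ∈ Subgroup.normalizer (Q : Set G) := by
      rw [Subgroup.normalizer_eq_top]; trivial
    by_cases hg : g ∈ Subgroup.centralizer (Q : Set G)
    · rw [BlockPairs.br_coeff_mem Q _ hg,
        BlockPairs.br_coeff_mem Q _ ((mem_centralizer_conj_iff hh g).2 hg),
        coeff_conj_of_mem_ctr a.2]
    · rw [BlockPairs.br_coeff_not_mem Q _ hg,
        BlockPairs.br_coeff_not_mem Q _ (fun hc => hg ((mem_centralizer_conj_iff hh g).1 hc))]⟩
  map_zero' := Subtype.ext (BlockPairs.br_zero Q)
  map_one' := Subtype.ext (BlockPairs.br_one Q)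
  map_add' a b := Subtype.ext (BlockPairs.br_add Q _ _)
  map_mul' a b := Subtype.ext (BlockPairs.br_mul hQ (isFixed_of_mem_ctr Q a)
    (isFixed_of_mem_ctr Q b))

theorem coeff_truncHom_of_mem (Q : Subgroup G) [Q.Normal] (hQ : IsPGroup p Q) (a : Ctr F G)
    {g : G} (hg : g ∈ Subgroup.centralizer (Q : Set G)) :
    (truncHom Q hQ a : MonoidAlgebra F G).coeff g = (a : MonoidAlgebra F G).coeff g :=
  BlockPairs.br_coeff_mem Q _ hg

theorem coeff_truncHom_of_notMem (Q : Subgroup G) [Q.Normal] (hQ : IsPGroup p Q) (a : Ctr F G)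
    {g : G} (hg : g ∉ Subgroup.centralizer (Q : Set G)) :
    (truncHom Q hQ a : MonoidAlgebra F G).coeff g = 0 :=
  BlockPairs.br_coeff_not_mem Q _ hg

theorem eq_zero_of_isIdempotentElem_of_truncHom (Q : Subgroup G) [Q.Normal] (hQ : IsPGroup p Q)
    {e : Ctr F G} (he : e * e = e) (h0 : truncHom Q hQ e = 0) : e = 0 :=
  Subtype.ext (BlockPairs.eq_zero_of_br_eq_zero (H := ⊤) hQ
    (by rw [Subgroup.normalizer_eq_top]) (fun _ _ => trivial) (isFixed_of_mem_ctr Q e)
    (congrArg Subtype.val he) (congrArg Subtype.val h0))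

/-- Central idempotents are supported on the centralizer of a normal p-subgroup. -/
theorem truncHom_idem (Q : Subgroup G) [Q.Normal] (hQ : IsPGroup p Q) {e : Ctr F G}
    (he : e * e = e) : truncHom Q hQ e = e := by
  set t := truncHom Q hQ e
  have ht : t * t = t := by rw [← map_mul, he]
  have htt : truncHom Q hQ t = t := Subtype.ext (BlockPairs.br_br_of_le le_rfl _)
  have h1 : e * (1 - t) = 0 := eq_zero_of_isIdempotentElem_of_truncHom Q hQ
    (by linear_combination (1 - t) * (1 - t) * he + e * ht)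
    (by rw [map_mul, map_sub, map_one, htt]; linear_combination -ht)
  have h2 : t * (1 - e) = 0 := eq_zero_of_isIdempotentElem_of_truncHom Q hQ
    (by linear_combination (1 - e) * (1 - e) * ht + t * he)
    (by rw [map_mul, map_sub, map_one, htt]; linear_combination -ht)
  linear_combination h2 - h1

/-- A central element vanishing on the centralizer of a normal p-subgroup is nilpotent. -/
theorem isNilpotent_of_truncHom_eq_zero (Q : Subgroup G) [Q.Normal] (hQ : IsPGroup p Q)
    {a : Ctr F G} (h0 : truncHom Q hQ a = 0) : IsNilpotent a := by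
  haveI : Module.Finite F (MonoidAlgebra F G) :=
    Module.Finite.equiv (MonoidAlgebra.coeffLinearEquiv F : MonoidAlgebra F G ≃ₗ[F] (G →₀ F)).symm
  let A := Subalgebra.center F (MonoidAlgebra F G)
  haveI : IsArtinianRing A := IsArtinianRing.of_finite F A
  obtain ⟨n, y', hy'⟩ := IsArtinian.exists_pow_succ_smul_dvd (⟨a.1, a.2⟩ : A) (1 : A)
  let y : Ctr F G := ⟨y'.1, y'.2⟩
  have hy : a ^ (n + 1) * y = a ^ n := Subtype.ext (by
    have := congrArg Subtype.val hy'
    simpa [y] using this)
  have hy1 : ∀ m, a ^ (n + 1 + m) * y ^ m = a ^ (n + 1) := by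
    intro m
    induction m with
    | zero => simp
    | succ m ih =>
      calc a ^ (n + 1 + (m + 1)) * y ^ (m + 1)
          = a ^ (n + 1) * y * (a ^ (m + 1) * y ^ m) := by ring
        _ = a ^ (n + 1 + m) * y ^ m := by rw [hy]; ring
        _ = a ^ (n + 1) := ih
  set e := a ^ (n + 1) * y ^ (n + 1) with he
  have hee : e * e = e := by
    rw [he]
    linear_combination y ^ (n + 1) * hy1 (n + 1)
  have he0 : e = 0 := eq_zero_of_isIdempotentElem_of_truncHom Q hQ hee (by
    rw [he, map_mul, map_pow, h0, zero_pow (by omega), zero_mul])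
  refine ⟨n + 1, ?_⟩
  linear_combination a ^ (n + 1) * he0 - hy1 (n + 1)

theorem isNilpotent_of_coeff_centralizer (Q : Subgroup G) [Q.Normal] (hQ : IsPGroup p Q)
    {a : Ctr F G}
    (h0 : ∀ g ∈ Subgroup.centralizer (Q : Set G), (a : MonoidAlgebra F G).coeff g = 0) :
    IsNilpotent a :=
  isNilpotent_of_truncHom_eq_zero Q hQ (ctr_ext fun g => by
    by_cases hg : g ∈ Subgroup.centralizer (Q : Set G)
    · rw [coeff_truncHom_of_mem Q hQ a hg, h0 g hg]; rfl
    · rw [coeff_truncHom_of_notMem Q hQ a hg]; rfl)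

end CharP

/-! ### Central characters through the Brauer map -/

section Omega

variable [Fintype G] {M : Ideal AlgInt} [M.IsPrime] {p : ℕ} [Fact p.Prime]

theorem omegaBar_eq_zero_of_coeff_centralizer (hM : Cfsg.IsPModular p M) (Q : Subgroup G)
    [Q.Normal] (hQ : IsPGroup p Q) (χ : IrrCharacter G) {a : Ctr (Res M) G}
    (h0 : ∀ g ∈ Subgroup.centralizer (Q : Set G), (a : MonoidAlgebra (Res M) G).coeff g = 0) :
    omegaBar M χ a = 0 := by
  haveI := charP_res hM
  exact ((isNilpotent_of_coeff_centralizer Q hQ h0).map (omegaBar M χ)).eq_zero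

variable {P H : Subgroup G}

/-- Induced central characters may be computed through the Brauer map. -/
theorem omegaBar_resCtr_eq_brRes (hM : Cfsg.IsPModular p M) [Fintype H] (hP : IsPGroup p P)
    (hPH : P ≤ H) (hHN : H ≤ Subgroup.normalizer (P : Set G)) (ξ : IrrCharacter H)
    (a : Ctr (Res M) G) :
    omegaBar M ξ (resCtr H a) = omegaBar M ξ (brRes P H hHN a) := by
  haveI : (P.subgroupOf H).Normal := (Subgroup.normal_subgroupOf_iff_le_normalizer hPH).2 hHN
  rw [← sub_eq_zero, ← map_sub]
  refine omegaBar_eq_zero_of_coeff_centralizer hM (P.subgroupOf H) hP.comap_subtype ξ fun g hg => ?_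
  have hg' : (g : G) ∈ Subgroup.centralizer (P : Set G) := Subgroup.mem_centralizer_iff.2
    fun u hu => congrArg Subtype.val (Subgroup.mem_centralizer_iff.1 hg ⟨u, hPH hu⟩ hu)
  simp [coeff_brRes_of_mem hHN _ hg']

theorem omega_brRes_classSum [Fintype H] (hHN : H ≤ Subgroup.normalizer (P : Set G))
    (ξ : IrrCharacter H) (g : G) :
    omega ξ (brRes P H hHN (classSum ℂ (ConjClasses.mk g))) =
      Cfsg.brauerCentralChar P H (ξ : H → ℂ) g := by
  classical
  rw [omega_apply, Finset.sum_div, Cfsg.brauerCentralChar, finsum_mem_def,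
    finsum_eq_sum_of_fintype]
  refine Finset.sum_congr rfl fun h _ => ?_
  by_cases hh : (h : G) ∈ Subgroup.centralizer (P : Set G)
  · rw [coeff_brRes_of_mem hHN _ hh, coeff_classSum]
    simp only [Set.indicator_apply, Set.mem_ofPred_eq, ConjClasses.mk_eq_mk_iff_isConj,
      isConj_comm, hh, and_true]
    split_ifs <;> simp
  · rw [coeff_brRes_of_notMem hHN _ hh]
    simp [hh]

theorem isIntegral_brauerCentralChar (hHN : H ≤ Subgroup.normalizer (P : Set G))
    (ξ : IrrCharacter H) (g : G) :
    IsIntegral ℤ (Cfsg.brauerCentralChar P H (ξ : H → ℂ) g) := by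
  haveI := Fintype.ofFinite H
  haveI := Fintype.ofFinite (ConjClasses H)
  rw [← omega_brRes_classSum hHN, ← mapCtr_classSum (Int.castRingHom ℂ), ← mapCtr_brRes,
    eq_sum_classSum (brRes P H hHN (classSum ℤ (ConjClasses.mk g))), map_sum, map_sum]
  refine IsIntegral.sum _ fun C _ => ?_
  rw [map_mul, map_mul, mapCtr_scalar, omega_scalar, mapCtr_classSum]
  exact IsIntegral.mul (isIntegral_algebraMap) (isIntegral_omega_classSum ξ C)

theorem red_brauerCentralChar (hHN : H ≤ Subgroup.normalizer (P : Set G)) [Fintype H]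
    (ξ : IrrCharacter H) (g : G) :
    red M ⟨Cfsg.brauerCentralChar P H (ξ : H → ℂ) g,
      memLocalRing_of_isIntegral (isIntegral_brauerCentralChar hHN ξ g)⟩ =
      omegaBar M ξ (brRes P H hHN (classSum _ (ConjClasses.mk g))) := by
  rw [← mapCtr_classSum (red M), ← mapCtr_brRes, ← redCtr, omegaBar_redCtr]
  congr 1
  refine Subtype.ext ?_
  rw [coe_omegaO, toC, mapCtr_brRes, mapCtr_classSum, omega_brRes_classSum]

/-- The induced block condition read through the Brauer map. -/
theorem isInducedBlock_iff_brauer (hM : Cfsg.IsPModular p M) (hP : IsPGroup p P) (hPH : P ≤ H)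
    (hHN : H ≤ Subgroup.normalizer (P : Set G)) {b : Set (IrrCharacter H)}
    {B : Set (IrrCharacter G)} (hb : Cfsg.IsPBlock M b) (hB : Cfsg.IsPBlock M B) :
    Cfsg.IsInducedBlock M H b B ↔ ∀ ξ ∈ b, ∀ χ ∈ B, ∀ g : G, Cfsg.MemLocalIdeal M
      (Cfsg.brauerCentralChar P H (ξ : H → ℂ) g - Cfsg.centralChar (χ : G → ℂ) g) := by
  haveI := Fintype.ofFinite H
  have key : ∀ (ξ : IrrCharacter H) (χ : IrrCharacter G) (g : G), Cfsg.MemLocalIdeal M
      (Cfsg.brauerCentralChar P H (ξ : H → ℂ) g - Cfsg.centralChar (χ : G → ℂ) g) ↔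
      omegaBar M ξ (resCtr H (classSum _ (ConjClasses.mk g))) =
        omegaBar M χ (classSum _ (ConjClasses.mk g)) := by
    intro ξ χ g
    rw [omegaBar_resCtr_eq_brRes hM hP hPH hHN, ← red_brauerCentralChar hHN, omegaBar_classSum,
      red_eq_red_iff]
  constructor
  · intro h ξ hξ χ hχ g
    rw [key]
    exact (isInducedBlock_iff H hb hB hξ hχ).1 h _
  · intro h
    obtain ⟨ξ, hξ⟩ := isPBlock_nonempty hb
    obtain ⟨χ, hχ⟩ := isPBlock_nonempty hB
    exact isInducedBlock_of_classSum H hb hB hξ hχ fun g => (key ξ χ g).1 (h ξ hξ χ hχ g)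

/-- Blocks of `H` with `P·C(P) ≤ H ≤ N(P)` induce blocks. -/
theorem inducedBlockDefined_of_local (hM : Cfsg.IsPModular p M) (hP : IsPGroup p P) (hPH : P ≤ H)
    (hCH : Subgroup.centralizer (P : Set G) ≤ H) (hHN : H ≤ Subgroup.normalizer (P : Set G))
    {b : Set (IrrCharacter H)} (hb : Cfsg.IsPBlock M b) : Cfsg.InducedBlockDefined M H b := by
  haveI := Fintype.ofFinite H
  haveI := charP_res hM
  obtain ⟨ξ, hξ⟩ := isPBlock_nonempty hb
  refine (inducedBlockDefined_iff H hb hξ).2 fun a a' => ?_
  simp only [omegaBar_resCtr_eq_brRes hM hP hPH hHN, ← brHom_apply P H hP hCH hHN, map_mul]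

end Omega

end CfsgLib.Blocks
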