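import Cfsg.Agent.Blocks.Height
import Cfsg.Agent.Characters.Linear

/-!
# Blocks and the constituents on a normal p'-subgroup

The idempotent of an orbit of characters of a normal subgroup of order prime to `p` is central in
the group and has local integral coefficients, so its central character is constant on blocks.
-/

set_option autoImplicit false
set_option linter.style.haveILetI false
set_option linter.unusedSectionVars false

namespace CfsgLib.Blocks

open Cfsg
open scoped ComplexConjugate

universe u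

variable {G : Type u} [Group G] [Fintype G] {p : ℕ} [Fact p.Prime] {M : Ideal AlgInt} [M.IsPrime]

/-- The conjugate of an irreducible character of a normal subgroup. -/
def conjIrr (N : Subgroup G) [N.Normal] (g : G) (η : IrrCharacter N) : IrrCharacter N :=
  ⟨fun n => (η : N → ℂ) (MulAut.conjNormal g n),
    Characters.isIrr_comp (MulAut.conjNormal g : MulAut N).toMonoidHom
      (MulAut.conjNormal g : MulAut N).surjective η.2⟩

theorem coe_conjIrr (N : Subgroup G) [N.Normal] (g : G) (η : IrrCharacter N) (n : N) :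
    (conjIrr N g η : N → ℂ) n = (η : N → ℂ) (MulAut.conjNormal g n) := rfl

theorem conjIrr_conjIrr (N : Subgroup G) [N.Normal] (g h : G) (η : IrrCharacter N) :
    conjIrr N g (conjIrr N h η) = conjIrr N (h * g) η :=
  Subtype.ext (funext fun n => by simp [coe_conjIrr, map_mul])

theorem conjIrr_one (N : Subgroup G) [N.Normal] (η : IrrCharacter N) : conjIrr N 1 η = η :=
  Subtype.ext (funext fun n => by simp [coe_conjIrr])

/-- Conjugation as a permutation of the irreducible characters. -/
def conjIrrEquiv (N : Subgroup G) [N.Normal] (g : G) : IrrCharacter N ≃ IrrCharacter N where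
  toFun := conjIrr N g
  invFun := conjIrr N g⁻¹
  left_inv η := by rw [conjIrr_conjIrr, mul_inv_cancel, conjIrr_one]
  right_inv η := by rw [conjIrr_conjIrr, inv_mul_cancel, conjIrr_one]

/-- The orbit of an irreducible character of a normal subgroup. -/
def orbitIrr (N : Subgroup G) [N.Normal] (θ : IrrCharacter N) : Set (IrrCharacter N) :=
  {η | ∃ g, conjIrr N g θ = η}

theorem conjIrr_mem_orbitIrr_iff (N : Subgroup G) [N.Normal] (θ η : IrrCharacter N) (g : G) :
    conjIrr N g η ∈ orbitIrr N θ ↔ η ∈ orbitIrr N θ := by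
  constructor
  · rintro ⟨h, hh⟩
    refine ⟨h * g⁻¹, ?_⟩
    rw [← conjIrr_conjIrr, hh, conjIrr_conjIrr, mul_inv_cancel, conjIrr_one]
  · rintro ⟨h, rfl⟩
    exact ⟨h * g, (conjIrr_conjIrr N g h θ).symm⟩

theorem classInner_conjIrr (N : Subgroup G) [N.Normal] [Fintype N] (χ : IrrCharacter G)
    (θ : IrrCharacter N) (g : G) :
    Cfsg.classInner (fun n : N => (χ : G → ℂ) n) (conjIrr N g θ : N → ℂ) =
      Cfsg.classInner (fun n : N => (χ : G → ℂ) n) (θ : N → ℂ) := by
  simp only [Cfsg.classInner]
  congr 1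
  refine Fintype.sum_equiv (MulAut.conjNormal g : MulAut N).toEquiv _ _ fun n => ?_
  rw [coe_conjIrr]
  simp only [MulEquiv.toEquiv_eq_coe, MulEquiv.coe_toEquiv, MulAut.conjNormal_apply]
  rw [Characters.isClassFunction_of_isIrr χ.2]

theorem blockCoeff_orbit_conj (N : Subgroup G) [N.Normal] [Fintype N] (θ : IrrCharacter N) (g : G)
    (n : N) : Cfsg.blockCoeff (orbitIrr N θ) (MulAut.conjNormal g n) =
      Cfsg.blockCoeff (orbitIrr N θ) n := by
  classical
  simp only [blockCoeff_eq_sum]
  congr 1
  refine Fintype.sum_equiv (conjIrrEquiv N g) _ _ fun η => ?_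
  simp only [conjIrrEquiv, Equiv.coe_fn_mk, conjIrr_mem_orbitIrr_iff, coe_conjIrr, map_one]

open Classical in
/-- The orbit idempotent, as an element of the centre of the group algebra of the group. -/
noncomputable def orbitIdem (M : Ideal AlgInt) [M.IsPrime] (N : Subgroup G) [N.Normal] [Fintype N]
    (θ : IrrCharacter N) (h : ∀ n, Cfsg.MemLocalRing M (Cfsg.blockCoeff (orbitIrr N θ) n)) :
    Ctr (localRing M) G :=
  ⟨ofFun fun g => if hg : g ∈ N then ⟨Cfsg.blockCoeff (orbitIrr N θ) ⟨g, hg⟩, h _⟩ else 0,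
    mem_ctr_iff.2 fun x y => by
      simp only [coeff_ofFun]
      by_cases hx : x ∈ N
      · rw [dif_pos hx, dif_pos (Subgroup.Normal.conj_mem inferInstance _ hx y)]
        exact Subtype.ext (blockCoeff_orbit_conj N θ y ⟨x, hx⟩)
      · rw [dif_neg hx, dif_neg fun h' => hx ?_]
        simpa [mul_assoc] using Subgroup.Normal.conj_mem (inferInstance : N.Normal) _ h' y⁻¹⟩

theorem orbitIdem_mul_self (N : Subgroup G) [N.Normal] [Fintype N] (θ : IrrCharacter N)
    (h : ∀ n, Cfsg.MemLocalRing M (Cfsg.blockCoeff (orbitIrr N θ) n)) :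
    orbitIdem M N θ h * orbitIdem M N θ h = orbitIdem M N θ h := by
  classical
  refine ctr_ext fun c => ?_
  rw [Subring.coe_mul, coeff_mul_eq_sum]
  simp only [orbitIdem, coeff_ofFun]
  by_cases hc : c ∈ N
  · rw [dif_pos hc]
    refine Subtype.ext ?_
    rw [AddSubmonoidClass.coe_finsetSum]
    have key : setIdemC (orbitIrr N θ) * setIdemC (orbitIrr N θ) = setIdemC (orbitIrr N θ) :=
      ctr_ext_omega fun ψ => by rw [map_mul, omega_setIdemC]; split_ifs <;> simp
    have key' := congrArg (fun z : Ctr ℂ N => (z : MonoidAlgebra ℂ N).coeff ⟨c, hc⟩) key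
    simp only [Subring.coe_mul, coeff_mul_eq_sum, coeff_setIdemC] at key'
    show _ = Cfsg.blockCoeff (orbitIrr N θ) ⟨c, hc⟩
    rw [← key', ← Finset.sum_subset (Finset.subset_univ (Finset.univ.filter fun x : G => x ∈ N))]
    · rw [Finset.sum_subtype (Finset.univ.filter fun x : G => x ∈ N) (p := fun x => x ∈ N)
        (by simp)]
      refine Finset.sum_congr (by congr) fun x _ => ?_
      rw [dif_pos x.2, dif_pos (N.mul_mem (N.inv_mem x.2) hc)]
      rfl
    · intro x _ hx
      rw [dif_neg (by simpa using hx), zero_mul]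
      rfl
  · rw [dif_neg hc]
    refine Finset.sum_eq_zero fun x _ => ?_
    by_cases hx : x ∈ N
    · rw [dif_neg (fun h' => hc (by simpa using N.mul_mem hx h') : x⁻¹ * c ∉ N), mul_zero]
    · rw [dif_neg hx, zero_mul]

open Classical in
theorem omegaO_orbitIdem (N : Subgroup G) [N.Normal] [Fintype N] (θ : IrrCharacter N)
    (h : ∀ n, Cfsg.MemLocalRing M (Cfsg.blockCoeff (orbitIrr N θ) n)) (χ : IrrCharacter G) :
    (omegaO M χ (orbitIdem M N θ h) : ℂ) = Cfsg.classInner (fun n : N => (χ : G → ℂ) n)
      (θ : N → ℂ) * (∑ η : IrrCharacter N, if η ∈ orbitIrr N θ then (η : N → ℂ) 1 else 0) /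
        (χ : G → ℂ) 1 := by
  rw [coe_omegaO, omega_apply]
  congr 1
  simp only [toC, coeff_mapCtr, orbitIdem, coeff_ofFun]
  rw [← Finset.sum_subset (Finset.subset_univ (Finset.univ.filter fun x : G => x ∈ N))]
  · rw [Finset.sum_subtype (Finset.univ.filter fun x : G => x ∈ N) (p := fun x => x ∈ N)
      (by simp)]
    rw [Finset.sum_congr rfl (g := fun x : N =>
      Cfsg.blockCoeff (orbitIrr N θ) x * (χ : G → ℂ) x) fun x _ => by rw [dif_pos x.2]; rfl]
    simp only [blockCoeff_eq_sum, Finset.mul_sum, Finset.sum_mul]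
    rw [Finset.sum_comm]
    refine Finset.sum_congr rfl fun η _ => ?_
    split_ifs with hη
    · obtain ⟨g, rfl⟩ := hη
      rw [← classInner_conjIrr N χ θ g, Cfsg.classInner, Finset.mul_sum, Finset.sum_mul]
      refine Finset.sum_congr (by congr) fun x _ => ?_
      ring
    · simp
  · intro x _ hx
    rw [dif_neg (by simpa using hx)]
    simp

theorem classInner_ne_zero_iff (hM : Cfsg.IsPModular p M) (N : Subgroup G) [N.Normal] [Fintype N]
    (hN : ¬ p ∣ Nat.card N) (θ : IrrCharacter N) {χ ψ : IrrCharacter G}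
    (hb : Cfsg.SameBlock M (χ : G → ℂ) (ψ : G → ℂ)) :
    Cfsg.classInner (fun n : N => (χ : G → ℂ) n) (θ : N → ℂ) ≠ 0 ↔
      Cfsg.classInner (fun n : N => (ψ : G → ℂ) n) (θ : N → ℂ) ≠ 0 := by
  classical
  have hmem : ∀ n, Cfsg.MemLocalRing M (Cfsg.blockCoeff (orbitIrr N θ) n) := fun n => by
    rw [blockCoeff_eq_sum]
    refine Subring.mul_mem (localRing M) (memLocalRing_natCast_inv hM hN) ?_
    refine Subring.sum_mem (localRing M) fun η _ => ?_
    split_ifs
    · rw [← Characters.character_inv (Characters.isCharacter_of_isIrr η.2)]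
      exact Subring.mul_mem (localRing M) (memLocalRing_char η 1) (memLocalRing_char η _)
    · exact Subring.zero_mem _
  set E := orbitIdem M N θ hmem
  have hred : red M (omegaO M χ E) = red M (omegaO M ψ E) := by
    rw [← omegaBar_redCtr, ← omegaBar_redCtr, (sameBlock_iff χ ψ).1 hb]
  have h01 : ∀ η : IrrCharacter G, omegaO M η E = 0 ∨ omegaO M η E = 1 := fun η =>
    IsIdempotentElem.iff_eq_zero_or_one.1 (by
      rw [IsIdempotentElem, ← map_mul, orbitIdem_mul_self])
  set a : ℂ := ∑ η : IrrCharacter N, if η ∈ orbitIrr N θ then (η : N → ℂ) 1 else 0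
  have ha : a ≠ 0 := by
    have e : a = ((∑ η : IrrCharacter N,
        if η ∈ orbitIrr N θ then Cfsg.charDegree (η : N → ℂ) else 0 : ℕ) : ℂ) := by
      push_cast
      exact Finset.sum_congr rfl fun η _ => by split_ifs <;> simp [charDegree_cast]
    rw [e, Nat.cast_ne_zero]
    exact (Finset.sum_pos' (fun _ _ => Nat.zero_le _) ⟨θ, Finset.mem_univ _, by
      rw [if_pos ⟨1, conjIrr_one N θ⟩]; exact Nat.pos_of_ne_zero (charDegree_ne_zero θ)⟩).ne'
  have key : ∀ η : IrrCharacter G,
      Cfsg.classInner (fun n : N => (η : G → ℂ) n) (θ : N → ℂ) ≠ 0 ↔ omegaO M η E = 1 := by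
    intro η
    have h1 := omegaO_orbitIdem N θ hmem η
    constructor
    · intro hne
      refine (h01 η).resolve_left fun h0 => ?_
      rw [h0, ZeroMemClass.coe_zero, eq_comm, div_eq_zero_iff,
        or_iff_left (Characters.irr_one_ne_zero η.2)] at h1
      exact mul_ne_zero hne ha h1
    · intro he hz
      rw [he, hz, zero_mul, zero_div, OneMemClass.coe_one] at h1
      exact one_ne_zero h1
  rw [key, key]
  rcases h01 χ with h | h <;> rcases h01 ψ with h' | h' <;> simp [h, h'] at hred ⊢

end CfsgLib.Blocks
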