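import Cfsg.Agent.Blocks.HeightZero

/-!
# Blocks of the normalizer of a defect group: Brauer's first main theorem and its consequences
-/

set_option autoImplicit false
set_option linter.style.haveILetI false
set_option linter.unusedSectionVars false

namespace CfsgLib.Blocks

open Cfsg
open CfsgLib.BlockPairs (cj mem_cj cj_cj cj_mono card_cj isPGroup_cj)

universe u

variable {G : Type u} [Group G] [Fintype G] {p : ℕ} [Fact p.Prime] {M : Ideal AlgInt} [M.IsPrime]

/-- Central idempotents with the same central characters are equal. -/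
theorem idem_eq_of_omegaBar_eq {e f : Ctr (Res M) G} (he : e * e = e) (hf : f * f = f)
    (h : ∀ χ, omegaBar M χ e = omegaBar M χ f) : e = f := by
  have key : ∀ a b : Ctr (Res M) G, a * a = a → b * b = b →
      (∀ χ, omegaBar M χ a = omegaBar M χ b) → a * (1 - b) = 0 := by
    intro a b ha hb hab
    have hi : (a * (1 - b)) * (a * (1 - b)) = a * (1 - b) := by
      linear_combination (1 - b) * (1 - b) * ha + a * hb
    obtain ⟨n, hn⟩ := isNilpotent_of_omegaBar_eq_zero (a * (1 - b)) fun χ => by
      rw [map_mul, map_sub, map_one, hab, mul_sub, mul_one, ← map_mul, hb, sub_self]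
    have hpow : ∀ m, (a * (1 - b)) ^ (m + 1) = a * (1 - b) := fun m => by
      induction m with
      | zero => rw [zero_add, pow_one]
      | succ m ih => rw [pow_succ, ih, hi]
    rw [← hpow n, pow_succ, hn, zero_mul]
  linear_combination key e f he hf h - key f e hf he fun χ => (h χ).symm

theorem isPPart_subtype {H : Subgroup G} {h : H} {z : H} (hz : Cfsg.IsPPart p h z) :
    Cfsg.IsPPart p (h : G) (z : G) := by
  obtain ⟨y, hy, hc, ⟨k, hk⟩, hy'⟩ := hz
  exact ⟨y, by rw [← hy]; rfl, hc.map H.subtype, ⟨k, by rw [Subgroup.orderOf_coe, hk]⟩,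
    by rwa [Subgroup.orderOf_coe]⟩

variable {D : Subgroup G}

theorem mem_centralizer_subgroupOf_iff {H : Subgroup G} (hDH : D ≤ H) (n : H) :
    n ∈ Subgroup.centralizer ((D.subgroupOf H : Subgroup H) : Set H) ↔
      (n : G) ∈ Subgroup.centralizer (D : Set G) := by
  constructor
  · intro h
    exact Subgroup.mem_centralizer_iff.2 fun u hu =>
      congrArg Subtype.val (Subgroup.mem_centralizer_iff.1 h ⟨u, hDH hu⟩ hu)
  · intro h
    exact Subgroup.mem_centralizer_iff.2 fun u hu =>
      Subtype.ext (Subgroup.mem_centralizer_iff.1 h (u : G) hu)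

theorem isSylowIn_subgroupOf {H : Subgroup G} (hDH : D ≤ H) {n : H}
    (h : IsSylowIn p (Subgroup.centralizer ({n} : Set H)) (D.subgroupOf H)) :
    IsSylowIn p (Subgroup.centralizer ({(n : G)} : Set G) ⊓ H) D := by
  have e : (Subgroup.centralizer ({n} : Set H)).map H.subtype =
      Subgroup.centralizer ({(n : G)} : Set G) ⊓ H := by
    ext g
    constructor
    · rintro ⟨v, hv, rfl⟩
      exact ⟨Subgroup.mem_centralizer_singleton_iff.2
        (congrArg Subtype.val (Subgroup.mem_centralizer_singleton_iff.1 hv)), v.2⟩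
    · rintro ⟨hg, hgH⟩
      exact ⟨⟨g, hgH⟩, Subgroup.mem_centralizer_singleton_iff.2
        (Subtype.ext (Subgroup.mem_centralizer_singleton_iff.1 hg)), rfl⟩
  have e' : (D.subgroupOf H).map H.subtype = D := Subgroup.map_subgroupOf_eq_of_le hDH
  refine ⟨?_, ?_, ?_⟩
  · rw [← e, ← e']; exact Subgroup.map_mono h.1
  · rw [← e']; exact h.2.1.map _
  · rw [← e, ← e', Subgroup.relIndex_map_map_of_injective _ _ H.subtype_injective]
    exact h.2.2

open Classical in
/-- The Brauer map sends a class with defect group `D` to its class in the normalizer. -/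
theorem brRes_classSum {R : Type*} [CommRing R] (g : Subgroup.normalizer (D : Set G))
    (hg : IsSylowIn p (Subgroup.centralizer ({(g : G)} : Set G)) D) :
    brRes D (Subgroup.normalizer (D : Set G)) le_rfl (classSum R (ConjClasses.mk (g : G))) =
      classSum R (ConjClasses.mk g) := by
  have hgc : (g : G) ∈ Subgroup.centralizer (D : Set G) := le_centralizer_singleton_iff.1 hg.1
  refine ctr_ext fun h => ?_
  rw [coeff_classSum]
  by_cases hh : (h : G) ∈ Subgroup.centralizer (D : Set G)
  · rw [coeff_brRes_of_mem le_rfl _ hh, coeff_classSum]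
    suffices hiff : ConjClasses.mk (h : G) = ConjClasses.mk (g : G) ↔
        ConjClasses.mk h = ConjClasses.mk g by
      by_cases hm : ConjClasses.mk h = ConjClasses.mk g
      · rw [if_pos hm, if_pos (hiff.2 hm)]
      · rw [if_neg hm, if_neg (fun e => hm (hiff.1 e))]
    rw [ConjClasses.mk_eq_mk_iff_isConj, ConjClasses.mk_eq_mk_iff_isConj]
    refine ⟨fun hc => ?_, fun hc => MonoidHom.map_isConj (Subgroup.normalizer (D : Set G)).subtype hc⟩
    obtain ⟨x, hx⟩ := isConj_iff.1 hc.symm
    have hS : IsSylowIn p (Subgroup.centralizer ({(h : G)} : Set G)) D := by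
      have hxS := hg.conj x
      rw [← centralizer_singleton_conj, hx] at hxS
      obtain ⟨S, hS, hDS⟩ := exists_isSylowIn_ge hg.2.1 (le_centralizer_singleton_iff.2 hh)
      have : D = S := Subgroup.eq_of_le_of_card_ge hDS (le_of_eq (by
        rw [hS.card_eq, ← hxS.card_eq, Subgroup.card_map_of_injective
          (f := (MulAut.conj x).toMonoidHom) (MulAut.conj x).injective]))
      exact this ▸ hS
    obtain ⟨n, hn, hnh⟩ := exists_normalizer_conj hg hS hc.symm
    exact (isConj_iff.2 ⟨(⟨n, hn⟩ : Subgroup.normalizer (D : Set G)), Subtype.ext hnh⟩).symm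
  · rw [coeff_brRes_of_notMem le_rfl _ hh, if_neg]
    rw [ConjClasses.mk_eq_mk_iff_isConj]
    intro hc
    obtain ⟨n, rfl⟩ := isConj_iff.1 hc.symm
    exact hh (by
      push_cast
      exact (mem_centralizer_conj_iff n.2 (g : G)).2 hgc)

variable [Fintype (Subgroup.normalizer (D : Set G))]

theorem subgroupOf_normal (D : Subgroup G) :
    (D.subgroupOf (Subgroup.normalizer (D : Set G))).Normal :=
  (Subgroup.normal_subgroupOf_iff_le_normalizer Subgroup.le_normalizer).2 le_rfl

theorem le_defect_local (hM : Cfsg.IsPModular p M) (hD : IsPGroup p D)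
    {b : Set (IrrCharacter (Subgroup.normalizer (D : Set G)))} (hb : Cfsg.IsPBlock M b)
    {R : Subgroup (Subgroup.normalizer (D : Set G))} (hR : Cfsg.IsDefectGroup p M b R) :
    D.subgroupOf (Subgroup.normalizer (D : Set G)) ≤ R := by
  haveI := subgroupOf_normal D
  exact IsDefectGroup.le_of_normal hM hb hR _ hD.comap_subtype

/-- A block of the normalizer of `D` inducing a block with defect group `D` has defect group
`D`. -/
theorem defect_local_of_induced (hM : Cfsg.IsPModular p M) (hD : IsPGroup p D)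
    {b : Set (IrrCharacter (Subgroup.normalizer (D : Set G)))} {B : Set (IrrCharacter G)}
    (hind : Cfsg.IsInducedBlock M (Subgroup.normalizer (D : Set G)) b B)
    (hB : Cfsg.IsDefectGroup p M B D) :
    Cfsg.IsDefectGroup p M b (D.subgroupOf (Subgroup.normalizer (D : Set G))) := by
  obtain ⟨R, hR⟩ := exists_isDefectGroup (p := p) hind.1
  obtain ⟨E, hE, hle⟩ := IsDefectGroup.exists_le_of_induced hM hind hR
  obtain ⟨x, rfl⟩ := IsDefectGroup.exists_conj hM hind.2.1 hB hE
  have h1 := le_defect_local hM hD hind.1 hR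
  suffices D.subgroupOf (Subgroup.normalizer (D : Set G)) = R by rwa [this]
  refine Subgroup.eq_of_le_of_card_ge h1 ?_
  rw [Nat.card_congr (Subgroup.subgroupOfEquivOfLe Subgroup.le_normalizer).toEquiv,
    ← Subgroup.card_map_of_injective (f := (Subgroup.normalizer (D : Set G)).subtype)
      (Subgroup.normalizer (D : Set G)).subtype_injective]
  exact (Subgroup.card_le_of_le hle).trans_eq (card_cj x D)

theorem exists_induced_local (hM : Cfsg.IsPModular p M) (hD : IsPGroup p D)
    (ξ : IrrCharacter (Subgroup.normalizer (D : Set G))) :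
    ∃ B, Cfsg.IsInducedBlock M (Subgroup.normalizer (D : Set G)) (Cfsg.blockOf M (ξ : _ → ℂ)) B :=
  inducedBlockDefined_of_local hM hD Subgroup.le_normalizer
    (Subgroup.centralizer_le_normalizer _) le_rfl (isPBlock_blockOf ξ)

theorem omegaBar_brRes_eq (hM : Cfsg.IsPModular p M) (hD : IsPGroup p D)
    {b : Set (IrrCharacter (Subgroup.normalizer (D : Set G)))} {B : Set (IrrCharacter G)}
    (hind : Cfsg.IsInducedBlock M (Subgroup.normalizer (D : Set G)) b B)
    {ξ : IrrCharacter (Subgroup.normalizer (D : Set G))} (hξ : ξ ∈ b) {χ : IrrCharacter G}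
    (hχ : χ ∈ B) (a : Ctr (Res M) G) :
    omegaBar M ξ (brRes D (Subgroup.normalizer (D : Set G)) le_rfl a) = omegaBar M χ a := by
  rw [← omegaBar_resCtr_eq_brRes hM hD Subgroup.le_normalizer le_rfl]
  exact (isInducedBlock_iff _ hind.1 hind.2.1 hξ hχ).1 hind a

/-- Classes in the support of a block of the normalizer with defect group `D` have defect group
`D`. -/
theorem isSylowIn_of_support (hM : Cfsg.IsPModular p M) (hD : IsPGroup p D)
    {b : Set (IrrCharacter (Subgroup.normalizer (D : Set G)))} (hb : Cfsg.IsPBlock M b)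
    (hbD : Cfsg.IsDefectGroup p M b (D.subgroupOf (Subgroup.normalizer (D : Set G))))
    {n : Subgroup.normalizer (D : Set G)}
    (hn : (idemBar M b (isBlockUnion_of_isPBlock hb) : MonoidAlgebra (Res M) _).coeff n ≠ 0) :
    IsSylowIn p (Subgroup.centralizer ({(n : G)} : Set G)) D := by
  haveI := subgroupOf_normal D
  set DN := D.subgroupOf (Subgroup.normalizer (D : Set G))
  have hDN : IsPGroup p DN := hD.comap_subtype
  have hnc : n ∈ Subgroup.centralizer (DN : Set (Subgroup.normalizer (D : Set G))) := by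
    by_contra h
    exact hn (coeff_idemBar_eq_zero_of_notMem_centralizer hM _ DN hDN h)
  obtain ⟨S, hS, hDS⟩ := exists_isSylowIn_ge hDN (le_centralizer_singleton_iff.2 hnc)
  obtain ⟨x, hx⟩ := IsDefectGroup.domBy hM hb hbD S hS.2.1 n (le_centralizer_singleton_iff.1 hS.1) hn
  have : DN = S := Subgroup.eq_of_le_of_card_ge hDS ((card_cj x S).symm.le.trans
    (Subgroup.card_le_of_le hx))
  rw [← this] at hS
  exact isSylowIn_of_inf_normalizer (isSylowIn_subgroupOf Subgroup.le_normalizer hS)

/-- A block of the normalizer with defect group `D` induces a block with defect group `D`. -/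
theorem defect_of_local (hM : Cfsg.IsPModular p M) (hD : IsPGroup p D)
    {b : Set (IrrCharacter (Subgroup.normalizer (D : Set G)))} {B : Set (IrrCharacter G)}
    (hind : Cfsg.IsInducedBlock M (Subgroup.normalizer (D : Set G)) b B)
    (hbD : Cfsg.IsDefectGroup p M b (D.subgroupOf (Subgroup.normalizer (D : Set G)))) :
    Cfsg.IsDefectGroup p M B D := by
  classical
  haveI := charP_res hM
  obtain ⟨ξ, hξ⟩ := isPBlock_nonempty hind.1
  obtain ⟨χ, hχ⟩ := isPBlock_nonempty hind.2.1
  obtain ⟨n, hn, -⟩ := isDefectGroup_iff.1 hbD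
  obtain ⟨hn1, hn2⟩ := (isDefectClass_iff hind.1 hξ n).1 hn
  have hS := isSylowIn_of_support hM hD hind.1 hbD hn1
  rw [← brRes_classSum n hS, omegaBar_brRes_eq hM hD hind hξ hχ] at hn2
  have hdom := domBy_idemBar hM hind.2.1 hχ hn2 hS
  have h1 := omegaBar_brRes_eq hM hD hind hξ hχ (idemBar M B (isBlockUnion_of_isPBlock hind.2.1))
  rw [omegaBar_idemBar, if_pos hχ] at h1
  set w := brRes D (Subgroup.normalizer (D : Set G)) le_rfl
    (idemBar M B (isBlockUnion_of_isPBlock hind.2.1)) with hw
  obtain ⟨v, hv⟩ : ∃ v : Subgroup.normalizer (D : Set G),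
      (w : MonoidAlgebra (Res M) (Subgroup.normalizer (D : Set G))).coeff v ≠ 0 := by
    by_contra hcon
    simp only [not_exists, not_not] at hcon
    have hw0 : w = 0 := ctr_ext fun v => by rw [hcon v]; rfl
    rw [hw0, map_zero] at h1
    exact zero_ne_one h1
  rw [hw] at hv
  have hvc : (v : G) ∈ Subgroup.centralizer (D : Set G) := by
    by_contra h
    exact hv (coeff_brRes_of_notMem le_rfl _ h)
  rw [coeff_brRes_of_mem le_rfl _ hvc] at hv
  exact isDefectGroup_of_domBy hM hind.2.1 hD hdom hvc hv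

/-- A block with defect group `D` is induced from the normalizer. -/
theorem exists_local_block (hM : Cfsg.IsPModular p M) (hD : IsPGroup p D)
    {B : Set (IrrCharacter G)} (hB : Cfsg.IsPBlock M B) (hBD : Cfsg.IsDefectGroup p M B D) :
    ∃ b, Cfsg.IsInducedBlock M (Subgroup.normalizer (D : Set G)) b B := by
  classical
  haveI := charP_res hM
  set φ := brHom (F := Res M) D (Subgroup.normalizer (D : Set G)) hD
    (Subgroup.centralizer_le_normalizer _) le_rfl
  set f := idemBar M B (isBlockUnion_of_isPBlock hB)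
  have hφ : φ f * φ f = φ f := by rw [← map_mul, idemBar_mul_self]
  obtain ⟨ξ, hξ⟩ : ∃ ξ, omegaBar M ξ (φ f) ≠ 0 := by
    by_contra hcon
    simp only [not_exists, not_not] at hcon
    have h0 := idem_eq_of_omegaBar_eq hφ (zero_mul (0 : Ctr (Res M) _))
      fun ξ => by rw [hcon ξ, map_zero]
    obtain ⟨g, hg, hne⟩ := IsDefectGroup.exists_coeff hB hBD
    refine hne ?_
    let gN : Subgroup.normalizer (D : Set G) := ⟨g, Subgroup.centralizer_le_normalizer _ hg⟩
    have := congrArg (fun a : Ctr (Res M) (Subgroup.normalizer (D : Set G)) =>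
      (a : MonoidAlgebra (Res M) (Subgroup.normalizer (D : Set G))).coeff gN) h0
    simp only [φ, brHom_apply,
      coeff_brRes_of_mem le_rfl _ (show (gN : G) ∈ _ from hg)] at this
    simpa using this
  obtain ⟨B', hB'⟩ := exists_induced_local hM hD ξ
  obtain ⟨χ', hχ'⟩ := isPBlock_nonempty hB'.2.1
  rw [brHom_apply, omegaBar_brRes_eq hM hD hB' (mem_blockOf_self ξ) hχ', omegaBar_idemBar] at hξ
  by_cases hm : χ' ∈ B
  · exact ⟨_, by rwa [isPBlock_eq_of_mem hB hB'.2.1 hm hχ']⟩
  · exact absurd (if_neg hm) hξ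

/-- Blocks of the normalizer with defect group `D` inducing the same block are equal. -/
theorem local_block_unique (hM : Cfsg.IsPModular p M) (hD : IsPGroup p D)
    {b b' : Set (IrrCharacter (Subgroup.normalizer (D : Set G)))} {B : Set (IrrCharacter G)}
    (h : Cfsg.IsInducedBlock M (Subgroup.normalizer (D : Set G)) b B)
    (h' : Cfsg.IsInducedBlock M (Subgroup.normalizer (D : Set G)) b' B)
    (hbD : Cfsg.IsDefectGroup p M b (D.subgroupOf (Subgroup.normalizer (D : Set G)))) : b = b' := by
  classical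
  obtain ⟨ξ, hξ⟩ := isPBlock_nonempty h.1
  obtain ⟨ξ', hξ'⟩ := isPBlock_nonempty h'.1
  obtain ⟨χ, hχ⟩ := isPBlock_nonempty h.2.1
  haveI := Fintype.ofFinite (ConjClasses (Subgroup.normalizer (D : Set G)))
  set e := idemBar M b (isBlockUnion_of_isPBlock h.1)
  have key : omegaBar M ξ e = omegaBar M ξ' e := by
    rw [eq_sum_classSum e, map_sum, map_sum]
    refine Finset.sum_congr rfl fun C _ => ?_
    rw [map_mul, map_mul, omegaBar_scalar, omegaBar_scalar]
    obtain ⟨n, rfl⟩ := ConjClasses.mk_surjective C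
    rw [classCoeff_mk]
    by_cases hn : (e : MonoidAlgebra (Res M) _).coeff n = 0
    · rw [hn, zero_mul, zero_mul]
    · rw [← brRes_classSum n (isSylowIn_of_support hM hD h.1 hbD hn),
        omegaBar_brRes_eq hM hD h hξ hχ, omegaBar_brRes_eq hM hD h' hξ' hχ]
  rw [omegaBar_idemBar, omegaBar_idemBar, if_pos hξ] at key
  by_cases hm : ξ' ∈ b
  · exact isPBlock_eq_of_mem h.1 h'.1 hm hξ'
  · rw [if_neg hm] at key
    exact absurd key one_ne_zero

omit [Fintype (Subgroup.normalizer (D : Set G))] in
/-- A class with nonzero central character contains an element centralizing the defect group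
whose p-part lies in it. -/
theorem exists_conj_centralizing (hM : Cfsg.IsPModular p M) {B : Set (IrrCharacter G)}
    (hB : Cfsg.IsPBlock M B) (hBD : Cfsg.IsDefectGroup p M B D) {χ : IrrCharacter G} (hχ : χ ∈ B)
    {g : G} (hg : omegaBar M χ (classSum _ (ConjClasses.mk g)) ≠ 0) :
    ∃ x : G, IsConj g x ∧ x ∈ Subgroup.centralizer (D : Set G) ∧
      ∀ z : G, Cfsg.IsPPart p x z → z ∈ D ∧ ∀ w ∈ D, z * w = w * z := by
  classical
  haveI := Fintype.ofFinite (Subgroup.normalizer (D : Set G))
  have hD := IsDefectGroup.isPGroup hBD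
  obtain ⟨b, hind⟩ := exists_local_block hM hD hB hBD
  have hbD := defect_local_of_induced hM hD hind hBD
  obtain ⟨ξ, hξ⟩ := isPBlock_nonempty hind.1
  rw [← omegaBar_brRes_eq hM hD hind hξ hχ] at hg
  haveI := Fintype.ofFinite (ConjClasses (Subgroup.normalizer (D : Set G)))
  rw [eq_sum_classSum (brRes D (Subgroup.normalizer (D : Set G)) le_rfl _), map_sum] at hg
  obtain ⟨C, -, hC⟩ := Finset.exists_ne_zero_of_sum_ne_zero hg
  obtain ⟨n, rfl⟩ := ConjClasses.mk_surjective C
  rw [map_mul, omegaBar_scalar, mul_ne_zero_iff, classCoeff_mk] at hC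
  obtain ⟨hc1, hc2⟩ := hC
  have hnc : (n : G) ∈ Subgroup.centralizer (D : Set G) := by
    by_contra h
    exact hc1 (coeff_brRes_of_notMem le_rfl _ h)
  rw [coeff_brRes_of_mem le_rfl _ hnc, coeff_classSum] at hc1
  have hgn : IsConj g (n : G) := by
    rw [← ConjClasses.mk_eq_mk_iff_isConj]
    by_contra hne
    exact hc1 (if_neg fun e => hne e.symm)
  refine ⟨n, hgn, hnc, fun z hz => ?_⟩
  obtain ⟨i, hi⟩ := isPPart_mem_zpowers (Fact.out : p.Prime) hz
  dsimp only at hi
  refine ⟨?_, fun w hw => ?_⟩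
  · obtain ⟨z', hz'⟩ := exists_isPPart (Fact.out : p.Prime) n
    have hzz : z = (z' : G) := isPPart_unique (Fact.out : p.Prime) hz (isPPart_subtype hz')
    by_contra hzD
    have h0 : (ξ : _ → ℂ) n = 0 := by
      refine char_eq_zero_of_not_mem_defectGroup hM ξ hz' fun R hR hzR => hzD ?_
      rw [← eq_blockOf_of_mem hind.1 hξ] at hR
      obtain ⟨x, rfl⟩ := IsDefectGroup.exists_conj hM hind.1 hbD hR
      haveI := subgroupOf_normal D
      rw [BlockPairs.cj_eq_self (x := x) (Subgroup.normalizer_eq_top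
        (H := D.subgroupOf (Subgroup.normalizer (D : Set G))) ▸ Subgroup.mem_top x)] at hzR
      rw [hzz]; exact hzR
    refine (not_memLocalIdeal_centralChar_iff ξ n).2 hc2 ?_
    rw [centralChar_eq, h0, mul_zero, zero_div]
    exact memLocalIdeal_zero
  · rw [← hi]
    exact ((show Commute w (n : G) from Subgroup.mem_centralizer_iff.1 hnc w hw).zpow_right i).eq.symm

omit [Fintype (Subgroup.normalizer (D : Set G))] in
/-- The centre of a defect group of an induced block is conjugate into the centre of a defect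
group of the inducing block. -/
theorem exists_conj_center (hM : Cfsg.IsPModular p M) {H : Subgroup G}
    {b : Set (IrrCharacter H)} {B : Set (IrrCharacter G)} (hind : Cfsg.IsInducedBlock M H b B)
    {R : Subgroup H} (hR : Cfsg.IsDefectGroup p M b R) (hBD : Cfsg.IsDefectGroup p M B D)
    {x : G} (hx : x ∈ D) (hxc : ∀ w ∈ D, x * w = w * x) :
    ∃ g : G, g * x * g⁻¹ ∈ R.map H.subtype ∧
      ∀ w ∈ R.map H.subtype, (g * x * g⁻¹) * w = w * (g * x * g⁻¹) := by
  haveI := Fintype.ofFinite H
  obtain ⟨χ, hχ⟩ := isPBlock_nonempty hind.2.1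
  obtain ⟨ξ, hξ⟩ := isPBlock_nonempty hind.1
  obtain ⟨y, hy, hS⟩ := isDefectGroup_iff.1 hBD
  have hne := omegaBar_mul_ne_zero hM hind.2.1 hy hS hx hxc hχ
  rw [← (isInducedBlock_iff H hind.1 hind.2.1 hξ hχ).1 hind] at hne
  obtain ⟨k, hk, hk'⟩ := exists_class_of_resCtr_ne_zero ξ hne
  obtain ⟨k', hkk', -, hz⟩ := exists_conj_centralizing hM hind.1 hR hξ hk'
  obtain ⟨z, hz'⟩ := exists_isPPart (Fact.out : p.Prime) k'
  obtain ⟨hzR, hzc⟩ := hz z hz'
  have hconj : IsConj (x * y) (k' : G) := hk.trans (MonoidHom.map_isConj H.subtype hkk')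
  obtain ⟨g, hg⟩ := isConj_iff.1 hconj
  have hxo : ∃ j, orderOf x = p ^ j := by
    obtain ⟨j, hj⟩ := IsPGroup.iff_orderOf.1 (IsDefectGroup.isPGroup hBD) ⟨x, hx⟩
    exact ⟨j, by rwa [Subgroup.orderOf_mk] at hj⟩
  have h1 := isPPart_conj (isPPart_of_mul
    (show Commute x y from Subgroup.mem_centralizer_singleton_iff.1 (hS.1 hx)) hxo
    (regular_of_isDefectClass hM hind.2.1 hy)) g
  rw [hg] at h1
  refine ⟨g, ?_, ?_⟩ <;> rw [isPPart_unique (Fact.out : p.Prime) h1 (isPPart_subtype hz')]
  · exact ⟨z, hzR, rfl⟩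
  · rintro _ ⟨w, hw, rfl⟩
    exact congrArg Subtype.val (hzc w hw)

omit [Fintype (Subgroup.normalizer (D : Set G))] in
/-- Defect zero is preserved and reflected by induction of blocks. -/
theorem blockDefect_zero_iff (hM : Cfsg.IsPModular p M) {H : Subgroup G}
    {b : Set (IrrCharacter H)} {B : Set (IrrCharacter G)} (hind : Cfsg.IsInducedBlock M H b B) :
    Cfsg.blockDefect p b = 0 ↔ Cfsg.blockDefect p B = 0 := by
  haveI := Fintype.ofFinite H
  obtain ⟨R, hR⟩ := exists_isDefectGroup (p := p) hind.1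
  obtain ⟨P, hP⟩ := exists_isDefectGroup (p := p) hind.2.1
  have h1 := card_defectGroup hM hind.1 hR
  have h2 := card_defectGroup hM hind.2.1 hP
  constructor
  · intro h0
    rw [h0, pow_zero, Subgroup.card_eq_one] at h1
    by_contra hne
    haveI : Nontrivial P := by
      rw [← Finite.one_lt_card_iff_nontrivial, h2]
      exact Nat.one_lt_pow hne (Fact.out : p.Prime).one_lt
    haveI := (IsDefectGroup.isPGroup hP).center_nontrivial
    obtain ⟨c, hc⟩ := exists_ne (1 : Subgroup.center P)
    obtain ⟨g, hg, -⟩ := exists_conj_center hM hind hR hP (c : P).2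
      fun w hw => congrArg Subtype.val (Subgroup.mem_center_iff.1 c.2 ⟨w, hw⟩).symm
    rw [h1, Subgroup.map_bot, Subgroup.mem_bot, conj_eq_one_iff] at hg
    exact hc (Subtype.ext (Subtype.ext hg))
  · intro h0
    rw [h0, pow_zero, Subgroup.card_eq_one] at h2
    obtain ⟨E, hE, hle⟩ := IsDefectGroup.exists_le_of_induced hM hind hR
    obtain ⟨a, rfl⟩ := IsDefectGroup.exists_conj hM hind.2.1 hP hE
    have hbot : R.map H.subtype = ⊥ := by
      rw [h2] at hle
      simpa [BlockPairs.cj] using hle
    rw [Subgroup.map_eq_bot_iff, Subgroup.ker_subtype, le_bot_iff] at hbot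
    rw [hbot, Subgroup.card_bot] at h1
    exact (Nat.pow_eq_one.1 h1.symm).resolve_left (Fact.out : p.Prime).ne_one

end CfsgLib.Blocks
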