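import Cfsg.Agent.Blocks.LocalRing
import Cfsg.Agent.Characters.Orthogonality
import Mathlib.GroupTheory.GroupAction.ConjAct
import Mathlib.GroupTheory.GroupAction.Quotient
import Mathlib.RingTheory.IntegralClosure.IsIntegralClosure.Basic
import Mathlib.RingTheory.Noetherian.Basic
import Mathlib.Algebra.Group.Conj
import Mathlib.GroupTheory.CommutingProbability

/-!
# Centres of group algebras and central characters

`Ctr R G` is the centre of `MonoidAlgebra R G`; `classSum R C` is the sum of a conjugacy class.
`omega χ : Ctr ℂ G →+* ℂ` is the central character of an irreducible character, `omegaO` its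
restriction to the centre of the group algebra over the local ring at `M`, with values in the
local ring, and `omegaBar` the induced map on the centre over the residue field.
-/

set_option autoImplicit false
set_option linter.style.haveILetI false
set_option linter.unusedSectionVars false

namespace CfsgLib.Blocks

open Cfsg
open scoped ComplexConjugate

universe u

/-- The centre of the group algebra. -/
noncomputable abbrev Ctr (R : Type*) [CommRing R] (G : Type*) [Group G] : Subring (MonoidAlgebra R G) :=
  Subring.center (MonoidAlgebra R G)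

section General

variable {R : Type*} [CommRing R] {S : Type*} [CommRing S] {G : Type u} [Group G]

theorem coeff_conj_of_mem_ctr {a : MonoidAlgebra R G} (ha : a ∈ Ctr R G) (g h : G) :
    a.coeff (h * g * h⁻¹) = a.coeff g := by
  have := congrArg (fun b : MonoidAlgebra R G => b.coeff (h * g))
    (Subring.mem_center_iff.1 ha (MonoidAlgebra.single h 1))
  simpa [mul_assoc] using this.symm

theorem coeff_eq_of_isConj {a : MonoidAlgebra R G} (ha : a ∈ Ctr R G) {g h : G}
    (hgh : IsConj g h) : a.coeff g = a.coeff h := by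
  obtain ⟨c, rfl⟩ := isConj_iff.1 hgh
  exact (coeff_conj_of_mem_ctr ha g c).symm

theorem mem_ctr_iff {a : MonoidAlgebra R G} :
    a ∈ Ctr R G ↔ ∀ g h : G, a.coeff (h * g * h⁻¹) = a.coeff g := by
  refine ⟨coeff_conj_of_mem_ctr, fun ha => Subring.mem_center_iff.2 fun b => ?_⟩
  induction b using MonoidAlgebra.induction_linear with
  | zero => simp
  | add x y hx hy => rw [add_mul, mul_add, hx, hy]
  | single g r =>
    ext x
    rw [MonoidAlgebra.coeff_single_mul_apply, MonoidAlgebra.coeff_mul_single_apply,
      mul_comm r, ← ha (g⁻¹ * x) g]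
    congr 2
    group

theorem single_one_mem_ctr (r : R) : MonoidAlgebra.single (1 : G) r ∈ Ctr R G :=
  Subring.mem_center_iff.2 fun b => (MonoidAlgebra.single_one_comm r b).symm

/-- Scalars, as central elements. -/
noncomputable def scalar : R →+* Ctr R G :=
  (MonoidAlgebra.singleOneRingHom (R := R) (M := G)).codRestrict _ single_one_mem_ctr

@[simp] theorem coe_scalar (r : R) :
    ((scalar r : Ctr R G) : MonoidAlgebra R G) = MonoidAlgebra.single 1 r := rfl

theorem map_mem_ctr (f : R →+* S) {a : MonoidAlgebra R G} (ha : a ∈ Ctr R G) :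
    MonoidAlgebra.mapRingHom G f a ∈ Ctr S G :=
  mem_ctr_iff.2 fun g h => by simp [coeff_conj_of_mem_ctr ha]

/-- The map of centres induced by a ring homomorphism. -/
noncomputable def mapCtr (f : R →+* S) : Ctr R G →+* Ctr S G :=
  ((MonoidAlgebra.mapRingHom G f).comp (Ctr R G).subtype).codRestrict _
    fun a => map_mem_ctr f a.2

@[simp] theorem coeff_mapCtr (f : R →+* S) (a : Ctr R G) (g : G) :
    (mapCtr f a : MonoidAlgebra S G).coeff g = f ((a : MonoidAlgebra R G).coeff g) := by
  simp [mapCtr]

theorem ctr_ext {a b : Ctr R G}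
    (h : ∀ g, (a : MonoidAlgebra R G).coeff g = (b : MonoidAlgebra R G).coeff g) : a = b :=
  Subtype.ext (MonoidAlgebra.ext (Finsupp.ext h))

theorem mapCtr_injective (f : R →+* S) (hf : Function.Injective f) :
    Function.Injective (mapCtr (G := G) f) := fun a b h => ctr_ext fun g => hf (by
  rw [← coeff_mapCtr, ← coeff_mapCtr, h])

theorem mapCtr_scalar (f : R →+* S) (r : R) :
    mapCtr (G := G) f (scalar r) = scalar (f r) := by
  apply Subtype.ext; simp [mapCtr]

variable [Finite G]

/-- An element of the group algebra given by its coefficients. -/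
noncomputable def ofFun (f : G → R) : MonoidAlgebra R G :=
  MonoidAlgebra.ofCoeff (Finsupp.equivFunOnFinite.symm f)

@[simp] theorem coeff_ofFun (f : G → R) (g : G) : (ofFun f).coeff g = f g := by
  simp [ofFun]

theorem coeff_mul_eq_sum [Fintype G] (a b : MonoidAlgebra R G) (c : G) :
    (a * b).coeff c = ∑ x : G, a.coeff x * b.coeff (x⁻¹ * c) := by
  rw [MonoidAlgebra.coeff_mul_apply_left, Finsupp.sum_fintype]
  simp

open Classical in
/-- The class sum of a conjugacy class. -/
noncomputable def classSum (R : Type*) [CommRing R] (C : ConjClasses G) : Ctr R G :=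
  ⟨ofFun fun x => if ConjClasses.mk x = C then 1 else 0, mem_ctr_iff.2 fun g h => by
    simp only [coeff_ofFun]
    rw [show ConjClasses.mk (h * g * h⁻¹) = ConjClasses.mk g from
      (ConjClasses.mk_eq_mk_iff_isConj.2 (isConj_iff.2 ⟨h, rfl⟩)).symm]⟩

open Classical in
theorem coeff_classSum (C : ConjClasses G) (x : G) :
    (classSum R C : MonoidAlgebra R G).coeff x = if ConjClasses.mk x = C then 1 else 0 := by
  simp [classSum]

theorem mapCtr_classSum (f : R →+* S) (C : ConjClasses G) :
    mapCtr f (classSum R C) = classSum S C := ctr_ext fun g => by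
  classical
  simp [coeff_classSum, apply_ite f]

/-- The coefficient of a central element on a class. -/
noncomputable def classCoeff (a : Ctr R G) (C : ConjClasses G) : R :=
  (a : MonoidAlgebra R G).coeff (Quotient.out C)

theorem classCoeff_mk (a : Ctr R G) (g : G) :
    classCoeff a (ConjClasses.mk g) = (a : MonoidAlgebra R G).coeff g :=
  coeff_eq_of_isConj a.2 (ConjClasses.mk_eq_mk_iff_isConj.1 (Quotient.out_eq _))

theorem eq_sum_classSum [Fintype (ConjClasses G)] (a : Ctr R G) :
    a = ∑ C : ConjClasses G, scalar (classCoeff a C) * classSum R C := by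
  classical
  refine ctr_ext fun g => ?_
  rw [AddSubmonoidClass.coe_finsetSum, MonoidAlgebra.coeff_sum, Finsupp.finsetSum_apply,
    Finset.sum_eq_single (ConjClasses.mk g)]
  · simp [coeff_classSum, classCoeff_mk]
  · intro C _ hC; simp [coeff_classSum, hC.symm]
  · simp

theorem mapCtr_surjective (f : R →+* S) (hf : Function.Surjective f) :
    Function.Surjective (mapCtr (G := G) f) := by
  intro b
  haveI := Fintype.ofFinite (ConjClasses G)
  choose r hr using fun C => hf (classCoeff b C)
  refine ⟨∑ C : ConjClasses G, scalar (r C) * classSum R C, ?_⟩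
  rw [map_sum, eq_sum_classSum b]
  exact Finset.sum_congr rfl fun C _ => by rw [map_mul, mapCtr_scalar, mapCtr_classSum, hr]

theorem natCard_class (g : G) :
    Nat.card {x : G // ConjClasses.mk x = ConjClasses.mk g} =
      (Subgroup.centralizer ({g} : Set G)).index := by
  have h : (Subgroup.centralizer ({g} : Set G)).index =
      (MulAction.stabilizer (ConjAct G) g).index := by
    rw [ConjAct.stabilizer_eq_centralizer]
    exact (Subgroup.index_comap_of_surjective (f := (ConjAct.ofConjAct (G := G)).toMonoidHom) _
      (ConjAct.ofConjAct (G := G)).surjective).symm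
  rw [h, MulAction.index_stabilizer, ← Nat.card_coe_set_eq]
  refine Nat.card_congr (Equiv.setCongr ?_)
  ext x
  rw [ConjAct.mem_orbit_conjAct, ← ConjClasses.mk_eq_mk_iff_isConj]
  rfl

end General

/-! ### Central characters -/

section Omega

variable {G : Type u} [Group G] [Fintype G]

/-- A function on the group extended linearly to the group algebra. -/
noncomputable def evalFun (θ : G → ℂ) (a : MonoidAlgebra ℂ G) : ℂ := ∑ g : G, a.coeff g * θ g

theorem evalFun_add (θ : G → ℂ) (a b : MonoidAlgebra ℂ G) :
    evalFun θ (a + b) = evalFun θ a + evalFun θ b := by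
  simp [evalFun, add_mul, Finset.sum_add_distrib]

theorem trace_asAlgebraHom {V : Type*} [AddCommGroup V] [Module ℂ V] [FiniteDimensional ℂ V]
    (ρ : Representation ℂ G V) (a : MonoidAlgebra ℂ G) :
    LinearMap.trace ℂ V (ρ.asAlgebraHom a) = evalFun ρ.character a := by
  induction a using MonoidAlgebra.induction_linear with
  | zero => simp [evalFun]
  | add x y hx hy => rw [map_add, map_add, hx, hy, evalFun_add]
  | single g r =>
    rw [evalFun, Finset.sum_eq_single g]
    · simp [Representation.character]
    · intro b _ hb; simp [hb.symm]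
    · simp

theorem exists_scalar_of_mem_ctr {V : Type*} [AddCommGroup V] [Module ℂ V] [FiniteDimensional ℂ V]
    (ρ : Representation ℂ G V) [ρ.IsIrreducible] (z : Ctr ℂ G) :
    ∃ c : ℂ, ρ.asAlgebraHom (z : MonoidAlgebra ℂ G) = c • LinearMap.id := by
  refine Characters.schur_scalar ρ _ fun g x => ?_
  rw [← Module.End.mul_apply, ← Representation.asAlgebraHom_single_one ρ g, ← map_mul,
    ← Subring.mem_center_iff.1 z.2 (MonoidAlgebra.single g 1), map_mul, Module.End.mul_apply]

theorem evalFun_mul_div (χ : IrrCharacter G) (z : Ctr ℂ G) (w : MonoidAlgebra ℂ G) :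
    evalFun (χ : G → ℂ) ((z : MonoidAlgebra ℂ G) * w) =
      evalFun (χ : G → ℂ) z / (χ : G → ℂ) 1 * evalFun (χ : G → ℂ) w := by
  obtain ⟨n, ρ, hρ, h⟩ := χ.2
  obtain ⟨c, hc⟩ := exists_scalar_of_mem_ctr ρ z
  have h1 := Characters.irr_one_ne_zero χ.2
  rw [← h] at h1 ⊢
  have hz : evalFun ρ.character z = c * ρ.character 1 := by
    rw [← trace_asAlgebraHom, hc, map_smul, smul_eq_mul, Representation.character, map_one]
    rfl
  rw [hz, mul_div_assoc, div_self h1, mul_one, ← trace_asAlgebraHom, map_mul, hc,
    smul_mul_assoc, map_smul, smul_eq_mul, ← trace_asAlgebraHom]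
  rfl

theorem evalFun_one (θ : G → ℂ) : evalFun θ 1 = θ 1 := by
  rw [evalFun, Finset.sum_eq_single (1 : G)]
  · simp [MonoidAlgebra.one_def]
  · intro b _ hb; simp [MonoidAlgebra.one_def, hb]
  · simp

/-- The central character of an irreducible character. -/
noncomputable def omega (χ : IrrCharacter G) : Ctr ℂ G →+* ℂ where
  toFun z := evalFun (χ : G → ℂ) z / (χ : G → ℂ) 1
  map_zero' := by simp [evalFun]
  map_one' := by
    rw [Subring.coe_one, evalFun_one, div_self (Characters.irr_one_ne_zero χ.2)]
  map_add' a b := by rw [Subring.coe_add, evalFun_add, add_div]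
  map_mul' a b := by
    rw [Subring.coe_mul, evalFun_mul_div]
    ring

theorem omega_apply (χ : IrrCharacter G) (z : Ctr ℂ G) :
    omega χ z = (∑ g : G, (z : MonoidAlgebra ℂ G).coeff g * (χ : G → ℂ) g) / (χ : G → ℂ) 1 :=
  rfl

/-- A central element acts on any element through its central character. -/
theorem evalFun_central_mul (χ : IrrCharacter G) (z : Ctr ℂ G) (w : MonoidAlgebra ℂ G) :
    evalFun (χ : G → ℂ) ((z : MonoidAlgebra ℂ G) * w) = omega χ z * evalFun (χ : G → ℂ) w :=
  evalFun_mul_div χ z w

theorem omega_classSum (χ : IrrCharacter G) (g : G) :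
    omega χ (classSum ℂ (ConjClasses.mk g)) = Cfsg.centralChar (χ : G → ℂ) g := by
  classical
  have : ∀ x : G, (classSum ℂ (ConjClasses.mk g) : MonoidAlgebra ℂ G).coeff x * (χ : G → ℂ) x =
      if ConjClasses.mk x = ConjClasses.mk g then (χ : G → ℂ) g else 0 := by
    intro x
    rw [coeff_classSum]
    split_ifs with h
    · rw [one_mul]
      exact (Characters.classFunction_isConj (Characters.isClassFunction_of_isIrr χ.2)
        (ConjClasses.mk_eq_mk_iff_isConj.1 h))
    · rw [zero_mul]
  rw [omega_apply, Finset.sum_congr rfl fun x _ => this x, ← Finset.sum_filter, Finset.sum_const,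
    nsmul_eq_mul, Cfsg.centralChar, ← natCard_class, Nat.card_eq_fintype_card,
    Fintype.card_subtype]

theorem omega_scalar (χ : IrrCharacter G) (c : ℂ) : omega χ (scalar c) = c := by
  rw [omega_apply, Finset.sum_eq_single (1 : G)]
  · simp [Characters.irr_one_ne_zero χ.2]
  · intro b _ hb; simp [hb.symm]
  · simp

/-- A central element is determined by its central characters. -/
theorem coeff_eq_sum_omega (z : Ctr ℂ G) (g : G) :
    (z : MonoidAlgebra ℂ G).coeff g =
      (Nat.card G : ℂ)⁻¹ * ∑ χ : IrrCharacter G,
        (χ : G → ℂ) 1 * omega χ z * conj ((χ : G → ℂ) g) := by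
  classical
  have h1 : ∀ χ : IrrCharacter G, (χ : G → ℂ) 1 * omega χ z * conj ((χ : G → ℂ) g) =
      ∑ x : G, (z : MonoidAlgebra ℂ G).coeff x * ((χ : G → ℂ) x * conj ((χ : G → ℂ) g)) := by
    intro χ
    rw [omega_apply, mul_div_cancel₀ _ (Characters.irr_one_ne_zero χ.2), Finset.sum_mul]
    exact Finset.sum_congr rfl fun x _ => mul_assoc _ _ _
  rw [Finset.sum_congr rfl fun χ _ => h1 χ, Finset.sum_comm]
  simp only [← Finset.mul_sum]
  have h2 : ∀ x : G, (z : MonoidAlgebra ℂ G).coeff x *
      ∑ χ : IrrCharacter G, (χ : G → ℂ) x * conj ((χ : G → ℂ) g) =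
      (z : MonoidAlgebra ℂ G).coeff g * (Nat.card {c : G // c * x * c⁻¹ = g} : ℂ) := by
    intro x
    rw [Characters.sum_irr_mul_conj]
    rcases isEmpty_or_nonempty {c : G // c * x * c⁻¹ = g} with h | ⟨⟨c, hc⟩⟩
    · simp
    · rw [← hc, coeff_conj_of_mem_ctr z.2]
  rw [Finset.sum_congr rfl fun x _ => h2 x, ← Finset.mul_sum, ← Nat.cast_sum, ← Nat.card_sigma,
    Nat.card_congr (⟨fun x => x.2.1, fun c => ⟨c⁻¹ * g * c, c, by group⟩,
      fun ⟨x, c, hc⟩ => by subst hc; refine Sigma.subtype_ext ?_ rfl; dsimp only; group,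
      fun c => rfl⟩ : (Σ x : G, {c : G // c * x * c⁻¹ = g}) ≃ G)]
  field_simp [Characters.natCard_ne_zero]

theorem ctr_ext_omega {a b : Ctr ℂ G} (h : ∀ χ, omega χ a = omega χ b) : a = b :=
  ctr_ext fun g => by rw [coeff_eq_sum_omega, coeff_eq_sum_omega]; simp [h]

theorem isIntegral_omega_classSum (χ : IrrCharacter G) (C : ConjClasses G) :
    IsIntegral ℤ (omega χ (classSum ℂ C)) := by
  haveI : Module.Finite ℤ (Ctr ℤ G) :=
    Module.Finite.of_injective ((Ctr ℤ G).subtype.toIntAlgHom.toLinearMap) Subtype.val_injective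
  have h := (IsIntegral.of_finite ℤ (classSum ℤ C)).map
    (((omega χ).comp (mapCtr (Int.castRingHom ℂ))).toIntAlgHom)
  simpa [mapCtr_classSum] using h

theorem isIntegral_centralChar (χ : IrrCharacter G) (g : G) :
    IsIntegral ℤ (Cfsg.centralChar (χ : G → ℂ) g) := by
  rw [← omega_classSum]
  exact isIntegral_omega_classSum χ _

end Omega

/-! ### Over the local ring and over the residue field -/

section Local

variable {G : Type u} [Group G] [Fintype G] {M : Ideal AlgInt} [M.IsPrime]

/-- The inclusion of the centre over the local ring into the complex centre. -/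
noncomputable def toC (M : Ideal AlgInt) [M.IsPrime] : Ctr (localRing M) G →+* Ctr ℂ G :=
  mapCtr (localRing M).subtype

/-- Reduction of centres. -/
noncomputable def redCtr (M : Ideal AlgInt) [M.IsPrime] :
    Ctr (localRing M) G →+* Ctr (Res M) G :=
  mapCtr (red M)

theorem toC_injective : Function.Injective (toC (G := G) M) :=
  mapCtr_injective _ Subtype.val_injective

theorem redCtr_surjective : Function.Surjective (redCtr (G := G) M) :=
  mapCtr_surjective _ red_surjective

theorem omega_toC_mem (χ : IrrCharacter G) (a : Ctr (localRing M) G) :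
    omega χ (toC M a) ∈ localRing M := by
  haveI := Fintype.ofFinite (ConjClasses G)
  rw [eq_sum_classSum a, map_sum, map_sum]
  refine Subring.sum_mem _ fun C _ => ?_
  rw [toC, map_mul, map_mul, mapCtr_scalar, mapCtr_classSum, omega_scalar]
  exact Subring.mul_mem _ (classCoeff a C).2
    (memLocalRing_of_isIntegral (isIntegral_omega_classSum χ C))

/-- The central character on the centre over the local ring. -/
noncomputable def omegaO (M : Ideal AlgInt) [M.IsPrime] (χ : IrrCharacter G) :
    Ctr (localRing M) G →+* localRing M :=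
  ((omega χ).comp (toC M)).codRestrict _ (omega_toC_mem χ)

@[simp] theorem coe_omegaO (χ : IrrCharacter G) (a : Ctr (localRing M) G) :
    (omegaO M χ a : ℂ) = omega χ (toC M a) := rfl

theorem omegaO_classSum (χ : IrrCharacter G) (g : G) :
    (omegaO M χ (classSum _ (ConjClasses.mk g)) : ℂ) = Cfsg.centralChar (χ : G → ℂ) g := by
  rw [coe_omegaO, toC, mapCtr_classSum, omega_classSum]

theorem omegaO_scalar (χ : IrrCharacter G) (r : localRing M) : omegaO M χ (scalar r) = r :=
  Subtype.ext (by rw [coe_omegaO, toC, mapCtr_scalar, omega_scalar]; rfl)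

theorem memLocalRing_centralChar (χ : IrrCharacter G) (g : G) :
    Cfsg.MemLocalRing M (Cfsg.centralChar (χ : G → ℂ) g) :=
  memLocalRing_of_isIntegral (isIntegral_centralChar χ g)

theorem ctr_ext_omegaO {a b : Ctr (localRing M) G} (h : ∀ χ, omegaO M χ a = omegaO M χ b) :
    a = b :=
  toC_injective (ctr_ext_omega fun χ => congrArg Subtype.val (h χ))

theorem ker_redCtr_le (χ : IrrCharacter G) :
    RingHom.ker (redCtr (G := G) M) ≤ RingHom.ker ((red M).comp (omegaO M χ)) := by
  intro a ha
  haveI := Fintype.ofFinite (ConjClasses G)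
  rw [RingHom.mem_ker] at ha ⊢
  rw [eq_sum_classSum a, map_sum]
  refine Finset.sum_eq_zero fun C _ => ?_
  rw [RingHom.comp_apply, map_mul, map_mul, omegaO_scalar]
  have : red M (classCoeff a C) = 0 := by
    have := congrArg (fun b : Ctr (Res M) G => classCoeff b C) ha
    simpa [classCoeff, redCtr] using this
  rw [this, zero_mul]

/-- The central character over the residue field. -/
noncomputable def omegaBar (M : Ideal AlgInt) [M.IsPrime] (χ : IrrCharacter G) :
    Ctr (Res M) G →+* Res M :=
  (redCtr M).liftOfSurjective redCtr_surjective ⟨(red M).comp (omegaO M χ), ker_redCtr_le χ⟩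

theorem omegaBar_redCtr (χ : IrrCharacter G) (a : Ctr (localRing M) G) :
    omegaBar M χ (redCtr M a) = red M (omegaO M χ a) :=
  RingHom.liftOfRightInverse_comp_apply _ _ _ _ a

theorem omegaBar_scalar (χ : IrrCharacter G) (r : Res M) : omegaBar M χ (scalar r) = r := by
  obtain ⟨r, rfl⟩ := red_surjective r
  rw [← mapCtr_scalar, ← redCtr, omegaBar_redCtr, omegaO_scalar]

theorem omegaBar_classSum (χ : IrrCharacter G) (g : G) :
    omegaBar M χ (classSum _ (ConjClasses.mk g)) =
      red M ⟨Cfsg.centralChar (χ : G → ℂ) g, memLocalRing_centralChar χ g⟩ := by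
  rw [← mapCtr_classSum (red M), ← redCtr, omegaBar_redCtr]
  congr 1
  exact Subtype.ext (omegaO_classSum χ g)

theorem omegaBar_ext {lam mu : Ctr (Res M) G →+* Res M}
    (hl : ∀ r, lam (scalar r) = r) (hm : ∀ r, mu (scalar r) = r)
    (h : ∀ C : ConjClasses G, lam (classSum _ C) = mu (classSum _ C)) : lam = mu := by
  haveI := Fintype.ofFinite (ConjClasses G)
  ext a
  rw [eq_sum_classSum a, map_sum, map_sum]
  exact Finset.sum_congr rfl fun C _ => by rw [map_mul, map_mul, hl, hm, h]

/-- Two irreducible characters lie in one block exactly when their reduced central characters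
agree. -/
theorem sameBlock_iff (χ ψ : IrrCharacter G) :
    Cfsg.SameBlock M (χ : G → ℂ) (ψ : G → ℂ) ↔ omegaBar M χ = omegaBar M ψ := by
  constructor
  · intro h
    refine omegaBar_ext (omegaBar_scalar χ) (omegaBar_scalar ψ) fun C => ?_
    obtain ⟨g, rfl⟩ := ConjClasses.mk_surjective C
    rw [omegaBar_classSum, omegaBar_classSum, red_eq_red_iff]
    exact h g
  · intro h g
    have := DFunLike.congr_fun h (classSum _ (ConjClasses.mk g))
    rwa [omegaBar_classSum, omegaBar_classSum, red_eq_red_iff] at this

end Local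

end CfsgLib.Blocks
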