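import Cfsg.Agent.Blocks.GroupAlgebra
import Mathlib.FieldTheory.AlgebraicClosure
import Mathlib.FieldTheory.Minpoly.IsIntegrallyClosed
import Mathlib.RingTheory.RootsOfUnity.Complex

/-!
# Blocks do not depend on the maximal ideal

The conjugates of a difference of central characters are such differences at powers prime to the
group order; if all of them lie in one ideal over `p` then a power of it is a multiple of `p`.
-/

set_option autoImplicit false
set_option linter.style.haveILetI false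
set_option linter.unusedSectionVars false

namespace CfsgLib.Blocks

open Cfsg
open scoped ComplexConjugate

universe u

variable {G : Type u} [Group G] [Fintype G]

theorem mem_of_conjugates_mem {p : ℕ} {M M' : Ideal AlgInt} (hM : Cfsg.IsPModular p M)
    (hM' : Cfsg.IsPModular p M') (d : AlgInt)
    (h : ∀ β ∈ (minpoly ℚ (d : ℂ)).rootSet ℂ, ∃ r : AlgInt, r ∈ M ∧ (r : ℂ) = β) : d ∈ M' := by
  classical
  have hd : IsIntegral ℤ (d : ℂ) := d.2
  have hmon := minpoly.monic hd
  set P := minpoly ℤ (d : ℂ) with hP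
  set m := P.natDegree
  have hQ : minpoly ℚ (d : ℂ) = P.map (algebraMap ℤ ℚ) :=
    minpoly.isIntegrallyClosed_eq_field_fractions' ℚ hd
  set R := (P.map (algebraMap ℤ ℂ)).roots with hR
  have hroots : ∀ β ∈ R, ∃ r : AlgInt, r ∈ M ∧ (r : ℂ) = β := by
    intro β hβ
    refine h β ((Polynomial.mem_rootSet_of_ne (minpoly.ne_zero hd.tower_top)).2 ?_)
    rw [hQ, Polynomial.aeval_map_algebraMap]
    have := Polynomial.isRoot_of_mem_roots hβ
    rwa [Polynomial.IsRoot, Polynomial.eval_map_algebraMap] at this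
  let f : {x // x ∈ R} → AlgInt := fun β => (hroots β.1 β.2).choose
  have hf : ∀ β, f β ∈ M ∧ ((f β : AlgInt) : ℂ) = β := fun β => (hroots β.1 β.2).choose_spec
  have hprod : P.map (algebraMap ℤ AlgInt) =
      (R.attach.map fun β => Polynomial.X - Polynomial.C (f β)).prod := by
    refine Polynomial.map_injective (algebraMap AlgInt ℂ) Subtype.coe_injective ?_
    rw [Polynomial.map_map, ← IsScalarTower.algebraMap_eq, Polynomial.map_multiset_prod,
      Multiset.map_map]
    conv_lhs => rw [(IsAlgClosed.splits (P.map (algebraMap ℤ ℂ))).eq_prod_roots_of_monic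
      (hmon.map _), ← hR, ← R.attach_map_val, Multiset.map_map]
    refine congrArg _ (Multiset.map_congr rfl fun β _ => ?_)
    simp only [Function.comp_apply, Polynomial.map_sub, Polynomial.map_X, Polynomial.map_C]
    exact congrArg (fun c => Polynomial.X - Polynomial.C c) (hf β).2.symm
  have hcoe : ∀ i, i < m → (p : ℤ) ∣ P.coeff i := by
    intro i hi
    haveI := hM.2.1.isPrime
    have h1 := congrArg (Polynomial.map (Ideal.Quotient.mk M)) hprod
    rw [Polynomial.map_multiset_prod, Multiset.map_map, Multiset.map_congr rfl (g := fun _ =>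
      (Polynomial.X : Polynomial (AlgInt ⧸ M))) fun β _ => by
        simp [Ideal.Quotient.eq_zero_iff_mem.2 (hf β).1], Multiset.map_const',
      Multiset.prod_replicate, Multiset.card_attach] at h1
    have hcard : Multiset.card R = m := by
      rw [hR, (IsAlgClosed.splits (P.map (algebraMap ℤ ℂ))).natDegree_eq_card_roots.symm,
        hmon.natDegree_map]
    have h2 := congrArg (fun q => Polynomial.coeff q i) h1
    simp only [Polynomial.coeff_map, Polynomial.coeff_X_pow, hcard, hi.ne, if_false,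
      Ideal.Quotient.eq_zero_iff_mem] at h2
    rw [algebraMap_int_eq, eq_intCast] at h2
    rw [Int.natCast_dvd]
    refine (IsPModular.natCast_mem_iff hM _).1 ?_
    rcases Int.natAbs_eq (P.coeff i) with e | e
    · rw [e] at h2; simpa using h2
    · rw [e] at h2; simpa using h2
  have h0 : (∑ i ∈ Finset.range (m + 1), (P.coeff i : AlgInt) * d ^ i) = 0 := by
    refine Subtype.ext ?_
    have := minpoly.aeval ℤ (d : ℂ)
    rw [← hP, Polynomial.aeval_eq_sum_range] at this
    push_cast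
    simpa [Algebra.smul_def] using this
  rw [Finset.sum_range_succ, show P.coeff m = 1 from hmon.coeff_natDegree, Int.cast_one, one_mul]
    at h0
  haveI := hM'.2.1.isPrime
  refine Ideal.IsPrime.mem_of_pow_mem ‹M'.IsPrime› m ?_
  rw [eq_neg_of_add_eq_zero_right h0]
  refine neg_mem (Ideal.sum_mem _ fun i hi => Ideal.mul_mem_right _ _ ?_)
  obtain ⟨c, hc⟩ := hcoe i (Finset.mem_range.1 hi)
  rw [hc, Int.cast_mul, Int.cast_natCast]
  exact Ideal.mul_mem_right _ _ hM'.2.2

/-- Every embedding sends a central character value to the value at a power prime to the order. -/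
theorem exists_coprime_embedding (ψ : (algebraicClosure ℚ ℂ) →ₐ[ℚ] ℂ) :
    ∃ k : ℕ, Nat.Coprime k (Nat.card G) ∧
      ∀ (χ : IrrCharacter G) (g : G) (z : algebraicClosure ℚ ℂ),
        (z : ℂ) = Cfsg.centralChar (χ : G → ℂ) g →
          ψ z = Cfsg.centralChar (χ : G → ℂ) (g ^ k) := by
  classical
  set n := Nat.card G with hn
  have hn0 : n ≠ 0 := Nat.card_pos.ne'
  haveI : NeZero n := ⟨hn0⟩
  have hζ := Complex.isPrimitiveRoot_exp n hn0
  set ζ := Complex.exp (2 * Real.pi * Complex.I / n)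
  have hK : ∀ w : ℂ, w ^ n = 1 → w ∈ algebraicClosure ℚ ℂ := fun w hw => by
    rw [mem_algebraicClosure_iff]
    exact (IsIntegral.of_pow (Nat.pos_of_ne_zero hn0) (hw ▸ isIntegral_one)).isAlgebraic
  have hζ' : IsPrimitiveRoot (⟨ζ, hK ζ hζ.pow_eq_one⟩ : algebraicClosure ℚ ℂ) n :=
    IsPrimitiveRoot.coe_submonoidClass_iff.1 hζ
  have hψζ : IsPrimitiveRoot (ψ ⟨ζ, hK ζ hζ.pow_eq_one⟩) n := hζ'.map_of_injective ψ.injective
  obtain ⟨k, -, hk⟩ := hζ.eq_pow_of_pow_eq_one hψζ.pow_eq_one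
  have hkc : Nat.Coprime k n := (hζ.pow_iff_coprime (Nat.pos_of_ne_zero hn0) k).1 (hk.symm ▸ hψζ)
  refine ⟨k, hkc, fun χ g z hz => ?_⟩
  obtain ⟨d, ρ, hρ, hρc⟩ := χ.2
  obtain ⟨μ, hμ, hj, -⟩ := Characters.exists_eigenvalues ρ g
  have hμn : ∀ i, μ i ^ n = 1 := fun i => by
    obtain ⟨c, hc⟩ := orderOf_dvd_natCard g
    rw [hn, hc, pow_mul, hμ i, one_pow]
  have hψμ : ∀ i, ψ ⟨μ i, hK _ (hμn i)⟩ = μ i ^ k := fun i => by
    obtain ⟨j, -, hj'⟩ := hζ.eq_pow_of_pow_eq_one (hμn i)
    rw [show (⟨μ i, hK _ (hμn i)⟩ : algebraicClosure ℚ ℂ) = ⟨ζ, hK ζ hζ.pow_eq_one⟩ ^ j from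
      Subtype.ext (by rw [SubmonoidClass.coe_pow]; exact hj'.symm), map_pow, ← hk, ← hj',
      ← pow_mul, ← pow_mul, mul_comm]
  have hcz : Subgroup.centralizer ({g ^ k} : Set G) = Subgroup.centralizer ({g} : Set G) := by
    refine le_antisymm (fun x hx => ?_) (fun x hx => ?_)
    · obtain ⟨m, hm⟩ := exists_pow_eq_self_of_coprime
        (hkc.coprime_dvd_right (orderOf_dvd_natCard g))
      rw [Subgroup.mem_centralizer_singleton_iff] at hx ⊢
      rw [← hm]
      exact Commute.pow_right hx m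
    · rw [Subgroup.mem_centralizer_singleton_iff] at hx ⊢
      exact Commute.pow_right hx k
  have hdeg : (χ : G → ℂ) 1 = (Module.finrank ℂ (Fin d → ℂ) : ℂ) := by
    rw [← hρc, Representation.char_one]
  have hval : ∀ j : ℕ, (χ : G → ℂ) (g ^ j) = ∑ i, μ i ^ j := fun j => by rw [← hρc]; exact hj j
  have hz' : z = ((Subgroup.centralizer ({g} : Set G)).index : algebraicClosure ℚ ℂ) *
      (∑ i, (⟨μ i, hK _ (hμn i)⟩ : algebraicClosure ℚ ℂ)) /
        (Module.finrank ℂ (Fin d → ℂ) : algebraicClosure ℚ ℂ) := by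
    refine Subtype.ext ?_
    push_cast
    rw [hz, Cfsg.centralChar, hdeg, ← pow_one g, hval 1]
    simp
  rw [hz', map_div₀, map_mul, map_natCast, map_natCast, map_sum, Cfsg.centralChar, hcz, hdeg,
    hval k]
  simp only [hψμ]

theorem centralChar_sub_mem {p : ℕ} {M M' : Ideal AlgInt} (hM : Cfsg.IsPModular p M)
    (hM' : Cfsg.IsPModular p M') (χ ψ : IrrCharacter G)
    (h : Cfsg.SameBlock M (χ : G → ℂ) (ψ : G → ℂ)) (g : G) :
    ∃ r : AlgInt, r ∈ M' ∧
      (r : ℂ) = Cfsg.centralChar (χ : G → ℂ) g - Cfsg.centralChar (ψ : G → ℂ) g := by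
  haveI := hM.2.1.isPrime
  refine ⟨⟨_, (isIntegral_centralChar χ g).sub (isIntegral_centralChar ψ g)⟩, ?_, rfl⟩
  refine mem_of_conjugates_mem hM hM' _ fun β hβ => ?_
  have hK : ∀ η : IrrCharacter G, Cfsg.centralChar (η : G → ℂ) g ∈ algebraicClosure ℚ ℂ :=
    fun η => by
      rw [mem_algebraicClosure_iff]
      exact (isIntegral_centralChar η g).tower_top.isAlgebraic
  haveI : Algebra.IsAlgebraic ℚ (algebraicClosure ℚ ℂ) := algebraicClosure.isAlgebraic ℚ ℂ
  let z : algebraicClosure ℚ ℂ := ⟨_, hK χ⟩ - ⟨_, hK ψ⟩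
  change β ∈ (minpoly ℚ (algebraMap (algebraicClosure ℚ ℂ) ℂ z)).rootSet ℂ at hβ
  rw [minpoly.algebraMap_eq (algebraMap (algebraicClosure ℚ ℂ) ℂ).injective,
    ← Algebra.IsAlgebraic.range_eval_eq_rootSet_minpoly] at hβ
  obtain ⟨σ, rfl⟩ := hβ
  obtain ⟨k, -, hk⟩ := exists_coprime_embedding (G := G) σ
  refine ⟨⟨_, (isIntegral_centralChar χ (g ^ k)).sub (isIntegral_centralChar ψ (g ^ k))⟩, ?_, ?_⟩
  · rw [← memLocalIdeal_coe_iff]
    exact h (g ^ k)
  · show _ = σ (⟨_, hK χ⟩ - ⟨_, hK ψ⟩)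
    rw [map_sub, hk χ g _ rfl, hk ψ g _ rfl]

end CfsgLib.Blocks
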