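import Cfsg.Agent.Blocks.Height

/-!
# Knörr's criterion for defect zero

A character vanishing on all elements of order `p` takes the value one at the sum of the solutions
of `x ^ p = 1`, whose image under a nontrivial Brauer map squares to zero.
-/

set_option autoImplicit false
set_option linter.style.haveILetI false
set_option linter.unusedSectionVars false

namespace CfsgLib.Blocks

open Cfsg
open scoped ComplexConjugate

universe u

variable {G : Type u} [Group G] [Fintype G] {p : ℕ} [Fact p.Prime] {M : Ideal AlgInt} [M.IsPrime]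

/-- The sum of all solutions of `x ^ p = 1`. -/
noncomputable def rootSum (p : ℕ) (M : Ideal AlgInt) [M.IsPrime] : Ctr (localRing M) G :=
  ⟨ofFun (Set.indicator {x : G | x ^ p = 1} fun _ => 1), mem_ctr_iff.2 fun g h => by
    classical
    simp only [coeff_ofFun, Set.indicator_apply, Set.mem_ofPred_eq]
    refine if_congr ?_ rfl rfl
    rw [conj_pow, mul_inv_eq_one, mul_eq_left]⟩

theorem omegaO_rootSum (χ : IrrCharacter G)
    (hvan : ∀ g : G, orderOf g = p → (χ : G → ℂ) g = 0) :
    omegaO M χ (rootSum p M) = 1 := by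
  classical
  refine Subtype.ext ?_
  rw [coe_omegaO, omega_apply, Finset.sum_eq_single 1]
  · simp [toC, rootSum, div_self (Characters.irr_one_ne_zero χ.2)]
  · intro x _ hx
    simp only [toC, coeff_mapCtr, rootSum, coeff_ofFun, Set.indicator_apply, Set.mem_ofPred_eq]
    split_ifs with h
    · rw [hvan x (orderOf_eq_prime h hx), mul_zero]
    · simp
  · simp

theorem brHom_rootSum_sq (hM : Cfsg.IsPModular p M) {D : Subgroup G} (hD : IsPGroup p D)
    (hne : D ≠ ⊥) [CharP (Res M) p] :
    brHom D (Subgroup.normalizer (D : Set G)) hD (Subgroup.centralizer_le_normalizer _) le_rfl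
      (redCtr M (rootSum p M)) ^ 2 = 0 := by
  classical
  haveI : Nontrivial D := (Subgroup.nontrivial_iff_ne_bot D).2 hne
  haveI : Nontrivial (Subgroup.center D) := hD.center_nontrivial
  obtain ⟨z', hz'⟩ := exists_prime_orderOf_dvd_card' (G := Subgroup.center D) p (by
    obtain ⟨n, hn⟩ := IsPGroup.iff_card.1 (hD.to_subgroup (Subgroup.center D))
    have h1 : 1 < Nat.card (Subgroup.center D) := Finite.one_lt_card
    rw [hn] at h1 ⊢
    exact dvd_pow_self p fun h => by simp [h] at h1)
  have hzC : ((z' : D) : G) ∈ Subgroup.centralizer (D : Set G) :=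
    Subgroup.mem_centralizer_iff.2 fun d hd =>
      congrArg Subtype.val (Subgroup.mem_center_iff.1 z'.2 ⟨d, hd⟩)
  let z : Subgroup.normalizer (D : Set G) := ⟨_, Subgroup.centralizer_le_normalizer _ hzC⟩
  have hzp : orderOf z = p := by
    rw [show z = ⟨((z' : D) : G), _⟩ from rfl, ← Subgroup.orderOf_coe]
    show orderOf ((z' : D) : G) = p
    rw [Subgroup.orderOf_coe, Subgroup.orderOf_coe, hz']
  let X : Set (Subgroup.normalizer (D : Set G)) :=
    {x | (x : G) ∈ Subgroup.centralizer (D : Set G) ∧ x ^ p = 1}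
  have hc : ∀ x, (brHom D (Subgroup.normalizer (D : Set G)) hD
      (Subgroup.centralizer_le_normalizer _) le_rfl (redCtr M (rootSum p M)) :
        MonoidAlgebra (Res M) (Subgroup.normalizer (D : Set G))).coeff x =
      Set.indicator X (fun _ => (1 : Res M)) x := by
    intro x
    rw [brHom_apply]
    by_cases hx : (x : G) ∈ Subgroup.centralizer (D : Set G)
    · rw [coeff_brRes_of_mem le_rfl _ hx, redCtr, coeff_mapCtr]
      simp only [rootSum, coeff_ofFun, Set.indicator_apply, Set.mem_ofPred_eq, X, hx, true_and,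
        apply_ite (red M), map_one, map_zero]
      exact if_congr (by rw [← Subgroup.coe_pow, OneMemClass.coe_eq_one]) rfl rfl
    · rw [coeff_brRes_of_notMem le_rfl _ hx, Set.indicator_of_notMem (fun h => hx h.1)]
  have hzX : ∀ x ∈ X, ∀ u ∈ Subgroup.zpowers z, x * u ∈ X ∧ u * x ∈ X := by
    rintro x ⟨hx, hxp⟩ u hu
    have hcomm : Commute z x :=
      Subtype.ext (Subgroup.mem_centralizer_iff.1 hx _ (z' : D).2)
    obtain ⟨n, rfl⟩ := Subgroup.mem_zpowers_iff.1 hu
    have hcn : Commute (z ^ n) x := hcomm.zpow_left n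
    have hun : (z ^ n) ^ p = 1 := by
      rw [← zpow_natCast (z ^ n), ← zpow_mul, mul_comm, zpow_mul, zpow_natCast, ← hzp,
        pow_orderOf_eq_one, one_zpow]
    have hu' : ((z ^ n : Subgroup.normalizer (D : Set G)) : G) ∈
        Subgroup.centralizer (D : Set G) := by
      rw [Subgroup.coe_zpow]; exact Subgroup.zpow_mem _ hzC n
    refine ⟨⟨Subgroup.mul_mem _ hx hu', ?_⟩, ⟨Subgroup.mul_mem _ hu' hx, ?_⟩⟩
    · rw [hcn.symm.mul_pow, hxp, hun, one_mul]
    · rw [hcn.mul_pow, hxp, hun, one_mul]
  rw [pow_two]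
  refine ctr_ext fun c => ?_
  haveI := Fintype.ofFinite (Subgroup.normalizer (D : Set G))
  rw [Subring.coe_mul, coeff_mul_eq_sum]
  simp only [hc]
  let Y : Set (Subgroup.normalizer (D : Set G)) := {x | x ∈ X ∧ x⁻¹ * c ∈ X}
  have hY : QuotientGroup.mk ⁻¹' (QuotientGroup.mk (s := Subgroup.zpowers z) '' Y) = Y := by
    refine subset_antisymm ?_ (Set.subset_preimage_image _ _)
    rintro x ⟨y, ⟨hy1, hy2⟩, hyx⟩
    obtain ⟨u, hu, rfl⟩ : ∃ u ∈ Subgroup.zpowers z, y * u = x :=
      ⟨y⁻¹ * x, QuotientGroup.eq.1 hyx, mul_inv_cancel_left y x⟩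
    refine ⟨(hzX y hy1 u hu).1, ?_⟩
    rw [mul_inv_rev, mul_assoc]
    exact (hzX _ hy2 u⁻¹ (Subgroup.inv_mem _ hu)).2
  have hdvd : p ∣ Nat.card Y := by
    rw [← hY, Nat.card_congr (QuotientGroup.preimageMkEquivSubgroupProdSet _ _), Nat.card_prod,
      Nat.card_zpowers, hzp]
    exact Dvd.intro _ rfl
  rw [Finset.sum_congr rfl (g := fun x => if x ∈ Y then (1 : Res M) else 0) fun x _ => by
    by_cases h1 : x ∈ X <;> by_cases h2 : x⁻¹ * c ∈ X <;> simp [Y, h1, h2], Finset.sum_boole]
  rw [show (Finset.univ.filter fun x => x ∈ Y).card = Nat.card Y by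
    rw [Nat.card_eq_fintype_card, Fintype.card_subtype]]
  rw [(CharP.cast_eq_zero_iff (Res M) p _).2 hdvd]
  simp

theorem defect_zero_of_vanishing (hM : Cfsg.IsPModular p M) (χ : IrrCharacter G)
    (hvan : ∀ g : G, orderOf g = p → (χ : G → ℂ) g = 0) :
    (Cfsg.charDegree (χ : G → ℂ)).factorization p = (Nat.card G).factorization p := by
  classical
  haveI := charP_res hM
  have hB := isPBlock_blockOf (M := M) χ
  obtain ⟨D, hD⟩ := exists_isDefectGroup (p := p) hB
  have hbot : D = ⊥ := by
    by_contra hne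
    obtain ⟨g, hg, hge⟩ := IsDefectGroup.exists_coeff hB hD
    obtain ⟨w, hw⟩ := exists_mul_eq_idemBar hB (mem_blockOf_self χ)
      (a := redCtr M (rootSum p M)) (by
        rw [omegaBar_redCtr, omegaO_rootSum χ hvan, map_one]; exact one_ne_zero)
    set φ := brHom (F := Res M) D (Subgroup.normalizer (D : Set G)) (IsDefectGroup.isPGroup hD)
      (Subgroup.centralizer_le_normalizer _) le_rfl
    have h2 : φ (idemBar M _ (isBlockUnion_of_isPBlock hB)) = 0 := by
      rw [← idemBar_mul_self, map_mul, ← hw, map_mul]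
      linear_combination (φ w * φ w) * brHom_rootSum_sq hM (IsDefectGroup.isPGroup hD) hne
    refine hge ?_
    have h3 := congrArg (fun a => (a : MonoidAlgebra (Res M) (Subgroup.normalizer (D : Set G))).coeff
      ⟨g, Subgroup.centralizer_le_normalizer _ hg⟩) (congrArg Subtype.val h2)
    simp only [φ, brHom_apply] at h3
    rw [coeff_brRes_of_mem le_rfl _ (h := ⟨g, Subgroup.centralizer_le_normalizer _ hg⟩) hg] at h3
    simpa using h3
  have h := defect_add_degree_ge hM hB hD (mem_blockOf_self χ)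
  rw [hbot, Subgroup.card_bot, Nat.factorization_one, Finsupp.coe_zero, Pi.zero_apply,
    add_zero] at h
  exact le_antisymm (charDegree_factorization_le χ) h

end CfsgLib.Blocks
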