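import Cfsg.Agent.Blocks.BrauerMap

/-!
# Groups with a self-centralizing normal p-subgroup have one block
-/

set_option autoImplicit false
set_option linter.style.haveILetI false
set_option linter.unusedSectionVars false

namespace CfsgLib.Blocks

open Cfsg

universe u

variable {G : Type u} [Group G] [Fintype G] {p : ℕ} [Fact p.Prime] {M : Ideal AlgInt} [M.IsPrime]

theorem isNilpotent_classSum_sub {F : Type*} [Field F] [CharP F p] (Q : Subgroup G) [Q.Normal]
    (hQ : IsPGroup p Q) (hCQ : Subgroup.centralizer (Q : Set G) ≤ Q) {g : G}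
    (hg : g ∈ Subgroup.centralizer (Q : Set G)) :
    IsNilpotent (classSum F (ConjClasses.mk g) -
      scalar ((Subgroup.centralizer ({g} : Set G)).index : F)) := by
  classical
  let S : Finset G := Finset.univ.filter fun x => ConjClasses.mk x = ConjClasses.mk g
  have hS : ∀ x ∈ S, x ∈ Subgroup.centralizer (Q : Set G) := by
    intro x hx
    obtain ⟨c, rfl⟩ := isConj_iff.1
      (ConjClasses.mk_eq_mk_iff_isConj.1 (Finset.mem_filter.1 hx).2).symm
    exact Subgroup.Normal.conj_mem inferInstance _ hg c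
  have e : ((classSum F (ConjClasses.mk g) -
      scalar ((Subgroup.centralizer ({g} : Set G)).index : F) : Ctr F G) : MonoidAlgebra F G) =
      ∑ x ∈ S, (MonoidAlgebra.single x (1 : F) - 1) := by
    rw [Finset.sum_sub_distrib, Finset.sum_const, AddSubgroupClass.coe_sub, coe_scalar]
    congr 1
    · refine MonoidAlgebra.ext (Finsupp.ext fun y => ?_)
      rw [coeff_classSum, MonoidAlgebra.coeff_sum, Finsupp.finsetSum_apply]
      by_cases hy : ConjClasses.mk y = ConjClasses.mk g
      · rw [if_pos hy, Finset.sum_eq_single_of_mem y (by simp [S, hy])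
          fun b _ hb => by simp [hb.symm]]
        simp
      · rw [if_neg hy, Finset.sum_eq_zero fun b hb => ?_]
        have hby : b ≠ y := fun h => hy (h ▸ (Finset.mem_filter.1 hb).2)
        simp [hby]
    · rw [← natCard_class g, Nat.card_eq_fintype_card, Fintype.card_subtype,
        MonoidAlgebra.one_def, MonoidAlgebra.smul_single, nsmul_one]
  suffices h : IsNilpotent (∑ x ∈ S, (MonoidAlgebra.single x (1 : F) - 1)) by
    obtain ⟨n, hn⟩ := h
    exact ⟨n, Subtype.ext (by rw [SubmonoidClass.coe_pow, e, hn]; rfl)⟩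
  haveI : CharP (MonoidAlgebra F G) p := charP_of_injective_ringHom
    (f := (MonoidAlgebra.singleOneRingHom : F →+* MonoidAlgebra F G))
    (fun a b h => by simpa using congrArg (fun z : MonoidAlgebra F G => z.coeff 1) h) p
  have hcomm : ∀ x ∈ S, ∀ y ∈ S, Commute (MonoidAlgebra.single x (1 : F) - 1)
      (MonoidAlgebra.single y (1 : F) - 1) := fun x hx y hy => by
    have hxy : x * y = y * x :=
      (Subgroup.mem_centralizer_iff.1 (hS y hy)) x (hCQ (hS x hx))
    have : Commute (MonoidAlgebra.single x (1 : F)) (MonoidAlgebra.single y (1 : F)) := by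
      simp [Commute, SemiconjBy, MonoidAlgebra.single_mul_single, hxy]
    exact (this.sub_right (Commute.one_right _)).sub_left (Commute.one_left _)
  refine Commute.isNilpotent_sum (fun x hx => ?_) fun x y hx hy => hcomm x hx y hy
  obtain ⟨n, hn⟩ := IsPGroup.iff_orderOf.1 hQ ⟨x, hCQ (hS x hx)⟩
  refine ⟨p ^ n, ?_⟩
  rw [sub_pow_char_pow_of_commute p n (Commute.one_right _), one_pow, MonoidAlgebra.single_pow,
    one_pow, show x ^ p ^ n = 1 from hn ▸ congrArg Subtype.val (pow_orderOf_eq_one (⟨x, hCQ (hS x hx)⟩ : Q))]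
  rw [← MonoidAlgebra.one_def, sub_self]

theorem sameBlock_of_centralizer_le (hM : Cfsg.IsPModular p M) (Q : Subgroup G) [Q.Normal]
    (hQ : IsPGroup p Q) (hCQ : Subgroup.centralizer (Q : Set G) ≤ Q) (χ ψ : IrrCharacter G) :
    Cfsg.SameBlock M (χ : G → ℂ) (ψ : G → ℂ) := by
  haveI := charP_res hM
  rw [sameBlock_iff]
  refine omegaBar_ext (omegaBar_scalar χ) (omegaBar_scalar ψ) fun C => ?_
  obtain ⟨g, rfl⟩ := ConjClasses.mk_surjective C
  by_cases hg : g ∈ Subgroup.centralizer (Q : Set G)
  · have h := fun η : IrrCharacter G =>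
      ((isNilpotent_classSum_sub (F := Res M) Q hQ hCQ hg).map (omegaBar M η)).eq_zero
    simp only [map_sub, omegaBar_scalar, sub_eq_zero] at h
    rw [h, h]
  · have h0 : ∀ x ∈ Subgroup.centralizer (Q : Set G),
        (classSum (Res M) (ConjClasses.mk g) : MonoidAlgebra (Res M) G).coeff x = 0 := by
      intro x hx
      rw [coeff_classSum, if_neg]
      intro h
      obtain ⟨c, rfl⟩ := isConj_iff.1 (ConjClasses.mk_eq_mk_iff_isConj.1 h)
      exact hg (Subgroup.Normal.conj_mem inferInstance _ hx c)
    rw [omegaBar_eq_zero_of_coeff_centralizer hM Q hQ χ h0,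
      omegaBar_eq_zero_of_coeff_centralizer hM Q hQ ψ h0]

end CfsgLib.Blocks
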