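import Cfsg.Prelude.Def_Blocks
import Mathlib.GroupTheory.OrderOfElement

/-!
# The p-part of an element
-/

set_option autoImplicit false
set_option linter.unusedSectionVars false

namespace CfsgLib.Blocks

variable {G : Type*} [Group G] [Finite G] {p : ℕ}

/-- The two factors of the p-part decomposition are powers of the element. -/
theorem isPPart_mem_zpowers (hp : p.Prime) {g x : G} (h : Cfsg.IsPPart p g x) :
    x ∈ Subgroup.zpowers g := by
  obtain ⟨y, hxy, hc, ⟨k, hk⟩, hy⟩ := h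
  have hcop : (orderOf x).Coprime (orderOf y) := by
    rw [hk]; exact (hp.coprime_iff_not_dvd.2 hy).pow_left _
  have hb := Nat.gcd_eq_gcd_ab (orderOf x) (orderOf y)
  rw [hcop.gcd_eq_one, Nat.cast_one] at hb
  refine ⟨(orderOf y : ℤ) * Nat.gcdB (orderOf x) (orderOf y), ?_⟩
  dsimp only
  rw [← hxy, hc.mul_zpow]
  have h1 : y ^ ((orderOf y : ℤ) * Nat.gcdB (orderOf x) (orderOf y)) = 1 := by
    rw [zpow_mul, zpow_natCast, pow_orderOf_eq_one, one_zpow]
  have h2 : x ^ ((orderOf y : ℤ) * Nat.gcdB (orderOf x) (orderOf y)) = x := by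
    conv_rhs => rw [← zpow_one x, hb, zpow_add, zpow_mul, zpow_natCast, pow_orderOf_eq_one,
      one_zpow, one_mul]
  rw [h1, h2, mul_one]

/-- The p-part is unique. -/
theorem isPPart_unique (hp : p.Prime) {g x x' : G} (h : Cfsg.IsPPart p g x)
    (h' : Cfsg.IsPPart p g x') : x = x' := by
  obtain ⟨i, hi⟩ := isPPart_mem_zpowers hp h
  obtain ⟨j, hj⟩ := isPPart_mem_zpowers hp h'
  dsimp only at hi hj
  obtain ⟨y, hxy, hc, ⟨k, hk⟩, hy⟩ := h
  obtain ⟨y', hxy', hc', ⟨k', hk'⟩, hy'⟩ := h'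
  -- `x'⁻¹ * x = y' * y⁻¹` has both p-power and p'-order
  have hgx : Commute g x := hi ▸ Commute.self_zpow g i
  have hgx' : Commute g x' := hj ▸ Commute.self_zpow g j
  have hxx' : Commute x x' := hi ▸ hj ▸ (Commute.zpow_zpow (Commute.refl g) i j)
  have hyy : x'⁻¹ * x = y' * y⁻¹ := by
    rw [inv_mul_eq_iff_eq_mul, ← mul_assoc, hxy', ← hxy, mul_assoc, mul_inv_cancel, mul_one]
  have hy'y : Commute y' y⁻¹ := by
    have e1 : y = x⁻¹ * g := by rw [← hxy]; group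
    have e2 : y' = x'⁻¹ * g := by rw [← hxy']; group
    refine Commute.inv_right ?_
    rw [e1, e2]
    exact (hxx'.symm.inv_inv.mul_right hgx'.symm.inv_left).mul_left
      (hgx.inv_right.mul_right (Commute.refl g))
  have d1 : orderOf (x'⁻¹ * x) ∣ p ^ (k' + k) := by
    refine dvd_trans (Commute.orderOf_mul_dvd_mul_orderOf hxx'.symm.inv_left) ?_
    rw [orderOf_inv, hk, hk', pow_add]
  have d2 : orderOf (x'⁻¹ * x) ∣ orderOf y' * orderOf y := by
    rw [hyy]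
    refine dvd_trans (Commute.orderOf_mul_dvd_mul_orderOf hy'y) ?_
    rw [orderOf_inv]
  have hcop : Nat.Coprime (p ^ (k' + k)) (orderOf y' * orderOf y) :=
    (hp.coprime_iff_not_dvd.2 (hp.not_dvd_mul hy' hy)).pow_left _
  exact (inv_mul_eq_one.1 (orderOf_eq_one_iff.1 (Nat.eq_one_of_dvd_coprimes hcop d1 d2))).symm

/-- Every element has a p-part. -/
theorem exists_isPPart (hp : p.Prime) (g : G) : ∃ x, Cfsg.IsPPart p g x := by
  obtain ⟨k, m, hm, hn⟩ := Nat.exists_eq_pow_mul_and_not_dvd (orderOf_pos g).ne' p hp.ne_one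
  have hcop : Nat.Coprime (p ^ k) m := (hp.coprime_iff_not_dvd.2 hm).pow_left _
  have hb := Nat.gcd_eq_gcd_ab (p ^ k) m
  rw [hcop.gcd_eq_one, Nat.cast_one] at hb
  set s := Nat.gcdA (p ^ k) m
  set t := Nat.gcdB (p ^ k) m
  have key : ∀ z : ℤ, g ^ ((orderOf g : ℤ) * z) = 1 := fun z => by
    rw [zpow_mul, zpow_natCast, pow_orderOf_eq_one, one_zpow]
  refine ⟨g ^ ((m : ℤ) * t), g ^ (((p ^ k : ℕ) : ℤ) * s), ?_, Commute.zpow_zpow (Commute.refl g) _ _,
    ?_, ?_⟩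
  · rw [← zpow_add, add_comm, ← hb, zpow_one]
  · have : orderOf (g ^ ((m : ℤ) * t)) ∣ p ^ k := by
      rw [orderOf_dvd_iff_pow_eq_one, ← zpow_natCast, ← zpow_mul,
        show (m : ℤ) * t * ((p ^ k : ℕ) : ℤ) = (orderOf g : ℤ) * t by rw [hn]; push_cast; ring]
      exact key t
    obtain ⟨i, -, hi⟩ := (Nat.dvd_prime_pow hp).1 this
    exact ⟨i, hi⟩
  · have : orderOf (g ^ (((p ^ k : ℕ) : ℤ) * s)) ∣ m := by
      rw [orderOf_dvd_iff_pow_eq_one, ← zpow_natCast, ← zpow_mul,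
        show ((p ^ k : ℕ) : ℤ) * s * (m : ℤ) = (orderOf g : ℤ) * s by rw [hn]; push_cast; ring]
      exact key s
    exact fun h => hm (h.trans this)

theorem isPPart_conj {g x : G} (h : Cfsg.IsPPart p g x) (c : G) :
    Cfsg.IsPPart p (c * g * c⁻¹) (c * x * c⁻¹) := by
  obtain ⟨y, hxy, hc, ⟨k, hk⟩, hy⟩ := h
  refine ⟨c * y * c⁻¹, by rw [← hxy]; group, ?_, ⟨k, ?_⟩, ?_⟩
  · exact hc.map (MulAut.conj c).toMonoidHom
  · rw [show c * x * c⁻¹ = MulAut.conj c x from rfl, MulEquiv.orderOf_eq, hk]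
  · rwa [show c * y * c⁻¹ = MulAut.conj c y from rfl, MulEquiv.orderOf_eq]

theorem isPPart_of_mul {x y : G} (hxy : Commute x y) (hx : ∃ k, orderOf x = p ^ k)
    (hy : ¬ p ∣ orderOf y) : Cfsg.IsPPart p (x * y) x := ⟨y, rfl, hxy, hx, hy⟩

end CfsgLib.Blocks
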