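import Cfsg.Agent.Blocks.Height
import Cfsg.Agent.Characters.Burnside

/-!
# The principal block of a simple group

A nonprincipal member of the principal block of a nonabelian simple group does not have degree a
power of `p`; hence, in order `p ^ a * q ^ b * r`, a subgroup of order `r` is self-centralizing.
-/

set_option autoImplicit false
set_option linter.style.haveILetI false
set_option linter.unusedSectionVars false

namespace CfsgLib.Blocks

open Cfsg
open scoped ComplexConjugate

universe u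

variable {G : Type u} [Group G] [Fintype G] {p : ℕ} [Fact p.Prime] {M : Ideal AlgInt} [M.IsPrime]

theorem hom_eq_one_of_simple [IsSimpleGroup G] (hna : ∃ a b : G, a * b ≠ b * a) (f : G →* ℂˣ) :
    f = 1 := by
  rcases IsSimpleGroup.eq_bot_or_eq_top_of_normal f.ker inferInstance with hk | hk
  · obtain ⟨a, b, hab⟩ := hna
    exact absurd ((MonoidHom.ker_eq_bot_iff f).1 hk (by rw [map_mul, map_mul, mul_comm])) hab
  · exact MonoidHom.ker_eq_top_iff.1 hk

theorem eq_one_of_degree_eq_pow (hM : Cfsg.IsPModular p M) [IsSimpleGroup G]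
    (hna : ∃ a b : G, a * b ≠ b * a) (χ : IrrCharacter G)
    (hχ : χ ∈ Cfsg.principalBlock M G) (k : ℕ) (hdeg : (χ : G → ℂ) 1 = (p : ℂ) ^ k) :
    (χ : G → ℂ) = fun _ => 1 := by
  classical
  obtain ⟨d, ρ, hρ, hρc⟩ := χ.2
  have hd : Module.finrank ℂ (Fin d → ℂ) = p ^ k := by
    have h1 := hdeg
    rw [← hρc, Representation.char_one] at h1
    exact_mod_cast h1
  rcases Nat.eq_zero_or_pos k with rfl | hk
  · obtain ⟨f, hf⟩ := Characters.exists_hom_of_degree_one
      (Characters.isCharacter_of_isIrr χ.2) (by simpa using hdeg)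
    rw [hf, hom_eq_one_of_simple hna f]
    simp
  have hpG : p ∣ Nat.card G :=
    (dvd_pow_self p hk.ne').trans (hd ▸ Characters.finrank_dvd_card ρ)
  obtain ⟨S⟩ : Nonempty (Sylow p G) := inferInstance
  haveI : Nontrivial (S : Subgroup G) :=
    (Subgroup.nontrivial_iff_ne_bot _).2 (S.ne_bot_of_dvd_card hpG)
  haveI : Nontrivial (Subgroup.center (S : Subgroup G)) := S.2.center_nontrivial
  obtain ⟨z', hz'⟩ := exists_ne (1 : Subgroup.center (S : Subgroup G))
  set z : G := ((z' : (S : Subgroup G)) : G)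
  have hz1 : z ≠ 1 := fun h => hz' (Subtype.ext (Subtype.ext h))
  have hSC : (S : Subgroup G) ≤ Subgroup.centralizer ({z} : Set G) := fun s hs =>
    Subgroup.mem_centralizer_singleton_iff.2
      (congrArg Subtype.val (Subgroup.mem_center_iff.1 z'.2 ⟨s, hs⟩))
  have hidx : ¬ p ∣ (Subgroup.centralizer ({z} : Set G)).index := fun h =>
    S.not_dvd_index (h.trans (Subgroup.index_dvd_of_le hSC))
  have hcop : Nat.Coprime (Module.finrank ℂ (Fin d → ℂ))
      (Subgroup.centralizer ({z} : Set G)).index := by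
    rw [hd]
    exact Nat.Coprime.pow_left k (((Fact.out : p.Prime).coprime_iff_not_dvd).2 hidx)
  rcases Characters.char_zero_or_norm_of_coprime ρ z hcop with h | h
  · exfalso
    have h1 := hχ z
    rw [Cfsg.centralChar, Cfsg.centralChar, ← hρc, h] at h1
    simp only [mul_one, div_one, mul_zero, zero_div, sub_zero] at h1
    exact hidx ((memLocalIdeal_natCast_iff hM _).1 h1)
  obtain ⟨ω, hω, -⟩ := Characters.exists_scalar_of_norm_char_eq ρ z h
  rcases IsSimpleGroup.eq_bot_or_eq_top_of_normal (MonoidHom.ker ρ) inferInstance with hker | hker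
  · exfalso
    have hcent : z ∈ Subgroup.center G :=
      Subgroup.mem_center_iff.2 fun x => (MonoidHom.ker_eq_bot_iff ρ).1 hker (by
        rw [map_mul, map_mul, hω]; ext v; simp)
    rcases IsSimpleGroup.eq_bot_or_eq_top_of_normal (Subgroup.center G) inferInstance with hc | hc
    · exact hz1 (Subgroup.mem_bot.1 (hc ▸ hcent))
    · obtain ⟨a, b, hab⟩ := hna
      exact hab (Subgroup.mem_center_iff.1 (show b ∈ Subgroup.center G from
        hc ▸ Subgroup.mem_top b) a)
  · have hconst : ∀ x : G, (χ : G → ℂ) x = (χ : G → ℂ) 1 := fun x => by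
      rw [← hρc, Representation.character, Representation.character,
        MonoidHom.mem_ker.1 (show x ∈ MonoidHom.ker ρ from hker ▸ Subgroup.mem_top x), map_one ρ]
    by_contra hne
    have hfun : (χ : G → ℂ) = (χ : G → ℂ) 1 • (fun _ : G => (1 : ℂ)) := funext fun x => by
      simp [hconst x]
    have h1 := Characters.classInner_isIrr_ne χ.2 Characters.isIrr_one hne
    rw [hfun, Characters.classInner_smul_left,
      Characters.classInner_isIrr_self Characters.isIrr_one, mul_one] at h1
    exact Characters.irr_one_ne_zero χ.2 h1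

theorem eq_zero_of_singular_of_defect_zero (hM : Cfsg.IsPModular p M) (χ : IrrCharacter G)
    (h : ¬ p ∣ Nat.card G / Cfsg.charDegree (χ : G → ℂ)) {y : G} (hy : p ∣ orderOf y) :
    (χ : G → ℂ) y = 0 := by
  classical
  have hA : IsBlockUnion M ({χ} : Set (IrrCharacter G)) :=
    (defect_zero_iff hM χ).1 h ▸ isBlockUnion_of_isPBlock (isPBlock_blockOf χ)
  have := blockCoeff_eq_zero_of_singular hM hA hy
  rw [Cfsg.blockCoeff, finsum_mem_singleton] at this
  simpa [Characters.irr_one_ne_zero χ.2, Nat.card_pos.ne'] using this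

theorem no_commuting_prime_element [IsSimpleGroup G] (q r : ℕ) (a b : ℕ) (hq : q.Prime)
    [Fact r.Prime] (hpr : p ≠ r) (hqr : q ≠ r) (hcard : Nat.card G = p ^ a * q ^ b * r)
    {z x : G} (hz : orderOf z = p) (hx : orderOf x = r) (hc : Commute z x) : False := by
  classical
  have hp : p.Prime := Fact.out
  have hr : r.Prime := Fact.out
  have hna : ∃ u v : G, u * v ≠ v * u := by
    by_contra! hcm
    letI : CommGroup G := { ‹Group G› with mul_comm := hcm }
    have hprime : (Nat.card G).Prime := IsSimpleGroup.prime_card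
    have h1 := (Nat.prime_dvd_prime_iff_eq hp hprime).1 (hz ▸ orderOf_dvd_natCard z)
    have h2 := (Nat.prime_dvd_prime_iff_eq hr hprime).1 (hx ▸ orderOf_dvd_natCard x)
    exact hpr (h1.trans h2.symm)
  have hrG : ¬ r * r ∣ Nat.card G := by
    intro h
    rw [hcard] at h
    have h' := Nat.dvd_of_mul_dvd_mul_right hr.pos h
    rcases hr.dvd_mul.1 h' with h'' | h''
    · exact hpr ((Nat.prime_dvd_prime_iff_eq hr hp).1 (hr.dvd_of_dvd_pow h'')).symm
    · exact hqr ((Nat.prime_dvd_prime_iff_eq hr hq).1 (hr.dvd_of_dvd_pow h'')).symm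
  obtain ⟨M₁, hM₁⟩ := exists_isPModular p hp
  haveI := hM₁.2.1.isPrime
  obtain ⟨M₂, hM₂⟩ := exists_isPModular r hr
  haveI := hM₂.2.1.isPrime
  set y := z * x
  have hy : orderOf y = p * r := by
    rw [hc.orderOf_mul_eq_mul_orderOf_of_coprime, hz, hx]
    rw [hz, hx]
    exact (Nat.coprime_primes hp hr).2 hpr
  let one : IrrCharacter G := ⟨fun _ => 1, Characters.isIrr_one⟩
  have hB : Cfsg.IsPBlock M₁ (Cfsg.principalBlock M₁ G) := ⟨one, rfl⟩
  have hsum := sum_union_mul_conj_eq_zero hM₁ (isBlockUnion_of_isPBlock hB) (x := 1) (y := y)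
    (by rw [orderOf_one]; exact hp.not_dvd_one) (hy ▸ dvd_mul_right p r)
  rw [Fintype.sum_eq_add_sum_compl one, if_pos (show one ∈ Cfsg.principalBlock M₁ G from mem_blockOf_self one)] at hsum
  have hint : IsIntegral ℤ (((1 : ℕ) : ℂ) / (q : ℂ)) := by
    have h1 : ((1 : ℕ) : ℂ) / (q : ℂ) = -(∑ χ ∈ ({one} : Finset (IrrCharacter G))ᶜ,
        (if χ ∈ Cfsg.principalBlock M₁ G then (χ : G → ℂ) 1 * conj ((χ : G → ℂ) y) else 0) /
          (q : ℂ)) := by
      rw [← Finset.sum_div, ← neg_div, eq_neg_of_add_eq_zero_right hsum, neg_neg]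
      simp [one]
    rw [h1]
    refine IsIntegral.neg (IsIntegral.sum _ fun χ hχ => ?_)
    split_ifs with hmem
    swap
    · simpa using (isIntegral_zero : IsIntegral ℤ (0 : ℂ))
    by_cases h0 : (χ : G → ℂ) y = 0
    · simpa [h0] using (isIntegral_zero : IsIntegral ℤ (0 : ℂ))
    have hne : χ ≠ one := by simpa using hχ
    obtain ⟨m, hm⟩ : q ∣ Cfsg.charDegree (χ : G → ℂ) := by
      by_contra hqd
      have hdvd := charDegree_dvd_card χ
      rw [hcard] at hdvd
      have hr' : ¬ r ∣ Cfsg.charDegree (χ : G → ℂ) := by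
        intro hrd
        refine h0 (eq_zero_of_singular_of_defect_zero hM₂ χ (fun h => hrG ?_)
          (hy ▸ dvd_mul_left r p))
        have := mul_dvd_mul hrd h
        rwa [Nat.mul_div_cancel' (charDegree_dvd_card χ)] at this
      have hdvd' : Cfsg.charDegree (χ : G → ℂ) ∣ p ^ a :=
        (Nat.Coprime.pow_right b ((hq.coprime_iff_not_dvd.2 hqd).symm)).dvd_of_dvd_mul_right
          (((hr.coprime_iff_not_dvd.2 hr').symm).dvd_of_dvd_mul_right hdvd)
      obtain ⟨k, -, hk⟩ := (Nat.dvd_prime_pow hp).1 hdvd'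
      exact hne (Subtype.ext (eq_one_of_degree_eq_pow hM₁ hna χ hmem k
        (by rw [← charDegree_cast, hk, Nat.cast_pow])))
    rw [← charDegree_cast χ, hm, Nat.cast_mul, mul_assoc,
      mul_div_cancel_left₀ _ (Nat.cast_ne_zero.2 hq.ne_zero)]
    rw [← Characters.character_inv (Characters.isCharacter_of_isIrr χ.2)]
    exact (isIntegral_algebraMap (x := (m : ℤ))).mul
      (Characters.character_isIntegral (Characters.isCharacter_of_isIrr χ.2) _)
  exact hq.ne_one (Nat.dvd_one.1 (Characters.dvd_of_isIntegral_div hq.ne_zero hint))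

end CfsgLib.Blocks
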