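import Cfsg.Agent.Blocks.BrauerMap
import Cfsg.Agent.Blocks.PPart
import Cfsg.Agent.Blocks.RegularSupport

/-!
# Brauer's second main theorem

For `h ∈ H` with the centralizer of its p-part in `H`, a union `A` of blocks of `H` and a union
`F` of blocks of `G` whose idempotent has zero induced central character on `A`, the
`A`-part of `k ↦ χ (k * h)` vanishes for every `χ ∈ F`.
-/

set_option autoImplicit false
set_option linter.style.haveILetI false
set_option linter.unusedSectionVars false

namespace CfsgLib.Blocks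

open Cfsg
open scoped ComplexConjugate

universe u

variable {G : Type u} [Group G] [Fintype G]

section Ext

variable {R S : Type*} [CommRing R] [CommRing S] (H : Subgroup G)

/-- The inclusion of the group algebra of a subgroup. -/
noncomputable def extRing : MonoidAlgebra R H →+* MonoidAlgebra R G :=
  MonoidAlgebra.mapDomainRingHom R H.subtype

theorem extRing_single (h : H) (r : R) :
    extRing H (MonoidAlgebra.single h r) = MonoidAlgebra.single (h : G) r := by
  simp [extRing]

theorem coeff_extRing_coe (w : MonoidAlgebra R H) (h : H) :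
    (extRing H w).coeff (h : G) = w.coeff h := by
  classical
  induction w using MonoidAlgebra.induction_linear with
  | zero => simp
  | add x y hx hy => simp [hx, hy]
  | single g r => simp [extRing_single, Finsupp.single_apply]

theorem coeff_extRing_notMem (w : MonoidAlgebra R H) {g : G} (hg : g ∉ H) :
    (extRing H w).coeff g = 0 := by
  classical
  induction w using MonoidAlgebra.induction_linear with
  | zero => simp
  | add x y hx hy => simp [hx, hy]
  | single h r =>
    rw [extRing_single, MonoidAlgebra.coeff_single, Finsupp.single_apply,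
      if_neg fun (e : (h : G) = g) => hg (e ▸ h.2)]

theorem map_extRing (f : R →+* S) (w : MonoidAlgebra R H) :
    MonoidAlgebra.mapRingHom G f (extRing H w) = extRing H (MonoidAlgebra.mapRingHom H f w) := by
  induction w using MonoidAlgebra.induction_linear with
  | zero => simp
  | add x y hx hy => simp [hx, hy]
  | single h r => simp [extRing_single]

end Ext

theorem isFixed_extRing {k : Type*} [Field k] {P H : Subgroup G} (hP : P ≤ H) (a : Ctr k H) :
    BlockPairs.IsFixed P (extRing H (a : MonoidAlgebra k H)) := by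
  intro u hu
  refine MonoidAlgebra.ext (Finsupp.ext fun g => ?_)
  rw [BlockPairs.conjA_coeff]
  by_cases hg : g ∈ H
  · have h1 := coeff_extRing_coe H (a : MonoidAlgebra k H) ⟨u⁻¹ * g * u,
      H.mul_mem (H.mul_mem (H.inv_mem (hP hu)) hg) (hP hu)⟩
    have h2 := coeff_extRing_coe H (a : MonoidAlgebra k H) ⟨g, hg⟩
    dsimp only at h1 h2
    rw [h1, h2]
    have := coeff_conj_of_mem_ctr a.2 (⟨g, hg⟩ : H) (⟨u, hP hu⟩⁻¹)
    rw [← this]
    congr 1
    exact Subtype.ext (by simp)
  · have hg' : u⁻¹ * g * u ∉ H := fun h => hg (by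
      have := H.mul_mem (H.mul_mem (hP hu) h) (H.inv_mem (hP hu))
      simpa [mul_assoc] using this)
    rw [coeff_extRing_notMem H _ hg, coeff_extRing_notMem H _ hg']

variable {M : Ideal AlgInt} [M.IsPrime] {p : ℕ} [Fact p.Prime]

/-- The product of the two idempotents dies under the Brauer map. -/
theorem br_extRing_mul_eq_zero (hM : Cfsg.IsPModular p M) {H : Subgroup G} [Fintype H]
    {P : Subgroup G} (hP : IsPGroup p P) (hPH : P ≤ H)
    (hCH : Subgroup.centralizer (P : Set G) ≤ H) {A : Set (IrrCharacter H)}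
    (hA : IsBlockUnion M A) (f : Ctr (Res M) G) (hf : f * f = f)
    (h0 : ∀ ξ ∈ A, omegaBar M ξ (resCtr H f) = 0) :
    BlockPairs.br P (extRing H (idemBar M A hA : MonoidAlgebra (Res M) H) *
      (f : MonoidAlgebra (Res M) G)) = 0 := by
  haveI := charP_res hM
  classical
  set e : Ctr (Res M) H := idemBar M A hA with he
  set e1 := extRing H (e : MonoidAlgebra (Res M) H)
  set f1 := (f : MonoidAlgebra (Res M) G)
  set f2 := extRing H (resCtr H f : MonoidAlgebra (Res M) H)
  have hbr : BlockPairs.br P f2 = BlockPairs.br P f1 := by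
    refine MonoidAlgebra.ext (Finsupp.ext fun g => ?_)
    by_cases hg : g ∈ Subgroup.centralizer (P : Set G)
    · rw [BlockPairs.br_coeff_mem P _ hg, BlockPairs.br_coeff_mem P _ hg]
      have := coeff_extRing_coe H (resCtr H f : MonoidAlgebra (Res M) H) ⟨g, hCH hg⟩
      rwa [coeff_resCtr] at this
    · rw [BlockPairs.br_coeff_not_mem P _ hg, BlockPairs.br_coeff_not_mem P _ hg]
  have hF1 : BlockPairs.IsFixed P f1 := isFixed_of_mem_ctr P f
  have hFe : BlockPairs.IsFixed P e1 := isFixed_extRing hPH e
  set u := BlockPairs.br P (e1 * f1) with hu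
  have hu1 : u = BlockPairs.br P e1 * BlockPairs.br P f1 := BlockPairs.br_mul hP hFe hF1
  have hcomm : Commute e1 f1 := Subring.mem_center_iff.1 f.2 e1
  have hee : e1 * e1 = e1 := by
    rw [← map_mul, ← Subring.coe_mul, idemBar_mul_self]
  have hprod : BlockPairs.IsFixed P (e1 * f1) := fun v hv => by
    rw [BlockPairs.conjA_mul, hFe v hv, hF1 v hv]
  have huu : u * u = u := by
    rw [hu, ← BlockPairs.br_mul hP hprod hprod, hcomm.symm.mul_mul_mul_comm, hee,
      ← Subring.coe_mul, hf]
  have hn : IsNilpotent (e * resCtr H f) := isNilpotent_of_omegaBar_eq_zero _ fun ξ => by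
    rw [map_mul, omegaBar_idemBar]
    split_ifs with h
    · rw [h0 ξ h, mul_zero]
    · rw [zero_mul]
  obtain ⟨n, hn⟩ := hn
  set w := e1 * f2 with hw
  have hwpow : w ^ (n + 1) = 0 := by
    rw [hw, ← map_mul, ← map_pow, ← Subring.coe_mul, ← SubmonoidClass.coe_pow,
      pow_eq_zero_of_le (Nat.le_succ n) hn, ZeroMemClass.coe_zero, map_zero]
  have hwfix : BlockPairs.IsFixed P w := by
    rw [hw, ← map_mul, ← Subring.coe_mul]; exact isFixed_extRing hPH _
  have hbw : BlockPairs.br P w = u := by
    rw [hw, hu1, BlockPairs.br_mul hP hFe (isFixed_extRing hPH _), hbr]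
  have hpow : ∀ m, BlockPairs.br P (w ^ (m + 1)) = u ∧ BlockPairs.IsFixed P (w ^ (m + 1)) := by
    intro m
    induction m with
    | zero => rw [zero_add, pow_one]; exact ⟨hbw, hwfix⟩
    | succ m ih =>
      rw [pow_succ w (m + 1)]
      exact ⟨by rw [BlockPairs.br_mul hP ih.2 hwfix, ih.1, hbw, huu],
        fun v hv => by rw [BlockPairs.conjA_mul, ih.2 v hv, hwfix v hv]⟩
  have := (hpow n).1
  rw [hwpow, BlockPairs.br_zero] at this
  exact this.symm

open Classical in
/-- Brauer's second main theorem, idempotent form, for unions of blocks. -/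
theorem second_main (hM : Cfsg.IsPModular p M) {H : Subgroup G} [Fintype H] {h : H}
    (hC : ∀ z : G, Cfsg.IsPPart p (h : G) z → Subgroup.centralizer ({z} : Set G) ≤ H)
    {A : Set (IrrCharacter H)} (hA : IsBlockUnion M A) {F : Set (IrrCharacter G)}
    (hF : IsBlockUnion M F) (h0 : ∀ ξ ∈ A, omegaBar M ξ (resCtr H (idemBar M F hF)) = 0)
    {χ : IrrCharacter G} (hχ : χ ∈ F) :
    ∑ k : H, Cfsg.blockCoeff A k * (χ : G → ℂ) ((k : G) * (h : G)) = 0 := by
  have hp : p.Prime := Fact.out
  obtain ⟨x, hx⟩ := exists_isPPart hp (h : G)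
  have hxC := hC x hx
  obtain ⟨y, hxy, hcomm, ⟨j, hj⟩, hy⟩ := hx
  set P := Subgroup.zpowers x
  have hP : IsPGroup p P := IsPGroup.of_card (n := j) (by rw [Nat.card_zpowers, hj])
  have hPH : P ≤ H := by
    rw [Subgroup.zpowers_le]
    exact hxC (Subgroup.mem_centralizer_singleton_iff.2 rfl)
  have hcen : ∀ g : G, Commute g x → g ∈ Subgroup.centralizer (P : Set G) := fun g hg =>
    Subgroup.mem_centralizer_iff.2 fun v ⟨i, hi⟩ => hi ▸ (hg.symm.zpow_left i).eq
  have hCH : Subgroup.centralizer (P : Set G) ≤ H := fun g hg => hxC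
    (Subgroup.mem_centralizer_singleton_iff.2
      (Subgroup.mem_centralizer_iff.1 hg x (Subgroup.mem_zpowers x)).symm)
  set fA := setIdemO M A (memLocalRing_blockCoeff hA) with hfA
  set fF := setIdemO M F (memLocalRing_blockCoeff hF) with hfF
  have iA : fA * fA = fA := ctr_ext_omegaO fun ψ => by
    rw [map_mul, hfA, omegaO_setIdemO]; split_ifs <;> simp
  have iF : fF * fF = fF := ctr_ext_omegaO fun ψ => by
    rw [map_mul, hfF, omegaO_setIdemO]; split_ifs <;> simp
  set E := extRing H (fA : MonoidAlgebra (localRing M) H) * (fF : MonoidAlgebra (localRing M) G)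
    with hE
  have hcF : ∀ w, Commute w (fF : MonoidAlgebra (localRing M) G) := fun w =>
    Subring.mem_center_iff.1 fF.2 w
  have hEE : E * E = E := by
    rw [hE, (hcF _).symm.mul_mul_mul_comm, ← map_mul, ← Subring.coe_mul, ← Subring.coe_mul, iA, iF]
  have hsingle : Commute (MonoidAlgebra.single (x * y) (1 : localRing M)) E := by
    rw [hxy, hE, ← extRing_single H h (1 : localRing M)]
    exact Commute.mul_right ((show Commute (MonoidAlgebra.single h (1 : localRing M))
      (fA : MonoidAlgebra (localRing M) H) from Subring.mem_center_iff.1 fA.2 _).map _) (hcF _)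
  have hI : ∀ g, Commute g x → Cfsg.MemLocalIdeal M (E.coeff g : ℂ) := by
    intro g hg
    rw [← red_eq_zero_iff, ← MonoidAlgebra.coeff_mapRingHom (red M), hE, map_mul, map_extRing]
    have := congrArg (fun z : MonoidAlgebra (Res M) G => z.coeff g)
      (br_extRing_mul_eq_zero hM hP hPH hCH hA (idemBar M F hF) (idemBar_mul_self F hF) h0)
    rw [BlockPairs.br_coeff_mem P _ (hcen g hg)] at this
    exact this
  have key := BlocksLocal.sum_coeff_mul_eq_zero_second_main hM hj hy hcomm E hEE hsingle hI
    (χ : G → ℂ) (Characters.isClassFunction_of_isIrr χ.2)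
  rw [hxy] at key
  set T := MonoidAlgebra.mapRingHom G (localRing M).subtype
  have h2 : ∀ w : MonoidAlgebra ℂ G,
      evalFun (χ : G → ℂ) (MonoidAlgebra.single (h : G) 1 * w) =
        ∑ g : G, w.coeff g * (χ : G → ℂ) ((h : G) * g) := fun w => by
    rw [evalFun]
    exact (Fintype.sum_equiv (Equiv.mulLeft (h : G)) _ _ fun g => by simp [mul_assoc]).symm
  have h3 : T E = extRing H (setIdemC A : MonoidAlgebra ℂ H) * (setIdemC F : MonoidAlgebra ℂ G) := by
    rw [hE, map_mul, map_extRing,
      ← toC_setIdemO (M := M) A (memLocalRing_blockCoeff hA),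
      ← toC_setIdemO (M := M) F (memLocalRing_blockCoeff hF)]
    rfl
  have h4 := h2 (T E)
  have hTE : ∀ g, (T E).coeff g = (E.coeff g : ℂ) := fun g => by simp [T]
  simp only [hTE] at h4
  rw [key, h3, ← mul_assoc, Subring.mem_center_iff.1 (setIdemC F).2, evalFun_central_mul,
    omega_setIdemC, if_pos hχ, one_mul, h2] at h4
  refine Eq.trans ?_ h4
  have hsupp : ∀ g : G, g ∉ H →
      (extRing H (setIdemC A : MonoidAlgebra ℂ H)).coeff g * (χ : G → ℂ) ((h : G) * g) = 0 :=
    fun g hg => by rw [coeff_extRing_notMem H _ hg, zero_mul]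
  rw [← Finset.sum_subset (Finset.subset_univ (Finset.univ.map ⟨((↑) : H → G), Subtype.val_injective⟩))
    (fun g _ hg => hsupp g fun hgH => hg (Finset.mem_map.2 ⟨⟨g, hgH⟩, Finset.mem_univ _, rfl⟩)),
    Finset.sum_map]
  refine Finset.sum_congr rfl fun k _ => ?_
  rw [Function.Embedding.coeFn_mk, coeff_extRing_coe, coeff_setIdemC,
    Characters.classFunction_mul_comm (Characters.isClassFunction_of_isIrr χ.2) (h : G) (k : G)]

open Classical in
/-- The block part of a class function at a p-regular or any element, through the idempotent. -/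
theorem blockPart_eq_sum (A : Set (IrrCharacter G)) {θ : G → ℂ}
    (hθ : Cfsg.IsClassFunction G θ) (y : G) :
    Cfsg.blockPart A θ y = ∑ k : G, Cfsg.blockCoeff A k * θ (k * y) := by
  rw [Cfsg.blockPart, finsum_irr_mem]
  rw [show (Fintype.ofFinite G) = ‹Fintype G› from Subsingleton.elim _ _]
  conv_rhs => rw [Characters.classFunction_expansion hθ]
  simp only [Finset.sum_apply, Pi.smul_apply, smul_eq_mul, Finset.mul_sum]
  rw [Finset.sum_comm]
  refine Finset.sum_congr rfl fun η _ => ?_
  have h1 : ∑ k : G, Cfsg.blockCoeff A k * (η : G → ℂ) (k * y) =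
      evalFun (η : G → ℂ) ((setIdemC A : MonoidAlgebra ℂ G) * MonoidAlgebra.single y 1) := by
    rw [evalFun]
    exact Fintype.sum_equiv (Equiv.mulRight y) _ _ fun k => by simp [mul_assoc]
  have h2 : evalFun (η : G → ℂ) (MonoidAlgebra.single y 1) = (η : G → ℂ) y := by
    rw [evalFun, Finset.sum_eq_single y (fun b _ hb => by simp [hb.symm]) (by simp)]
    simp
  have h3 : ∑ k : G, Cfsg.blockCoeff A k *
      (Cfsg.classInner θ (η : G → ℂ) * (η : G → ℂ) (k * y)) =
      Cfsg.classInner θ (η : G → ℂ) * ∑ k : G, Cfsg.blockCoeff A k * (η : G → ℂ) (k * y) := by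
    rw [Finset.mul_sum]; exact Finset.sum_congr rfl fun k _ => by ring
  rw [h3, h1, evalFun_central_mul, omega_setIdemC, h2]
  split_ifs <;> simp

end CfsgLib.Blocks
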